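import Groth.Agent.L03.BlowPt.Ramanujam
import Groth.Agent.L03.SurfAdj.Tools
import Groth.Agent.L21.RR.Sections

/-!
# Vanishing of `H¹` on effective divisors with positive Euler characteristic
-/

set_option autoImplicit false
set_option linter.style.haveILetI false
set_option linter.unusedSectionVars false
set_option backward.isDefEq.respectTransparency false

universe u

open CategoryTheory CategoryTheory.Limits AlgebraicGeometry TopologicalSpace
open Groth.L22 Groth.L22.Inter Groth.L22.Nef Groth.L22.Big Groth.L22.CartierDecomp Groth.L03.SurfNum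
open Groth.L03.SurfAdj (hhEquiv nonempty_twistQuot_equiv euler_three curve_euler)
open Groth.L00.Tensor (tensorIso tensorComm tensorUnitLeft tensorUnitRight tensorAssoc)
open Groth.L16.CohLinear (hmap overLin exact_hmap_hmap exact_hmap_delta)
open Groth.L21.RR (st one oneSec e0)
open Groth.L03.BlowPt.Ramanujam

noncomputable section

namespace Groth.L03.BlowPt.Rational

variable {X : Scheme.{u}} (k : Type u) [Field k] [X.Over (Spec (CommRingCat.of k))]
  [IsProper (X ↘ Spec (CommRingCat.of k))] [IsIntegral X] (hd : topologicalKrullDim X = (2 : ℕ))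
  (hreg : ∀ x : X, IsRegularLocalRing (X.presheaf.stalk x))

include k hd hreg

theorem inv_of_eff {Z : X.IdealSheafData} (hZ : BlowUp.IsEffCartierIdeal Z) : PicF.IsInvertible (ClSub.idealMod Z) :=
  (Groth.Agent.L19.IdealInvertible.isEffCartier_iff _).2 hZ

theorem subsingleton_h2_quot {Z : X.IdealSheafData} (hZ : BlowUp.IsEffCartierIdeal Z) {L : X.Modules}
    (hL : PicF.IsInvertible L) : Subsingleton (Coh.HH X (CohB1.tensorMod L (ClSub.quotMod Z)) 2) := by
  haveI := Groth.L21.RR.isNoetherian_of_proper (X := X) k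
  letI : Z.subscheme.Over (Spec (CommRingCat.of k)) := ⟨Z.subschemeι ≫ (X ↘ (Spec (CommRingCat.of k)))⟩
  haveI : IsProper (Z.subscheme ↘ Spec (CommRingCat.of k)) :=
    inferInstanceAs (IsProper (Z.subschemeι ≫ (X ↘ Spec (CommRingCat.of k))))
  haveI := Groth.L21.RR.isNoetherian_of_proper (X := Z.subscheme) k
  have hd1 : topologicalKrullDim Z.subscheme ≤ (1 : ℕ) := by
    have h1 := dim_le_of_generic_notMem (n := 1) Z.support.isClosed
      (Groth.L03.SurfAmple.genericPoint_mem_of_isEffCartier hZ) hd.le
    rw [IsHomeomorph.topologicalKrullDim_eq _ Z.subschemeι.isEmbedding.toHomeomorph.isHomeomorph,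
      Scheme.IdealSheafData.range_subschemeι]
    exact h1
  obtain ⟨q⟩ := nonempty_twistQuot_equiv k Z hL 2
  exact @Equiv.subsingleton _ _ q.toEquiv (subsingleton_HH_of_dim hd1 _ (le_refl 2))

theorem finite_h {L : X.Modules} (hL : PicF.IsInvertible L) (I : X.IdealSheafData) (n : ℕ) :
    Module.Finite k (Coh.HH X (CohB1.tensorMod L (ClSub.quotMod I)) n) :=
  haveI := Groth.L21.RR.isNoetherian_of_proper (X := X) k
  Groth.L16.ProperFinite.finite_HH k (Groth.L21.RR.isCoh_twistQuot (L := L) (I := I) hL) n

theorem euler_twist {Z : X.IdealSheafData} (hZ : BlowUp.IsEffCartierIdeal Z) {L : X.Modules}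
    (hL : PicF.IsInvertible L) :
    Curv2.euler k X (ClSub.quotMod Z) + degOn k Z L =
      (Module.finrank k (Coh.HH X (CohB1.tensorMod L (ClSub.quotMod Z)) 0) : ℤ) -
        Module.finrank k (Coh.HH X (CohB1.tensorMod L (ClSub.quotMod Z)) 1) := by
  haveI := subsingleton_h2_quot k hd hreg hZ hL
  rw [degOn, add_sub_cancel, Groth.L03.Euler.euler_iso (tensorComm _ L), euler_three k hd,
    Module.finrank_zero_of_subsingleton (R := k) (M := Coh.HH X (CohB1.tensorMod L (ClSub.quotMod Z)) 2)]
  simp

theorem degOn_eq {Z : X.IdealSheafData} (hZ : BlowUp.IsEffCartierIdeal Z) {L : X.Modules} (hL : PicF.IsInvertible L)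
    {D : X.IdealSheafData} (hD : BlowUp.IsEffCartierIdeal D) :
    (degOn k Z (CohB1.tensorMod L (ClSub.idealMod D)) : ℚ) =
      degOn k Z L - ii k (ClSub.idealMod D) (ClSub.idealMod Z) := by
  rw [degOn_cast k (inv_of_eff k hd hreg hZ) (Groth.L18.GenLoc.isInvertible_tensor hL (inv_of_eff k hd hreg hD)),
    degOn_cast k (inv_of_eff k hd hreg hZ) hL,
    ii_tensor_right k hd.le (inv_of_eff k hd hreg hZ) hL (inv_of_eff k hd hreg hD),
    ii_comm k (ClSub.idealMod Z) (ClSub.idealMod D)]
  ring

theorem degOn_structure (Z : X.IdealSheafData) : degOn k Z (Coh.structureModule X) = 0 := by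
  rw [degOn, Groth.L03.Euler.euler_iso (Groth.L00.Tensor.tensorUnitRight _), sub_self]

/-- Vanishing on a sum from the pieces. -/
theorem step {D I : X.IdealSheafData} (hD : BlowUp.IsEffCartierIdeal D) {L : X.Modules} (hL : PicF.IsInvertible L)
    (h₁ : Subsingleton (Coh.HH X (CohB1.tensorMod (CohB1.tensorMod L (ClSub.idealMod D)) (ClSub.quotMod I)) 1))
    (h₃ : Subsingleton (Coh.HH X (CohB1.tensorMod L (ClSub.quotMod D)) 1)) :
    Subsingleton (Coh.HH X (CohB1.tensorMod L (ClSub.quotMod (D * I))) 1) := by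
  obtain ⟨χ, w, hS⟩ := QuotSeq.exists_shortExact (inv_of_eff k hd hreg hD) I
  have hT := Groth.L16.FrameIso.shortExact_tensor_left (Groth.L21.RR.isFlat_of_isInvertible hL) _ hS
  have h₁' : Subsingleton (Coh.HH X (CohB1.tensorMod L (CohB1.tensorMod (ClSub.idealMod D) (ClSub.quotMod I))) 1) :=
    (hhEquiv k (tensorAssoc L (ClSub.idealMod D) (ClSub.quotMod I)) 1).symm.toEquiv.subsingleton
  refine subsingleton_of_forall_eq 0 fun x => ?_
  obtain ⟨c, hc⟩ := (exact_hmap_hmap hT 1 x).1 (h₃.elim _ _)
  rw [← hc, h₁'.elim c 0]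
  exact map_zero _

/-- Vanishing passes to smaller divisors. -/
theorem of_mul {D I : X.IdealSheafData} (hD : BlowUp.IsEffCartierIdeal D) (hI : BlowUp.IsEffCartierIdeal I)
    {L : X.Modules} (hL : PicF.IsInvertible L)
    (h : Subsingleton (Coh.HH X (CohB1.tensorMod L (ClSub.quotMod (D * I))) 1)) :
    Subsingleton (Coh.HH X (CohB1.tensorMod L (ClSub.quotMod D)) 1) := by
  obtain ⟨χ, w, hS⟩ := QuotSeq.exists_shortExact (inv_of_eff k hd hreg hD) I
  have hT := Groth.L16.FrameIso.shortExact_tensor_left (Groth.L21.RR.isFlat_of_isInvertible hL) _ hS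
  haveI := subsingleton_h2_quot k hd hreg hI (Groth.L18.GenLoc.isInvertible_tensor hL (inv_of_eff k hd hreg hD))
  have h2 : Subsingleton (Coh.HH X (CohB1.tensorMod L (CohB1.tensorMod (ClSub.idealMod D) (ClSub.quotMod I))) 2) :=
    (hhEquiv k (tensorAssoc L (ClSub.idealMod D) (ClSub.quotMod I)) 2).symm.toEquiv.subsingleton
  refine subsingleton_of_forall_eq 0 fun x => ?_
  obtain ⟨c, hc⟩ := (exact_hmap_delta hT 1 x).1 (h2.elim _ _)
  rw [← hc, h.elim c 0]
  exact map_zero _

theorem one_le_h0_quot {Z : X.IdealSheafData} (hZ0 : Z ≠ ⊤) :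
    1 ≤ Module.finrank k (Coh.HH X (ClSub.quotMod Z) 0) := by
  haveI := Groth.L21.RR.isNoetherian_of_proper (X := X) k
  haveI := Groth.L16.ProperFinite.finite_HH k (Groth.L21.RR.isCoh_quotMod Z) 0
  refine Module.finrank_pos_iff.2 ⟨⟨(e0 _).symm
    ((ClSub.toSubscheme Z).app ⊤ (oneSec X)), 0, fun h0 => ?_⟩⟩
  obtain ⟨p, hp⟩ : (Z.support : Set X).Nonempty := by
    by_contra hne
    refine hZ0 ?_
    rw [← Scheme.IdealSheafData.support_eq_bot_iff]
    exact TopologicalSpace.Closeds.ext (Set.not_nonempty_iff_eq_empty.1 hne)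
  refine st_one_ne_zero_of_mem Z hp ?_
  rw [AddEquiv.map_eq_zero_iff] at h0
  rw [Groth.L21.RR.st_one _ p (W := ⊤) trivial, h0]
  simp [Groth.L18.Frame.rs]

theorem h1_iff {Z : X.IdealSheafData} :
    Subsingleton (Coh.HH X (CohB1.tensorMod (Coh.structureModule X) (ClSub.quotMod Z)) 1) ↔
      Subsingleton (Coh.HH X (ClSub.quotMod Z) 1) :=
  (hhEquiv k (tensorUnitLeft (ClSub.quotMod Z)) 1).toEquiv.subsingleton_congr

theorem one_le_euler {Z : X.IdealSheafData} (hZ : BlowUp.IsEffCartierIdeal Z) (hZ0 : Z ≠ ⊤)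
    (h : Subsingleton (Coh.HH X (ClSub.quotMod Z) 1)) : 1 ≤ Curv2.euler k X (ClSub.quotMod Z) := by
  have hO := Groth.L18.Ample.isInvertible_structureModule X
  have h1 := euler_twist k hd hreg hZ hO
  haveI := (h1_iff k hd hreg).2 h
  rw [degOn_structure k hd hreg, add_zero, Module.finrank_zero_of_subsingleton
    (M := Coh.HH X (CohB1.tensorMod (Coh.structureModule X) (ClSub.quotMod Z)) 1),
    (hhEquiv k (tensorUnitLeft (ClSub.quotMod Z)) 0).finrank_eq] at h1
  have h2 := one_le_h0_quot k hd hreg hZ0
  omega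

theorem pt_inj {y z : X} (h : pt y = pt z) : y = z := by
  have h1 : closure ({y} : Set X) = closure {z} := by
    rw [← range_pt y, ← range_pt z]
    simp only [Scheme.IdealSheafData.range_subschemeι, h]
  exact ((specializes_iff_mem_closure.2 (h1 ▸ subset_closure rfl)).antisymm
    (specializes_iff_mem_closure.2 (h1.symm ▸ subset_closure rfl))).eq.symm

theorem ii_prod_nonneg {y : X} (hy : topologicalKrullDim (closure ({y} : Set X)) = (1 : ℕ)) (m : Multiset X)
    (hm : ∀ z ∈ m, topologicalKrullDim (closure ({z} : Set X)) = (1 : ℕ)) (hym : y ∉ m) :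
    0 ≤ ii k (ClSub.idealMod (prodPt m)) (ClSub.idealMod (pt y)) := by
  have hyI := inv_of_eff k hd hreg (isEffCartier_pt k hd hreg hy)
  induction m using Multiset.induction_on with
  | empty =>
    have h1 := Groth.L03.SurfAmple.ii_ideal_mul k hd.le (I := (1 : X.IdealSheafData)) (J := 1)
      Groth.L22.Ideals.isEffCartier_top Groth.L22.Ideals.isEffCartier_top hyI
    rw [one_mul] at h1
    rw [prodPt, Multiset.map_zero, Multiset.prod_zero]
    linarith
  | cons z m ih =>
    have hm' := fun w hw => hm w (Multiset.mem_cons_of_mem hw)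
    have hz := hm z (Multiset.mem_cons_self z m)
    rw [prodPt_cons, Groth.L03.SurfAmple.ii_ideal_mul k hd.le (isEffCartier_pt k hd hreg hz)
      (isEffCartier_prodPt k hd hreg m hm') hyI]
    haveI := isIntegral_pt y
    haveI := isIntegral_pt z
    refine add_nonneg (Gram.curve_pair_nonneg k hd.le (pt z) (pt y) (dim_support_pt k hd hreg hz)
      (dim_support_pt k hd hreg hy) (inv_of_eff k hd hreg (isEffCartier_pt k hd hreg hz)) hyI fun h => ?_)
      (ih hm' fun h => hym (Multiset.mem_cons_of_mem h))
    exact hym ((pt_inj k hd hreg h) ▸ Multiset.mem_cons_self z m)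

theorem stalkIdeal_prodPt (m : Multiset X) (hm : ∀ y ∈ m, topologicalKrullDim (closure ({y} : Set X)) = (1 : ℕ))
    [DecidableEq X] {z : X} (hz : topologicalKrullDim (closure ({z} : Set X)) = (1 : ℕ)) (U : X.affineOpens) (hzU : z ∈ U.1) :
    stalkIdeal (prodPt m) U hzU = IsLocalRing.maximalIdeal _ ^ m.count z := by
  induction m using Multiset.induction_on with
  | empty =>
    rw [prodPt, Multiset.map_zero, Multiset.prod_zero, Scheme.IdealSheafData.one_eq_top, stalkIdeal_top,
      Multiset.count_zero, pow_zero, Ideal.one_eq_top]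
  | cons y m ih =>
    rw [prodPt_cons, stalkIdeal_mul, ih fun w hw => hm w (Multiset.mem_cons_of_mem hw)]
    by_cases hyz : z = y
    · subst hyz
      haveI := isIntegral_pt z
      have hgen : IsGenericPoint z ((pt z).support : Set X) := by
        simpa [genericPoint_pt] using isGenericPoint_ι (pt z)
      rw [stalkIdeal_generic _ hgen, Multiset.count_cons_self, pow_succ']
    · rw [stalkIdeal_eq_top _ U hzU (not_mem_pt_of_ne k hd hreg hz (hm y (Multiset.mem_cons_self y m)) hyz),
        Ideal.top_mul, Multiset.count_cons_of_ne hyz]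

theorem le_of_prodPt_le {m m' : Multiset X} (hm : ∀ y ∈ m, topologicalKrullDim (closure ({y} : Set X)) = (1 : ℕ))
    (hm' : ∀ y ∈ m', topologicalKrullDim (closure ({y} : Set X)) = (1 : ℕ)) (h : prodPt m ≤ prodPt m') :
    m' ≤ m := by
  classical
  rw [Multiset.le_iff_count]
  intro z
  by_cases hz : z ∈ m'
  swap
  · rw [Multiset.count_eq_zero.2 hz]; exact Nat.zero_le _
  obtain ⟨_, ⟨U, hU, rfl⟩, hzU, -⟩ :=
    X.isBasis_affineOpens.exists_subset_of_mem_open (Set.mem_univ z) isOpen_univ
  have h1 : stalkIdeal (prodPt m) ⟨U, hU⟩ hzU ≤ stalkIdeal (prodPt m') ⟨U, hU⟩ hzU := Ideal.map_mono (h _)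
  rw [stalkIdeal_prodPt k hd hreg m hm (hm' z hz), stalkIdeal_prodPt k hd hreg m' hm' (hm' z hz)] at h1
  by_contra hlt
  rw [not_le] at hlt
  exact hlt.ne (maximalIdeal_pow_inj k hd hreg (hm' z hz) (le_antisymm h1 (Ideal.pow_le_pow_right hlt.le)))

theorem euler_cons {y : X} (hy : topologicalKrullDim (closure ({y} : Set X)) = (1 : ℕ)) {m : Multiset X}
    (hm : ∀ z ∈ m, topologicalKrullDim (closure ({z} : Set X)) = (1 : ℕ)) :
    (Curv2.euler k X (ClSub.quotMod (prodPt (y ::ₘ m))) : ℚ) = Curv2.euler k X (ClSub.quotMod (pt y)) +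
      Curv2.euler k X (ClSub.quotMod (prodPt m)) - ii k (ClSub.idealMod (prodPt m)) (ClSub.idealMod (pt y)) := by
  rw [prodPt_cons, euler_quot_mul k (isEffCartier_pt k hd hreg hy) (isEffCartier_prodPt k hd hreg m hm), ii_comm]

theorem one_le_ii_of_pos {A B : X.Modules} (h : 0 < ii k A B) : 1 ≤ ii k A B := by
  rw [← intNum_eq_ii k hd.le] at h ⊢
  have h' : (0 : ℤ) < FGA.intNum k X 2 ![A, B] (Coh.structureModule X) := by exact_mod_cast h
  exact_mod_cast h'

section AlgClosed

variable [IsAlgClosed k]

theorem euler_pt_le_one {y : X} (hy : topologicalKrullDim (closure ({y} : Set X)) = (1 : ℕ)) :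
    Curv2.euler k X (ClSub.quotMod (pt y)) ≤ 1 :=
  haveI := isIntegral_pt y
  (curve_euler k (pt y) (dim_support_pt k hd hreg hy)).1

/-- On a curve of genus zero modules of degree at least `-1` have no `H¹`. -/
theorem subsingleton_h1_curve {y : X} (hy : topologicalKrullDim (closure ({y} : Set X)) = (1 : ℕ))
    (hχ : Curv2.euler k X (ClSub.quotMod (pt y)) = 1) {L : X.Modules} (hL : PicF.IsInvertible L)
    (hdeg : -1 ≤ degOn k (pt y) L) : Subsingleton (Coh.HH X (CohB1.tensorMod L (ClSub.quotMod (pt y))) 1) := by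
  haveI := isIntegral_pt y
  have hyd := dim_support_pt k hd hreg hy
  have heu := euler_twist k hd hreg (isEffCartier_pt k hd hreg hy) hL
  haveI := finite_h k hd hreg hL (pt y) 1
  rcases lt_or_ge (degOn k (pt y) L) 0 with hlt | hge
  · haveI := subsingleton_h0_quot k (pt y) hyd hL hlt
    rw [Module.finrank_zero_of_subsingleton (M := Coh.HH X (CohB1.tensorMod L (ClSub.quotMod (pt y))) 0), hχ] at heu
    exact (Module.finrank_zero_iff (R := k)).1 (by omega)
  letI : (pt y).subscheme.Over (Spec (CommRingCat.of k)) := ⟨(pt y).subschemeι ≫ (X ↘ (Spec (CommRingCat.of k)))⟩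
  haveI : IsProper ((pt y).subscheme ↘ Spec (CommRingCat.of k)) :=
    inferInstanceAs (IsProper ((pt y).subschemeι ≫ (X ↘ Spec (CommRingCat.of k))))
  haveI := Groth.L21.RR.isNoetherian_of_proper (X := (pt y).subscheme) k
  have hdC : topologicalKrullDim (pt y).subscheme ≤ 1 := by
    rw [← dim_closure_image (pt y).subschemeι, ← dim_support (pt y), hyd]
  have hO := (curve_euler k (pt y) hyd).2.1 hχ
  obtain ⟨q⟩ := nonempty_twistQuot_equiv k (pt y) hL 0
  obtain ⟨q'⟩ := nonempty_twistQuot_equiv k (pt y) hL 1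
  haveI := finite_h k hd hreg hL (pt y) 0
  haveI : Nontrivial (Coh.HH (pt y).subscheme ((Scheme.Modules.pullback (pt y).subschemeι).obj L) 0) := by
    haveI : Nontrivial (Coh.HH X (CohB1.tensorMod L (ClSub.quotMod (pt y))) 0) :=
      (Module.finrank_pos_iff (R := k)).1 (by omega)
    exact q.symm.toEquiv.nontrivial
  obtain ⟨s, hs⟩ := Groth.L21.RR.exists_hom_ne_zero (L := (Scheme.Modules.pullback (pt y).subschemeι).obj L)
  have hN := Groth.L18.Ample.isInvertible_pullback (pt y).subschemeι hL
  haveI : Subsingleton (Coh.HH (pt y).subscheme ((Scheme.Modules.pullback (pt y).subschemeι).obj L) 1) :=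
    (Groth.L21.RR.surjective_hmap_one_of_suppClosed hdC s (Groth.L21.RR.suppClosed_cokernel hdC hN hs)).subsingleton
  exact q'.toEquiv.subsingleton

/-- An effective divisor all of whose parts have positive Euler characteristic has no `H¹`. -/
theorem subsingleton_h1_of_euler_pos : ∀ (n : ℕ) (m : Multiset X), m.card = n + 1 →
    (∀ y ∈ m, topologicalKrullDim (closure ({y} : Set X)) = (1 : ℕ)) →
    (∀ m' ≤ m, m' ≠ 0 → 1 ≤ Curv2.euler k X (ClSub.quotMod (prodPt m'))) →
      Subsingleton (Coh.HH X (CohB1.tensorMod (Coh.structureModule X) (ClSub.quotMod (prodPt m))) 1) := by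
  classical
  have hO := Groth.L18.Ample.isInvertible_structureModule X
  intro n
  induction n with
  | zero =>
    intro m hm hmc hpos
    obtain ⟨y, rfl⟩ := Multiset.card_eq_one.1 hm
    have hy := hmc y (Multiset.mem_singleton_self y)
    have hone : prodPt ({y} : Multiset X) = pt y := by simp [prodPt]
    have h1 := hpos {y} le_rfl (Multiset.singleton_ne_zero y)
    rw [hone] at h1 ⊢
    exact subsingleton_h1_curve k hd hreg hy (le_antisymm (euler_pt_le_one k hd hreg hy) h1) hO
      (by rw [degOn_structure k hd hreg]; norm_num)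
  | succ n ih =>
    intro m hm hmc hpos
    by_cases hex : ∃ y ∈ m, ii k (ClSub.idealMod (prodPt (m.erase y))) (ClSub.idealMod (pt y)) ≤ 1
    · obtain ⟨y, hy, hle⟩ := hex
      have hyd := hmc y hy
      have hyc := isEffCartier_pt k hd hreg hyd
      have hm'c : ∀ z ∈ m.erase y, topologicalKrullDim (closure ({z} : Set X)) = (1 : ℕ) :=
        fun z hz => hmc z (Multiset.mem_of_mem_erase hz)
      have hD := isEffCartier_prodPt k hd hreg (m.erase y) hm'c
      rw [← Multiset.cons_erase hy, prodPt_cons, mul_comm]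
      refine step k hd hreg hD hO ?_ (ih (m.erase y) (by rw [Multiset.card_erase_of_mem hy, hm]; rfl) hm'c
        fun m' hle' hne => hpos m' (hle'.trans (Multiset.erase_le y m)) hne)
      have h1 := hpos {y} (Multiset.singleton_le.2 hy) (Multiset.singleton_ne_zero y)
      have hone : prodPt ({y} : Multiset X) = pt y := by simp [prodPt]
      rw [hone] at h1
      refine subsingleton_h1_curve k hd hreg hyd (le_antisymm (euler_pt_le_one k hd hreg hyd) h1)
        (Groth.L18.GenLoc.isInvertible_tensor hO (inv_of_eff k hd hreg hD)) ?_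
      have h2 := degOn_eq k hd hreg hyc hO hD
      rw [degOn_structure k hd hreg] at h2
      have h3 : ((-1 : ℤ) : ℚ) ≤ degOn k (pt y) (CohB1.tensorMod (Coh.structureModule X)
          (ClSub.idealMod (prodPt (m.erase y)))) := by
        rw [h2]; push_cast; linarith
      exact_mod_cast h3
    · exfalso
      push Not at hex
      -- `2χ` is at most `∑ (2 + y² - Z·y)`
      have key : ∀ s : Multiset X, (∀ y ∈ s, topologicalKrullDim (closure ({y} : Set X)) = (1 : ℕ)) →
          2 * (Curv2.euler k X (ClSub.quotMod (prodPt s)) : ℚ) +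
            ii k (ClSub.idealMod (prodPt s)) (ClSub.idealMod (prodPt s)) ≤
          (s.map fun y => 2 + ii k (ClSub.idealMod (pt y)) (ClSub.idealMod (pt y))).sum := by
        intro s hs
        induction s using Multiset.induction_on with
        | empty =>
          have h1 := Groth.L03.SurfAmple.ii_ideal_mul k hd.le (I := (1 : X.IdealSheafData)) (J := 1)
            Groth.L22.Ideals.isEffCartier_top Groth.L22.Ideals.isEffCartier_top
            (inv_of_eff k hd hreg (Groth.L22.Ideals.isEffCartier_top (X := X)))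
          rw [one_mul] at h1
          rw [prodPt, Multiset.map_zero, Multiset.prod_zero, euler_quot_one k, Multiset.map_zero, Multiset.sum_zero]
          rw [← Scheme.IdealSheafData.one_eq_top] at h1
          push_cast
          linarith
        | cons y s ihs =>
          have hs' := fun z hz => hs z (Multiset.mem_cons_of_mem hz)
          have hy := hs y (Multiset.mem_cons_self y s)
          have hyc := isEffCartier_pt k hd hreg hy
          have hsc := isEffCartier_prodPt k hd hreg s hs'
          have hyI := inv_of_eff k hd hreg hyc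
          have hsI := inv_of_eff k hd hreg hsc
          have hpI := inv_of_eff k hd hreg (Groth.L22.Ideals.isEffCartier_mul hyc hsc)
          rw [euler_cons k hd hreg hy hs', prodPt_cons, Multiset.map_cons, Multiset.sum_cons,
            Groth.L03.SurfAmple.ii_ideal_mul k hd.le hyc hsc hpI, ii_comm k (ClSub.idealMod (pt y)) (ClSub.idealMod (pt y * _)),
            Groth.L03.SurfAmple.ii_ideal_mul k hd.le hyc hsc hyI, ii_comm k (ClSub.idealMod (prodPt s)) (ClSub.idealMod (pt y * _)),
            Groth.L03.SurfAmple.ii_ideal_mul k hd.le hyc hsc hsI]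
          have := ihs hs'
          have hp : (Curv2.euler k X (ClSub.quotMod (pt y)) : ℚ) ≤ 1 := by exact_mod_cast euler_pt_le_one k hd hreg hy
          linarith [ii_comm k (ClSub.idealMod (pt y)) (ClSub.idealMod (prodPt s))]
      have hlin : ∀ (A : X.Modules), PicF.IsInvertible A → ∀ s : Multiset X,
          (∀ y ∈ s, topologicalKrullDim (closure ({y} : Set X)) = (1 : ℕ)) →
          ii k (ClSub.idealMod (prodPt s)) A = (s.map fun y => ii k (ClSub.idealMod (pt y)) A).sum := by
        intro A hA s hs
        induction s using Multiset.induction_on with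
        | empty =>
          have h1 := Groth.L03.SurfAmple.ii_ideal_mul k hd.le (I := (1 : X.IdealSheafData)) (J := 1)
            Groth.L22.Ideals.isEffCartier_top Groth.L22.Ideals.isEffCartier_top hA
          rw [one_mul] at h1
          rw [prodPt, Multiset.map_zero, Multiset.prod_zero, Multiset.map_zero, Multiset.sum_zero]
          linarith
        | cons y s ihs =>
          have hs' := fun z hz => hs z (Multiset.mem_cons_of_mem hz)
          rw [prodPt_cons, Groth.L03.SurfAmple.ii_ideal_mul k hd.le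
            (isEffCartier_pt k hd hreg (hs y (Multiset.mem_cons_self y s))) (isEffCartier_prodPt k hd hreg s hs') hA,
            ihs hs', Multiset.map_cons, Multiset.sum_cons]
      have hZc := isEffCartier_prodPt k hd hreg m hmc
      have h1 := key m hmc
      rw [hlin _ (inv_of_eff k hd hreg hZc) m hmc] at h1
      have h2 : (m.map fun y => 2 + ii k (ClSub.idealMod (pt y)) (ClSub.idealMod (pt y))).sum ≤
          (m.map fun y => ii k (ClSub.idealMod (pt y)) (ClSub.idealMod (prodPt m))).sum := by
        refine Multiset.sum_map_le_sum_map _ _ fun y hy => ?_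
        have hy' := hmc y hy
        have hyc := isEffCartier_pt k hd hreg hy'
        have hec := isEffCartier_prodPt k hd hreg (m.erase y) fun z hz => hmc z (Multiset.mem_of_mem_erase hz)
        rw [ii_comm k (ClSub.idealMod (pt y)) (ClSub.idealMod (prodPt m))]
        conv_rhs => rw [← Multiset.cons_erase hy]
        rw [prodPt_cons, Groth.L03.SurfAmple.ii_ideal_mul k hd.le hyc hec (inv_of_eff k hd hreg hyc)]
        have h3 : (2 : ℚ) ≤ ii k (ClSub.idealMod (prodPt (m.erase y))) (ClSub.idealMod (pt y)) := by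
          have h := hex y hy
          rw [← intNum_eq_ii k hd.le] at h ⊢
          have h' : (1 : ℤ) < FGA.intNum k X 2 ![ClSub.idealMod (prodPt (m.erase y)), ClSub.idealMod (pt y)]
              (Coh.structureModule X) := by exact_mod_cast h
          exact_mod_cast h'
        linarith
      have h4 : (1 : ℚ) ≤ Curv2.euler k X (ClSub.quotMod (prodPt m)) := by
        exact_mod_cast hpos m le_rfl (fun h0 => by simp [h0] at hm)
      linarith

/-- Computation sequences. -/
inductive Seq : Multiset X → Prop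
  | single (y : X) : Seq {y}
  | cons (y : X) (m : Multiset X) : Seq m → 0 < ii k (ClSub.idealMod (prodPt m)) (ClSub.idealMod (pt y)) →
      Seq (y ::ₘ m)

theorem seq_facts {m : Multiset X} (h : Seq k m)
    (hmc : ∀ y ∈ m, topologicalKrullDim (closure ({y} : Set X)) = (1 : ℕ)) :
    Curv2.euler k X (ClSub.quotMod (prodPt m)) ≤ 1 ∧ (1 ≤ Curv2.euler k X (ClSub.quotMod (prodPt m)) →
      ∀ L : X.Modules, PicF.IsInvertible L → (∀ y ∈ m, 0 ≤ degOn k (pt y) L) →
        Subsingleton (Coh.HH X (CohB1.tensorMod L (ClSub.quotMod (prodPt m))) 1)) := by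
  induction h with
  | single y =>
    have hy := hmc y (Multiset.mem_singleton_self y)
    have hone : prodPt ({y} : Multiset X) = pt y := by simp [prodPt]
    rw [hone]
    exact ⟨euler_pt_le_one k hd hreg hy, fun h1 L hL hdeg =>
      subsingleton_h1_curve k hd hreg hy (le_antisymm (euler_pt_le_one k hd hreg hy) h1) hL
        (le_trans (by norm_num) (hdeg y (Multiset.mem_singleton_self y)))⟩
  | cons y m _ hpos ih =>
    have hm' := fun z hz => hmc z (Multiset.mem_cons_of_mem hz)
    obtain ⟨hle, hvan⟩ := ih hm'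
    have hy := hmc y (Multiset.mem_cons_self y m)
    have h1 := euler_cons k hd hreg hy hm'
    have h2 := one_le_ii_of_pos k hd hreg hpos
    have hle' : (Curv2.euler k X (ClSub.quotMod (prodPt m)) : ℚ) ≤ 1 := by exact_mod_cast hle
    have hp : (Curv2.euler k X (ClSub.quotMod (pt y)) : ℚ) ≤ 1 := by exact_mod_cast euler_pt_le_one k hd hreg hy
    refine ⟨?_, fun hge L hL hdeg => ?_⟩
    · have : (Curv2.euler k X (ClSub.quotMod (prodPt (y ::ₘ m))) : ℚ) ≤ ((1 : ℤ) : ℚ) := by push_cast; linarith
      exact_mod_cast this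
    · have hge' : (1 : ℚ) ≤ Curv2.euler k X (ClSub.quotMod (prodPt (y ::ₘ m))) := by exact_mod_cast hge
      have e1 : (1 : ℤ) ≤ Curv2.euler k X (ClSub.quotMod (prodPt m)) := by
        have : ((1 : ℤ) : ℚ) ≤ Curv2.euler k X (ClSub.quotMod (prodPt m)) := by push_cast; linarith
        exact_mod_cast this
      have e2 : Curv2.euler k X (ClSub.quotMod (pt y)) = 1 := by
        have : (Curv2.euler k X (ClSub.quotMod (pt y)) : ℚ) = ((1 : ℤ) : ℚ) := by push_cast; linarith
        exact_mod_cast this
      have e3 : ii k (ClSub.idealMod (prodPt m)) (ClSub.idealMod (pt y)) = 1 := by linarith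
      have hyc := isEffCartier_pt k hd hreg hy
      have hmI := isEffCartier_prodPt k hd hreg m hm'
      rw [prodPt_cons, mul_comm]
      refine step k hd hreg hmI hL (subsingleton_h1_curve k hd hreg hy e2
        (Groth.L18.GenLoc.isInvertible_tensor hL (inv_of_eff k hd hreg hmI)) ?_)
        (hvan e1 L hL fun z hz => hdeg z (Multiset.mem_cons_of_mem hz))
      have h3 := degOn_eq k hd hreg hyc hL hmI
      have h4 : (0 : ℚ) ≤ degOn k (pt y) L := by exact_mod_cast hdeg y (Multiset.mem_cons_self y m)
      have h5 : ((-1 : ℤ) : ℚ) ≤ degOn k (pt y) (CohB1.tensorMod L (ClSub.idealMod (prodPt m))) := by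
        rw [h3, e3]; push_cast; linarith
      exact_mod_cast h5

end AlgClosed

end Groth.L03.BlowPt.Rational
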