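import Groth.Agent.L11.BlowSmooth.Alg
import Groth.Agent.L14.RegImmStalk.Stalk
import Groth.Agent.L14.RegImmStalk.Pair
import Groth.Agent.L03.RegImmFlat
import Groth.Agent.S5033
import Mathlib.RingTheory.KrullDimension.Regular
import Mathlib.AlgebraicGeometry.Noetherian

/-!
# Quasi-regular parameters at a regular closed point of dimension two
-/

set_option autoImplicit false
set_option linter.style.haveILetI false
set_option backward.isDefEq.respectTransparency false
set_option maxSynthPendingDepth 3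

universe u

open CategoryTheory AlgebraicGeometry TopologicalSpace RingTheory.Sequence IsLocalRing
open Groth.L11.BlowSmooth

noncomputable section

namespace Groth.L03.BlowPt

variable {X : Scheme.{u}} {x : X} (hx : IsClosed ({x} : Set X))

/-- The ideal sheaf of a closed point. -/
abbrev ptI : X.IdealSheafData := Scheme.IdealSheafData.vanishingIdeal ⟨{x}, hx⟩

theorem ideal_ptI (U : X.affineOpens) (hxU : x ∈ U.1) :
    (ptI hx).ideal U = (U.2.primeIdealOf ⟨x, hxU⟩).asIdeal := by
  have h : U.2.fromSpec ⁻¹' ({x} : Set X) = {U.2.primeIdealOf ⟨x, hxU⟩} := by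
    ext p
    simp only [Set.mem_preimage, Set.mem_singleton_iff]
    refine ⟨fun hp => U.2.fromSpec.isOpenEmbedding.injective ?_, fun hp => ?_⟩
    · rw [hp, U.2.fromSpec_primeIdealOf]
    · rw [hp, U.2.fromSpec_primeIdealOf]
  show PrimeSpectrum.vanishingIdeal (U.2.fromSpec ⁻¹' ({x} : Set X)) = _
  rw [h, PrimeSpectrum.vanishingIdeal_singleton]

theorem isMaximal_ptI (U : X.affineOpens) (hxU : x ∈ U.1) : ((ptI hx).ideal U).IsMaximal := by
  rw [ideal_ptI hx U hxU]
  refine (PrimeSpectrum.isClosed_singleton_iff_isMaximal _).1 ?_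
  have h : U.2.fromSpec ⁻¹' ({x} : Set X) = {U.2.primeIdealOf ⟨x, hxU⟩} := by
    ext p
    simp only [Set.mem_preimage, Set.mem_singleton_iff]
    refine ⟨fun hp => U.2.fromSpec.isOpenEmbedding.injective ?_, fun hp => ?_⟩
    · rw [hp, U.2.fromSpec_primeIdealOf]
    · rw [hp, U.2.fromSpec_primeIdealOf]
  have h2 := hx.preimage U.2.fromSpec.continuous
  rwa [h] at h2

/-- Two quasi-regular parameters generate the ideal of a regular closed point of dimension two on an
affine neighbourhood. -/
theorem exists_pair [IsLocallyNoetherian X] (hreg : IsRegularLocalRing (X.presheaf.stalk x))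
    (hd : ringKrullDim (X.presheaf.stalk x) = (2 : ℕ)) :
    ∃ (U : X.affineOpens) (f : Fin 2 → Γ(X, U.1)), x ∈ U.1 ∧ CAlgX.IsQuasiRegular f ∧
      (ptI hx).ideal U = sI f := by
  classical
  let I := ptI hx
  let i := I.subschemeι
  have hxI : x ∈ (I.support : Set X) := by
    simp [I, ptI]
  obtain ⟨z, hz⟩ : ∃ z, i z = x := by
    rw [← Scheme.IdealSheafData.range_subschemeι] at hxI; exact hxI
  haveI := Groth.L14.RegImmStalk.isNoetherianRing_stalk' (X := X) x
  have hker : ∀ (U : X.affineOpens) (hxU : x ∈ U.1),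
      (RingHom.ker (i.app U.1).hom).map (X.presheaf.germ U.1 x hxU).hom =
        maximalIdeal (X.presheaf.stalk x) := by
    intro U hxU
    rw [show RingHom.ker (i.app U.1).hom = I.ideal U from Scheme.IdealSheafData.ker_subschemeι_app I U,
      ideal_ptI hx U hxU]
    letI : Algebra Γ(X, U.1) (X.presheaf.stalk x) := (X.presheaf.germ U.1 x hxU).hom.toAlgebra
    haveI := U.2.isLocalization_stalk ⟨x, hxU⟩
    exact IsLocalization.AtPrime.map_eq_maximalIdeal (U.2.primeIdealOf ⟨x, hxU⟩).asIdeal _
  have hat : RegImm.IsRegularImmersionAt RegImm.Kind.quasi i z := by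
    rw [Groth.L14.RegImmStalk.regularAt_iff_stalk i _ z]
    have key : ∀ (y : X), y = x → ∀ (U : X.affineOpens) (hyU : y ∈ U.1), CInt.IsRegularIdeal
        ((RingHom.ker (i.app U.1).hom).map (X.presheaf.germ U.1 y hyU).hom) := by
      intro y hy U hyU
      subst hy
      rw [hker U hyU]
      haveI : IsRegularLocalRing (X.presheaf.stalk y ⧸ maximalIdeal (X.presheaf.stalk y)) :=
        IsRegularLocalRing.of_ringEquiv (RingEquiv.refl (ResidueField (X.presheaf.stalk y)))
      exact (Groth.Agent.S5033.result _ _).mp hreg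
    obtain ⟨U, hU, hzU, -⟩ :=
      exists_isAffineOpen_mem_and_subset (x := i z) (U := (⊤ : X.Opens)) trivial
    rw [Groth.L14.RegImmStalk.ker_stalkMap i hU inferInstance z hzU]
    exact key (i z) hz ⟨U, hU⟩ hzU
  obtain ⟨U, hzU, -, rs, hrs, hk⟩ := hat
  have hxU : x ∈ U.1 := hz ▸ hzU
  letI : Algebra Γ(X, U.1) (X.presheaf.stalk x) := (X.presheaf.germ U.1 x hxU).hom.toAlgebra
  haveI := U.2.isLocalization_stalk ⟨x, hxU⟩
  haveI : IsNoetherianRing Γ(X, U.1) := IsLocallyNoetherian.component_noetherian U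
  have hI : I.ideal U = Ideal.ofList rs := by
    rw [← hk]; exact (Scheme.IdealSheafData.ker_subschemeι_app I U).symm
  have hle : Ideal.ofList rs ≤ (U.2.primeIdealOf ⟨x, hxU⟩).asIdeal := (hI.symm.trans (ideal_ptI hx U hxU)).le
  have hw := Groth.L14.RegImmStalk.isWeaklyRegular_of_kind _ hrs _ hle (X.presheaf.stalk x)
  have hgen : Ideal.ofList (rs.map (algebraMap Γ(X, U.1) (X.presheaf.stalk x))) =
      maximalIdeal (X.presheaf.stalk x) := by
    rw [← Ideal.map_ofList, ← hI, ideal_ptI hx U hxU]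
    exact IsLocalization.AtPrime.map_eq_maximalIdeal (U.2.primeIdealOf ⟨x, hxU⟩).asIdeal _
  have hlen : rs.length = 2 := by
    have hr : IsRegular (X.presheaf.stalk x) (rs.map (algebraMap Γ(X, U.1) (X.presheaf.stalk x))) :=
      ⟨hw, fun e => (maximalIdeal.isMaximal (X.presheaf.stalk x)).ne_top (by
        rw [smul_eq_mul, Ideal.mul_top, hgen] at e; exact e.symm)⟩
    have h1 := ringKrullDim_add_length_eq_ringKrullDim_of_isRegular _ hr
    rw [hgen, show ringKrullDim (X.presheaf.stalk x ⧸ maximalIdeal (X.presheaf.stalk x)) = 0 from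
      ringKrullDim_eq_zero_of_field (ResidueField (X.presheaf.stalk x)), zero_add, List.length_map, hd] at h1
    exact_mod_cast h1
  refine ⟨U, rs.get ∘ Fin.cast hlen.symm, hxU, ?_, ?_⟩
  · have hq : CAlgX.IsQuasiRegular rs.get := hrs
    exact Groth.L03.RegImmFlat.isQuasiRegular_cast hlen.symm hq
  · rw [hI, sI]
    refine congrArg Ideal.span (Set.ext fun a => ?_)
    show a ∈ rs ↔ _
    constructor
    · intro ha
      obtain ⟨j, rfl⟩ := List.mem_iff_get.1 ha
      exact ⟨Fin.cast hlen j, rfl⟩
    · rintro ⟨j, rfl⟩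
      exact List.get_mem rs _

end Groth.L03.BlowPt
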