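import Groth.Agent.L03.BlowPt.Dominate
import Groth.Agent.L03.BlowPt.Pair
import Groth.Agent.L16.Connected.ZMTIso
import Groth.Agent.L22.Ideal
import Groth.Agent.L22.Div.Stalk
import Groth.Agent.L22.LocalDim
import Groth.Agent.S2821
import Groth.Agent.L15.CohFlat
import Mathlib.RingTheory.UniqueFactorizationDomain.GCDMonoid
import Mathlib.RingTheory.Polynomial.RationalRoot

/-!
# A proper birational map of regular surfaces with a curve over a point factors through its blow-up
-/

set_option autoImplicit false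
set_option linter.style.haveILetI false
set_option linter.unusedSectionVars false
set_option backward.isDefEq.respectTransparency false

universe u

open CategoryTheory CategoryTheory.Limits AlgebraicGeometry TopologicalSpace IsLocalRing
open Groth.L22

noncomputable section

namespace Groth.L03.BlowPt.Factor

variable {X Y : Scheme.{u}}

theorem dim_add_one_le {x x' : X} (h : x ⤳ x') (hne : x ≠ x') :
    ringKrullDim (X.presheaf.stalk x) + 1 ≤ ringKrullDim (X.presheaf.stalk x') := by
  obtain ⟨_, ⟨W, hW, rfl⟩, hxW, -⟩ :=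
    X.isBasis_affineOpens.exists_subset_of_mem_open (Set.mem_univ x') isOpen_univ
  change X.Opens at W
  replace hW : IsAffineOpen W := hW
  have hyW : x ∈ W := h.mem_open W.2 hxW
  rw [LocalDim.dim_stalk_eq_height hW hxW, LocalDim.dim_stalk_eq_height hW hyW]
  have hlt : (hW.primeIdealOf ⟨x, hyW⟩).asIdeal < (hW.primeIdealOf ⟨x', hxW⟩).asIdeal := by
    refine lt_of_le_of_ne (LocalDim.le_of_specializes hW hyW hxW h) fun e => hne ?_
    rw [← LocalDim.fromSpec_prime hW hyW, ← LocalDim.fromSpec_prime hW hxW, PrimeSpectrum.ext e]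
  exact_mod_cast Ideal.height_add_one_le_of_lt_of_isPrime hlt

/-- A closed point of a closed set without proper generisation in it is isolated in it. -/
theorem exists_open_inter_eq [IsLocallyNoetherian X] {Z : Set X} (hZ : IsClosed Z) {x : X} (hx : x ∈ Z)
    (hcl : IsClosed ({x} : Set X)) (hmax : ∀ z ∈ Z, z ⤳ x → z = x) :
    ∃ O : X.Opens, x ∈ O ∧ ∀ z ∈ O, z ∈ Z → z = x := by
  let I := Scheme.IdealSheafData.vanishingIdeal (⟨Z, hZ⟩ : Closeds X)
  haveI : IsLocallyNoetherian I.subscheme := LocallyOfFiniteType.isLocallyNoetherian I.subschemeι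
  have hr : Set.range I.subschemeι = Z := by
    rw [I.range_subschemeι]
    simp [I, Scheme.IdealSheafData.coe_support_vanishingIdeal]
  obtain ⟨w, hw⟩ : x ∈ Set.range I.subschemeι := hr.symm ▸ hx
  obtain ⟨O, hwO, hO⟩ := LocalDim.exists_open_of_maximal (x := w) fun v hv =>
    I.subschemeι.isEmbedding.injective <| by
      rw [hw]
      exact hmax _ (hr ▸ Set.mem_range_self v) (hw ▸ hv.map I.subschemeι.continuous)
  obtain ⟨O', hO', he⟩ := I.subschemeι.isEmbedding.isInducing.isOpen_iff.1 O.2
  refine ⟨⟨O', hO'⟩, ?_, fun z hz hzZ => ?_⟩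
  · have h : w ∈ I.subschemeι ⁻¹' O' := he.symm ▸ hwO
    exact hw ▸ h
  · obtain ⟨v, rfl⟩ : z ∈ Set.range I.subschemeι := hr.symm ▸ hzZ
    have hv : v ∈ (O : Set I.subscheme) := he.le hz
    have := (hO v hv).map I.subschemeι.continuous
    rw [hw] at this
    have h2 := this.mem_closure
    rwa [hcl.closure_eq, Set.mem_singleton_iff] at h2

theorem stalkIdeal_eq_of_le (I : X.IdealSheafData) {U U' : X.affineOpens} (h : U' ≤ U) {x : X} (hx : x ∈ U'.1) :
    Div.stalkIdeal I U x (h hx) = Div.stalkIdeal I U' x hx := by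
  rw [Div.stalkIdeal, Div.stalkIdeal, ← I.map_ideal h, Ideal.map_map]
  congr 1
  exact congrArg CommRingCat.Hom.hom (X.presheaf.germ_res (homOfLE h) x hx).symm

/-- The ideal at a point over a closed point in the total transform of the point. -/
theorem stalkIdeal_comap_pt (f : X ⟶ Y) (x : X) (hy : IsClosed ({f x} : Set Y)) (U : X.affineOpens) (hxU : x ∈ U.1) :
    Div.stalkIdeal ((ptI hy).comap f) U x hxU = (maximalIdeal (Y.presheaf.stalk (f x))).map (f.stalkMap x).hom := by
  obtain ⟨_, ⟨V, hV, rfl⟩, hyV, -⟩ :=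
    Y.isBasis_affineOpens.exists_subset_of_mem_open (Set.mem_univ (f x)) isOpen_univ
  change Y.Opens at V
  replace hV : IsAffineOpen V := hV
  obtain ⟨_, ⟨U', hU', rfl⟩, hxU', hle⟩ :=
    X.isBasis_affineOpens.exists_subset_of_mem_open (show x ∈ U.1 ⊓ f ⁻¹ᵁ V from ⟨hxU, hyV⟩) (U.1 ⊓ f ⁻¹ᵁ V).2
  change X.Opens at U'
  have hle' : U' ≤ U.1 ⊓ f ⁻¹ᵁ V := hle
  rw [stalkIdeal_eq_of_le _ (U := U) (U' := ⟨U', hU'⟩) (hle'.trans inf_le_left) hxU', Div.stalkIdeal,
    Groth.L22.Ideals.comap_ideal f _ ⟨V, hV⟩ ⟨U', hU'⟩ (hle'.trans inf_le_right), Ideal.map_map, ← CommRingCat.hom_comp]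
  have hg : f.appLE V U' (hle'.trans inf_le_right) ≫ X.presheaf.germ U' x hxU' =
      Y.presheaf.germ V (f x) hyV ≫ f.stalkMap x := by
    rw [Scheme.Hom.germ_stalkMap, Scheme.Hom.appLE, Category.assoc, TopCat.Presheaf.germ_res]
  rw [hg, CommRingCat.hom_comp, ← Ideal.map_map, ideal_ptI hy ⟨V, hV⟩ hyV]
  congr 1
  letI : Algebra Γ(Y, V) (Y.presheaf.stalk (f x)) := (Y.presheaf.germ V (f x) hyV).hom.toAlgebra
  haveI := hV.isLocalization_stalk ⟨f x, hyV⟩
  exact IsLocalization.AtPrime.map_eq_maximalIdeal (hV.primeIdealOf ⟨f x, hyV⟩).asIdeal _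

/-- A proper generisation in the fibre gives a prime over the closed point. -/
theorem exists_prime (f : X ⟶ Y) {x q : X} (hq : q ⤳ x) (hne : q ≠ x) (hfq : f q = f x) :
    ∃ P : Ideal (X.presheaf.stalk x), P.IsPrime ∧ P ≠ maximalIdeal _ ∧
      (maximalIdeal (Y.presheaf.stalk (f x))).map (f.stalkMap x).hom ≤ P := by
  refine ⟨(maximalIdeal (X.presheaf.stalk q)).comap (X.presheaf.stalkSpecializes hq).hom, inferInstance,
    fun he => ?_, Ideal.map_le_iff_le_comap.2 fun a ha => ?_⟩
  · obtain ⟨_, ⟨W, hW, rfl⟩, hxW, -⟩ :=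
      X.isBasis_affineOpens.exists_subset_of_mem_open (Set.mem_univ x) isOpen_univ
    change X.Opens at W
    replace hW : IsAffineOpen W := hW
    have hqW : q ∈ W := hq.mem_open W.2 hxW
    have hlt : (hW.primeIdealOf ⟨q, hqW⟩).asIdeal < (hW.primeIdealOf ⟨x, hxW⟩).asIdeal := by
      refine lt_of_le_of_ne (LocalDim.le_of_specializes hW hqW hxW hq) fun e => hne ?_
      rw [← LocalDim.fromSpec_prime hW hqW, ← LocalDim.fromSpec_prime hW hxW, PrimeSpectrum.ext e]
    obtain ⟨r, hrx, hrq⟩ := SetLike.exists_of_lt hlt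
    have h1 : ¬ IsUnit (X.presheaf.germ W x hxW r) := fun h =>
      (LocalDim.mem_basicOpen_iff hW hxW r).1 ((X.mem_basicOpen r x hxW).2 h) hrx
    have h2 : IsUnit (X.presheaf.germ W q hqW r) :=
      (X.mem_basicOpen r q hqW).1 ((LocalDim.mem_basicOpen_iff hW hqW r).2 hrq)
    have h3 : X.presheaf.germ W x hxW r ∈
        (maximalIdeal (X.presheaf.stalk q)).comap (X.presheaf.stalkSpecializes hq).hom :=
      he ▸ (mem_maximalIdeal _).2 h1
    rw [Ideal.mem_comap, mem_maximalIdeal] at h3
    refine h3 ?_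
    rwa [TopCat.Presheaf.germ_stalkSpecializes_apply]
  · rw [Ideal.mem_comap, Ideal.mem_comap, mem_maximalIdeal]
    intro hu
    rw [← ConcreteCategory.comp_apply, ← Scheme.Hom.stalkSpecializes_stalkMap, ConcreteCategory.comp_apply] at hu
    have h2 := isUnit_of_map_unit (f.stalkMap q).hom _ hu
    have h3 := h2.map (Y.presheaf.stalkSpecializes (specializes_of_eq hfq.symm : f x ⤳ f q)).hom
    refine (mem_maximalIdeal a).1 ha ?_
    rwa [← ConcreteCategory.comp_apply, TopCat.Presheaf.stalkSpecializes_comp, TopCat.Presheaf.stalkSpecializes_refl,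
      ConcreteCategory.id_apply] at h3

variable [IsIntegral X] [IsIntegral Y] [IsLocallyNoetherian X] [IsLocallyNoetherian Y] (f : X ⟶ Y) [IsProper f]
  (e : f (genericPoint X) = genericPoint Y) (hbij : Function.Bijective (Groth.L21.Curve.ffMap f e))
include hbij

theorem stalkMap_injective (x : X) : Function.Injective (f.stalkMap x).hom := fun a b h => by
  refine IsFractionRing.injective _ Y.functionField (hbij.1 ?_)
  rw [← Groth.L21.Curve.algebraMap_stalkMap f e, ← Groth.L21.Curve.algebraMap_stalkMap f e]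
  exact congrArg _ h

theorem exists_frac (x : X) (c : X.presheaf.stalk x) :
    ∃ p q : Y.presheaf.stalk (f x), q ≠ 0 ∧ c * (f.stalkMap x).hom q = (f.stalkMap x).hom p := by
  obtain ⟨w, hw⟩ := hbij.2 (algebraMap _ X.functionField c)
  obtain ⟨p, q, hq, rfl⟩ := IsFractionRing.div_surjective (A := Y.presheaf.stalk (f x)) w
  refine ⟨p, q, nonZeroDivisors.ne_zero hq, IsFractionRing.injective _ X.functionField ?_⟩
  rw [map_mul, ← hw]
  refine (congrArg _ (Groth.L21.Curve.algebraMap_stalkMap f e x q)).trans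
    (Eq.trans ?_ (Groth.L21.Curve.algebraMap_stalkMap f e x p).symm)
  rw [← map_mul, div_mul_cancel₀]
  exact fun h => nonZeroDivisors.ne_zero hq (IsFractionRing.injective _ Y.functionField (h.trans (map_zero _).symm))

/-- The total transform of a point with infinite fibre is a Cartier divisor. -/
theorem isEffCartier_comap (hX : ∀ x : X, IsRegularLocalRing (X.presheaf.stalk x))
    (hdX : ∀ x : X, ringKrullDim (X.presheaf.stalk x) ≤ 2)
    (hO : ∀ U : Y.Opens, IsIso (f.app U)) {y : Y} (hy : IsClosed ({y} : Set Y))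
    (hYy : IsRegularLocalRing (Y.presheaf.stalk y)) (hdy : ringKrullDim (Y.presheaf.stalk y) = (2 : ℕ))
    (hinf : ¬ (f ⁻¹' {y}).Finite) : BlowUp.IsEffCartierIdeal ((ptI hy).comap f) := by
  refine Div.isEffCartier_of_stalks _ fun x hx U hxU => ?_
  have hfx : f x = y := by
    rw [Scheme.IdealSheafData.support_comap] at hx
    simpa [ptI] using (show f x ∈ ((ptI hy).support : Set Y) from hx)
  subst hfx
  haveI := hX x
  haveI := (Groth.Agent.S2821.result (X.presheaf.stalk x)).2
  haveI : IsIntegrallyClosed (X.presheaf.stalk x) := inferInstance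
  rw [stalkIdeal_comap_pt]
  set φ := (f.stalkMap x).hom
  have hφ : Function.Injective φ := stalkMap_injective f e hbij x
  suffices hp : ((maximalIdeal (Y.presheaf.stalk (f x))).map φ).IsPrincipal by
    obtain ⟨a, ha⟩ := hp
    refine ⟨a, ha, mem_nonZeroDivisors_of_ne_zero fun h0 => ?_⟩
    rw [h0, Submodule.span_singleton_eq_bot.2 rfl, Ideal.map_eq_bot_iff_of_injective hφ] at ha
    have hf : IsField (Y.presheaf.stalk (f x)) := IsLocalRing.isField_iff_maximalIdeal_eq.2 ha
    rw [ringKrullDim_eq_zero_of_isField hf] at hdy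
    norm_num at hdy
  obtain ⟨s, t, hst⟩ : ∃ s t, maximalIdeal (Y.presheaf.stalk (f x)) = Ideal.span {s, t} := by
    have h : (maximalIdeal (Y.presheaf.stalk (f x))).spanFinrank = 2 := by
      have := (hYy.spanFinrank_maximalIdeal).trans hdy
      exact_mod_cast this
    have hfg : (maximalIdeal (Y.presheaf.stalk (f x))).FG := IsNoetherian.noetherian _
    obtain ⟨s, t, -, hst⟩ := Set.ncard_eq_two.1 ((Submodule.FG.generators_ncard hfg).trans h)
    exact ⟨s, t, by rw [← hst]; exact (Submodule.span_generators _).symm⟩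
  by_cases hq : ∃ q, q ⤳ x ∧ q ≠ x ∧ f q = f x
  · obtain ⟨q, hq, hne, hfq⟩ := hq
    obtain ⟨P, hP, hPm, hPle⟩ := exists_prime f hq hne hfq
    exact Dominate.isPrincipal_map_maximalIdeal φ hφ (hdX x) (exists_frac f e hbij x) s t hst P hPm hPle
  have hd1 : ringKrullDim (X.presheaf.stalk x) ≤ 1 := by
    by_contra hd
    have hcl : IsClosed ({x} : Set X) := by
      refine closure_subset_iff_isClosed.1 fun x' hx' => ?_
      by_contra hne
      refine hd ?_
      have h1 := (dim_add_one_le (specializes_iff_mem_closure.2 hx') (Ne.symm hne)).trans (hdX x')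
      revert h1
      induction ringKrullDim (X.presheaf.stalk x) using WithBot.recBotCoe with
      | bot => exact fun _ => bot_le
      | coe a =>
        intro h1
        have h1' : a + 1 ≤ (1 : ℕ∞) + 1 := by
          rw [one_add_one_eq_two]
          exact WithBot.coe_le_coe.1 h1
        exact_mod_cast (ENat.add_le_add_iff_right ENat.one_ne_top).1 h1'
    obtain ⟨O, hxO, hO'⟩ := exists_open_inter_eq (hy.preimage f.continuous) (show x ∈ f ⁻¹' {f x} from rfl) hcl
      fun z hz hzx => by_contra fun hne => hq ⟨z, hzx, hne, hz⟩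
    haveI := Groth.L16.Connected.geometricallyConnected_fiber f hO (f x)
    haveI : ConnectedSpace ↥(Limits.pullback (f.fiberToSpecResidueField (f x)) (𝟙 _)) :=
      GeometricallyConnected.geometrically_connectedSpace (f := f.fiberToSpecResidueField (f x)) _ _ _
        (IsPullback.of_hasPullback _ (𝟙 _))
    haveI : ConnectedSpace ↥(f.fiber (f x)) :=
      (Limits.pullback.fst (f.fiberToSpecResidueField (f x)) (𝟙 _)).homeomorph.surjective.connectedSpace
        (Limits.pullback.fst (f.fiberToSpecResidueField (f x)) (𝟙 _)).continuous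
    obtain ⟨w, hw⟩ : x ∈ Set.range (f.fiberι (f x)) := by rw [f.range_fiberι]; rfl
    refine hinf (Groth.L16.Connected.finite_preimage_of_isolated f (f x) w ?_)
    have he : ({w} : Set ↥(f.fiber (f x))) = f.fiberι (f x) ⁻¹' O := by
      ext v
      refine ⟨fun hv => by rw [Set.mem_singleton_iff.1 hv]; show f.fiberι (f x) w ∈ O; rw [hw]; exact hxO,
        fun hv => (f.fiberι (f x)).isEmbedding.injective ?_⟩
      rw [hw]
      refine hO' _ hv ?_
      have h := Set.mem_range_self (f := f.fiberι (f x)) v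
      rwa [f.range_fiberι] at h
    rw [he]
    exact O.2.preimage (f.fiberι (f x)).continuous
  haveI := Groth.L16.Connected.valuationRing_of_dim_le_one hd1
  exact IsBezout.isPrincipal_of_FG _ (IsNoetherian.noetherian _)

end Groth.L03.BlowPt.Factor

namespace Groth.L03.BlowPt.Factor

variable {X Y : Scheme.{u}} [IsIntegral X] [IsIntegral Y] [IsLocallyNoetherian X] [IsLocallyNoetherian Y]
  (f : X ⟶ Y) [IsProper f]

/-- A proper birational map of regular two-dimensional schemes factors through the blow-up of every point over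
which it is not an isomorphism. -/
theorem exists_factor (hX : ∀ x : X, IsRegularLocalRing (X.presheaf.stalk x))
    (hY : ∀ y : Y, IsRegularLocalRing (Y.presheaf.stalk y))
    (hdX : topologicalKrullDim X ≤ 2) (hdY : topologicalKrullDim Y ≤ 2)
    (hbir : ∃ V : Y.Opens, (V : Set Y).Nonempty ∧ IsIso (f ∣_ V)) {y : Y} (hy : IsClosed ({y} : Set Y))
    (hP : ∀ V : Y.Opens, y ∈ V → ¬ IsIso (f ∣_ V))
    {Y' : Scheme.{u}} {π : Y' ⟶ Y} (hπ : BlowUp.IsBlowUp π (ptI hy)) : ∃ g : X ⟶ Y', g ≫ π = f := by
  obtain ⟨V₀, hne, hV₀⟩ := hbir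
  have hη : genericPoint Y ∈ V₀ := (genericPoint_spec Y).mem_open_set_iff V₀.2 |>.2 (by simpa using hne)
  obtain ⟨x₀, hx₀⟩ := (f ∣_ V₀).surjective ⟨genericPoint Y, hη⟩
  have hfx : f x₀.1 = genericPoint Y := by
    rw [← morphismRestrict_base_coe, hx₀]
  have hξ : f (genericPoint X) = genericPoint Y :=
    (Specializes.antisymm (hfx ▸ (genericPoint_specializes x₀.1).map f.continuous) (genericPoint_specializes _)).eq
  have hbir' : Function.Bijective (f.stalkMap (genericPoint X)) := by
    have hmem : genericPoint X ∈ f ⁻¹ᵁ V₀ := by show f (genericPoint X) ∈ V₀; rw [hξ]; exact hη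
    rw [← ConcreteCategory.isIso_iff_bijective]
    exact ((MorphismProperty.isomorphisms CommRingCat).arrow_mk_iso_iff (morphismRestrictStalkMap f V₀ ⟨_, hmem⟩)).1
      (inferInstance : IsIso ((f ∣_ V₀).stalkMap ⟨_, hmem⟩))
  have hbij : Function.Bijective (Groth.L21.Curve.ffMap f hξ) :=
    hbir'.comp (ConcreteCategory.bijective_of_isIso (Y.presheaf.stalkCongr (.of_eq hξ)).inv)
  have hN : ∀ z : Y, IsIntegrallyClosed (Y.presheaf.stalk z) := fun z => by
    haveI := hY z
    haveI := (Groth.Agent.S2821.result (Y.presheaf.stalk z)).2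
    infer_instance
  have hO := Groth.L16.Connected.isIso_app_of_birational f hξ hN hbij
  obtain ⟨V, hV, hiso⟩ := Groth.L16.Connected.exists_isIso_restrict_finite_fibres f hO
  have hinf : ¬ (f ⁻¹' {y}).Finite := fun h => hP V ((hV y).2 h) hiso
  have hdy : ringKrullDim (Y.presheaf.stalk y) = (2 : ℕ) := by
    refine le_antisymm ((Groth.L15.CohFlat.ringKrullDim_stalk_le y).trans hdY) ?_
    by_contra hlt
    have hd1 : ringKrullDim (Y.presheaf.stalk y) ≤ 1 := by
      revert hlt
      induction ringKrullDim (Y.presheaf.stalk y) using WithBot.recBotCoe with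
      | bot => exact fun _ => bot_le
      | coe a =>
        intro hlt
        have h : a < 2 := not_le.1 fun h => hlt (WithBot.coe_le_coe.2 h)
        have h' : a ≤ 1 := (ENat.lt_add_one_iff ENat.one_ne_top).1 (by rwa [one_add_one_eq_two])
        exact_mod_cast h'
    haveI := hY y
    haveI := hN y
    haveI := Groth.L16.Connected.valuationRing_of_dim_le_one hd1
    refine hinf (Set.Subsingleton.finite fun a (ha : f a = y) b (hb : f b = y) => ?_)
    subst ha
    exact (Groth.L16.Connected.eq_of_valuationRing f hξ hbij a b hb).symm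
  obtain ⟨g, hg, -⟩ := hπ.2 X f (isEffCartier_comap f hξ hbij hX
    (fun x => (Groth.L15.CohFlat.ringKrullDim_stalk_le x).trans hdX) hO hy (hY y) hdy hinf)
  exact ⟨g, hg⟩

end Groth.L03.BlowPt.Factor
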