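import Groth.Agent.L03.BlowPt.CurveUnion
import Groth.Agent.L21.RR.IdealTwist
import Groth.Agent.L16.FrameIso

/-!
# The decomposition sequence of a product of ideals
-/

set_option autoImplicit false
set_option linter.style.haveILetI false
set_option linter.unusedSectionVars false
set_option backward.isDefEq.respectTransparency false

universe u

open CategoryTheory CategoryTheory.Limits AlgebraicGeometry TopologicalSpace
open Groth.L21.RR (st one bijective_smul_one tensorStalkEquiv exists_frame_stalk twπ)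

noncomputable section

namespace Groth.L03.BlowPt.QuotSeq

variable {X : Scheme.{u}}

theorem st_comp {M N P : X.Modules} (f : M ⟶ N) (g : N ⟶ P) (x : X) (v : M.presheaf.stalk x) :
    st (f ≫ g) x v = st g x (st f x v) := by
  have h := congr($((Groth.L00.Stk.F X x).map_comp f g) v)
  exact h

theorem st_zero {M N : X.Modules} (x : X) (v : M.presheaf.stalk x) : st (0 : M ⟶ N) x v = 0 := by
  have h : (Groth.L00.Stk.F X x).map (0 : M ⟶ N) = 0 := Functor.map_zero _ _ _
  exact congr($h v)

theorem st_toSubscheme_eq_zero_iff (I : X.IdealSheafData) {x : X} {V : X.Opens} (hV : IsAffineOpen V) (hxV : x ∈ V)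
    (a : X.presheaf.stalk x) :
    st (ClSub.toSubscheme I) x (a • one X x) = 0 ↔ a ∈ (I.ideal ⟨V, hV⟩).map (X.presheaf.germ V x hxV).hom := by
  have hex := (Groth.L21.Mod.exact_iff_stalk _).1 (Groth.L21.RR.shortExact_idealSeq I).exact x
  rw [ShortComplex.ab_exact_iff_ker_le_range] at hex
  constructor
  · intro h
    obtain ⟨u, hu⟩ := hex (show a • one X x ∈ _ from h)
    obtain ⟨r, hr, he⟩ := (Groth.L21.RR.range_st_idealModι I hV hxV _).1 ⟨u, hu⟩
    rwa [← (bijective_smul_one x).1 he]
  · intro h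
    obtain ⟨u, hu⟩ := (Groth.L21.RR.range_st_idealModι I hV hxV _).2 ⟨a, h, rfl⟩
    rw [← hu, ← st_comp, ClSub.idealModι, kernel.condition, st_zero]

theorem idealModι_toSubscheme {I J : X.IdealSheafData} (h : J ≤ I) :
    ClSub.idealModι J ≫ ClSub.toSubscheme I = 0 := by
  refine Groth.L21.Mod.hom_ext_stalk fun x => ?_
  obtain ⟨V, hV, hxV, -⟩ := exists_isAffineOpen_mem_and_subset (x := x) (U := ⊤) trivial
  ext v
  rw [Functor.map_zero]
  change st (ClSub.idealModι J ≫ ClSub.toSubscheme I) x v = 0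
  obtain ⟨r, hr, he⟩ := (Groth.L21.RR.range_st_idealModι J hV hxV _).1 ⟨v, rfl⟩
  rw [st_comp, ← he, st_toSubscheme_eq_zero_iff I hV hxV]
  exact Ideal.map_mono (h _) hr

/-- Restriction to a smaller closed subscheme. -/
def res {I J : X.IdealSheafData} (h : J ≤ I) : ClSub.quotMod J ⟶ ClSub.quotMod I :=
  (Groth.L21.RR.shortExact_idealSeq J).gIsCokernel.desc
    (CokernelCofork.ofπ (ClSub.toSubscheme I) (idealModι_toSubscheme h))

@[reassoc]
theorem toSubscheme_res {I J : X.IdealSheafData} (h : J ≤ I) :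
    ClSub.toSubscheme J ≫ res h = ClSub.toSubscheme I :=
  (Groth.L21.RR.shortExact_idealSeq J).gIsCokernel.fac _ WalkingParallelPair.one

theorem res_comp {I J K : X.IdealSheafData} (h : J ≤ I) (h' : K ≤ J) :
    res h' ≫ res h = res (h'.trans h) := by
  haveI := Groth.L21.RR.epi_toSubscheme K
  rw [← cancel_epi (ClSub.toSubscheme K), toSubscheme_res_assoc, toSubscheme_res, toSubscheme_res]

theorem res_self {I : X.IdealSheafData} (h : I ≤ I) : res h = 𝟙 _ := by
  haveI := Groth.L21.RR.epi_toSubscheme I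
  rw [← cancel_epi (ClSub.toSubscheme I), toSubscheme_res, Category.comp_id]

theorem mul_le_left (I J : X.IdealSheafData) : I * J ≤ I := fun U => by
  rw [Scheme.IdealSheafData.ideal_mul, Pi.mul_apply]
  exact Ideal.mul_le_left (I := I.ideal U) (J := J.ideal U)

theorem mul_le_right (I J : X.IdealSheafData) : I * J ≤ J := fun U => by
  rw [Scheme.IdealSheafData.ideal_mul, Pi.mul_apply]
  exact Ideal.mul_le_right (I := I.ideal U) (J := J.ideal U)

/-- `0 → I_D ⊗ O/I → O/(I_D I) → O/I_D → 0`. -/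
theorem exists_shortExact {D : X.IdealSheafData} (hD : PicF.IsInvertible (ClSub.idealMod D)) (I : X.IdealSheafData) :
    ∃ (χ : CohB1.tensorMod (ClSub.idealMod D) (ClSub.quotMod I) ⟶ ClSub.quotMod (D * I))
      (w : χ ≫ res (mul_le_left D I) = 0), (ShortComplex.mk χ (res (mul_le_left D I)) w).ShortExact := by
  haveI : Epi (ClSub.toSubscheme I) := Groth.L21.RR.epi_toSubscheme I
  have hT := Groth.L16.FrameIso.shortExact_tensor_left (Groth.L21.RR.isFlat_of_isInvertible hD) _
    (Groth.L21.RR.shortExact_idealSeq I)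
  haveI : Epi (((DCoh.tensorBi (X := X)).obj (ClSub.idealMod D)).map (ClSub.toSubscheme I)) := hT.epi_g
  let ψ : ClSub.idealMod D ⟶ CohB1.tensorMod (ClSub.idealMod D) (ClSub.quotMod I) := twπ (ClSub.idealMod D) I
  haveI : Epi ψ := epi_comp _ _
  let φ : ClSub.idealMod D ⟶ ClSub.quotMod (D * I) := ClSub.idealModι D ≫ ClSub.toSubscheme (D * I)
  have hιD : ∀ x, Function.Injective (st (ClSub.idealModι D) x) :=
    (Groth.L21.Mod.mono_iff_stalk_injective _).1 (inferInstanceAs (Mono (kernel.ι _)))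
  have key : ∀ (x : X) (v : (ClSub.idealMod D).presheaf.stalk x), st φ x v = 0 ↔ st ψ x v = 0 := by
    intro x v
    obtain ⟨V, hV, hxV, -⟩ := exists_isAffineOpen_mem_and_subset (x := x) (U := ⊤) trivial
    obtain ⟨e, he⟩ := exists_frame_stalk hD x
    obtain ⟨g, hg⟩ := (bijective_smul_one x).2 (st (ClSub.idealModι D) x e)
    change g • one X x = _ at hg
    obtain ⟨a, rfl⟩ := he.2 v
    let gm := (X.presheaf.germ V x hxV).hom
    have hDx : (D.ideal ⟨V, hV⟩).map gm = Ideal.span {g} := by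
      refine le_antisymm (fun r hr => ?_) ((Ideal.span_singleton_le_iff_mem _).2 ?_)
      · obtain ⟨u, hu⟩ := (Groth.L21.RR.range_st_idealModι D hV hxV _).2 ⟨r, hr, rfl⟩
        obtain ⟨b, rfl⟩ := he.2 u
        change st (ClSub.idealModι D) x (b • e) = _ at hu
        rw [map_smul, ← hg, smul_smul] at hu
        rw [← (bijective_smul_one x).1 hu]
        exact Ideal.mul_mem_left _ _ (Ideal.mem_span_singleton_self g)
      · obtain ⟨r, hr, hre⟩ := (Groth.L21.RR.range_st_idealModι D hV hxV _).1 ⟨e, rfl⟩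
        rwa [← (bijective_smul_one x).1 (hre.trans hg.symm)]
    have hreg : ∀ c : X.presheaf.stalk x, c * g = 0 → c = 0 := fun c hc => by
      refine he.1 (hιD x ?_)
      show st (ClSub.idealModι D) x (c • e) = st (ClSub.idealModι D) x ((0 : X.presheaf.stalk x) • e)
      rw [map_smul, map_smul, ← hg, smul_smul, hc, zero_smul]
      exact (zero_smul (X.presheaf.stalk x) (g • one X x)).symm
    have hφ : st φ x (a • e) = 0 ↔ a ∈ (I.ideal ⟨V, hV⟩).map gm := by
      rw [st_comp, map_smul, ← hg, smul_smul, st_toSubscheme_eq_zero_iff _ hV hxV,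
        Scheme.IdealSheafData.ideal_mul, Pi.mul_apply, Ideal.map_mul, hDx, mul_comm a g,
        Ideal.mem_span_singleton_mul]
      refine ⟨fun ⟨c, hc, he'⟩ => ?_, fun h => ⟨a, h, rfl⟩⟩
      have h0 : (c - a) * g = 0 := by rw [sub_mul, mul_comm c, he', mul_comm, sub_self]
      rwa [← sub_eq_zero.1 (hreg _ h0)]
    change st φ x (a • e) = 0 ↔ st ψ x (a • e) = 0
    rw [hφ, ← (tensorStalkEquiv (ClSub.quotMod I) he).map_eq_zero_iff, map_smul, map_smul]
    have hsI := (Groth.L21.Mod.epi_iff_stalk_surjective (ClSub.toSubscheme I)).1 inferInstance x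
    obtain ⟨w₀, hw₀⟩ := hsI (tensorStalkEquiv (ClSub.quotMod I) he (st ψ x e))
    obtain ⟨u, rfl⟩ := (bijective_smul_one x).2 w₀
    change st (ClSub.toSubscheme I) x (u • one X x) = _ at hw₀
    rw [← hw₀, ← map_smul, smul_smul, st_toSubscheme_eq_zero_iff I hV hxV]
    refine ⟨fun h => Ideal.mul_mem_right _ _ h, fun h => ?_⟩
    obtain ⟨v', hv'⟩ := (Groth.L21.Mod.epi_iff_stalk_surjective ψ).1 inferInstance x
      ((tensorStalkEquiv (ClSub.quotMod I) he).symm (st (ClSub.toSubscheme I) x (one X x)))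
    obtain ⟨b, rfl⟩ := he.2 v'
    change st ψ x (b • e) = _ at hv'
    have h1 : st (ClSub.toSubscheme I) x ((b * u - 1) • one X x) = 0 := by
      rw [sub_smul, one_smul, map_sub, mul_smul, map_smul, hw₀, ← map_smul, ← map_smul, hv',
        LinearEquiv.apply_symm_apply, sub_self]
    rw [st_toSubscheme_eq_zero_iff I hV hxV] at h1
    have : a = b * (a * u) - a * (b * u - 1) := by ring
    rw [this]
    exact sub_mem (Ideal.mul_mem_left _ _ h) (Ideal.mul_mem_left _ _ h1)
  have hkψ : kernel.ι ψ ≫ φ = 0 := by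
    refine Groth.L21.Mod.hom_ext_stalk fun x => ?_
    ext v
    rw [Functor.map_zero]
    change st (kernel.ι ψ ≫ φ) x v = 0
    rw [st_comp, key, ← st_comp, kernel.condition, st_zero]
  let χ : CohB1.tensorMod (ClSub.idealMod D) (ClSub.quotMod I) ⟶ ClSub.quotMod (D * I) :=
    (Abelian.epiIsCokernelOfKernel _ (kernelIsKernel ψ)).desc (CokernelCofork.ofπ φ hkψ)
  have hχ : ψ ≫ χ = φ :=
    (Abelian.epiIsCokernelOfKernel _ (kernelIsKernel ψ)).fac _ WalkingParallelPair.one
  have hw : χ ≫ res (mul_le_left D I) = 0 := by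
    rw [← cancel_epi ψ, comp_zero, reassoc_of% hχ]
    simp only [φ, Category.assoc, toSubscheme_res]
    exact kernel.condition _
  haveI : Mono χ := by
    rw [Groth.L21.Mod.mono_iff_stalk_injective]
    intro x
    refine (injective_iff_map_eq_zero _).2 fun v hv => ?_
    change st χ x v = 0 at hv
    obtain ⟨v', rfl⟩ := (Groth.L21.Mod.epi_iff_stalk_surjective ψ).1 inferInstance x v
    change st χ x (st ψ x v') = 0 at hv
    rw [← st_comp, hχ, key] at hv
    exact hv
  haveI : Epi (res (mul_le_left D I)) := by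
    haveI : Epi (ClSub.toSubscheme (D * I) ≫ res (mul_le_left D I)) := by
      rw [toSubscheme_res]; exact Groth.L21.RR.epi_toSubscheme D
    exact epi_of_epi (ClSub.toSubscheme (D * I)) _
  refine ⟨χ, hw, { exact := ?_, mono_f := inferInstanceAs (Mono χ), epi_g := inferInstanceAs (Epi (res _)) }⟩
  haveI : Epi (ClSub.toSubscheme (D * I)) := Groth.L21.RR.epi_toSubscheme _
  haveI : Epi (ClSub.toSubscheme D) := Groth.L21.RR.epi_toSubscheme _
  refine ShortComplex.exact_of_g_is_cokernel _ (CokernelCofork.IsColimit.ofπ' _ hw fun {P} k hk => ?_)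
  have h0 : ClSub.idealModι D ≫ (ClSub.toSubscheme (D * I) ≫ k) = 0 := by
    rw [← Category.assoc]
    change φ ≫ k = 0
    rw [← hχ, Category.assoc, hk, comp_zero]
  refine ⟨(Groth.L21.RR.shortExact_idealSeq D).gIsCokernel.desc (CokernelCofork.ofπ _ h0), ?_⟩
  rw [← cancel_epi (ClSub.toSubscheme (D * I)), toSubscheme_res_assoc]
  exact (Groth.L21.RR.shortExact_idealSeq D).gIsCokernel.fac _ WalkingParallelPair.one

end Groth.L03.BlowPt.QuotSeq
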