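import Groth.Agent.L11.BlowSmooth.Alg
import Mathlib.Algebra.MvPolynomial.Equiv
import Mathlib.RingTheory.Polynomial.Basic
import Mathlib.RingTheory.KrullDimension.Field
import Mathlib.RingTheory.KrullDimension.Polynomial

/-!
# The exceptional line in a chart of the blow-up in two parameters
-/

set_option autoImplicit false
set_option linter.style.haveILetI false
set_option backward.isDefEq.respectTransparency false
set_option backward.isDefEq.respectTransparency.types false

universe u

open Polynomial Groth.L11.BlowSmooth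

noncomputable section

namespace Groth.L03.BlowPt

variable {A : Type u} [CommRing A] (f : Fin 2 → A) (i : Fin 2)

/-- The other index. -/
def oth : Fin 2 := if i = 0 then 1 else 0

theorem oth_ne : oth i ≠ i := by
  fin_cases i <;> decide

theorem eq_oth (j : Fin 2) (h : j ≠ i) : j = oth i := by
  fin_cases i <;> fin_cases j <;> first | exact absurd rfl h | rfl

/-- The chart modulo the exceptional ideal. -/
abbrev EC : Type u := SC f i ⧸ (sI f).map (sh f i)

/-- The quotient map to the exceptional part of a chart. -/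
abbrev ecMk : SC f i →+* EC f i := Ideal.Quotient.mk _

/-- The affine coordinate of the exceptional part. -/
abbrev crdT : EC f i := ecMk f i (sfr f i (oth i))

/-- The exceptional part of a chart is an affine line over the residue ring. -/
theorem exists_lineEquiv (hf : CAlgX.IsQuasiRegular f) :
    ∃ e : (A ⧸ sI f)[X] ≃+* EC f i,
      (∀ a : A, e (C (Ideal.Quotient.mk (sI f) a)) = ecMk f i (sh f i a)) ∧ e X = crdT f i := by
  letI hU : Unique {j : Fin 2 // j ≠ i} :=
    { default := ⟨oth i, oth_ne i⟩, uniq := fun j => Subtype.ext (eq_oth i j.1 j.2) }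
  let e₁ := (MvPolynomial.uniqueAlgEquiv (A ⧸ sI f) {j : Fin 2 // j ≠ i}).symm.toRingEquiv
  let e₂ : MvPolynomial {j : Fin 2 // j ≠ i} (A ⧸ sI f) ≃+* EC f i :=
    RingEquiv.ofBijective (pres f i) ⟨pres_injective f i hf, pres_surjective f i⟩
  refine ⟨e₁.trans e₂, fun a => ?_, ?_⟩
  · show pres f i ((MvPolynomial.uniqueAlgEquiv (A ⧸ sI f) {j : Fin 2 // j ≠ i}).symm
      (algebraMap (A ⧸ sI f) (A ⧸ sI f)[X] (Ideal.Quotient.mk (sI f) a))) = _
    rw [AlgEquiv.commutes]
    show pres f i (MvPolynomial.C (Ideal.Quotient.mk (sI f) a)) = _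
    rw [pres, MvPolynomial.eval₂Hom_C, Ideal.Quotient.lift_mk]
    rfl
  · have h : (MvPolynomial.uniqueAlgEquiv (A ⧸ sI f) {j : Fin 2 // j ≠ i}).symm X =
        MvPolynomial.X default := by
      rw [AlgEquiv.symm_apply_eq]
      simp [MvPolynomial.uniqueAlgEquiv]
    show pres f i ((MvPolynomial.uniqueAlgEquiv (A ⧸ sI f) {j : Fin 2 // j ≠ i}).symm X) = _
    rw [h, pres, MvPolynomial.eval₂Hom_X']
    rfl

variable {f i}

/-- Over a field the exceptional part of a chart is a principal ideal domain. -/
theorem isDomain_EC (hf : CAlgX.IsQuasiRegular f) (hm : (sI f).IsMaximal) :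
    IsDomain (EC f i) ∧ IsPrincipalIdealRing (EC f i) := by
  obtain ⟨e, -, -⟩ := exists_lineEquiv f i hf
  letI : Field (A ⧸ sI f) := Ideal.Quotient.field _
  exact ⟨e.symm.toMulEquiv.isDomain, IsPrincipalIdealRing.of_surjective e.toRingHom e.surjective⟩

theorem ringKrullDim_EC (hf : CAlgX.IsQuasiRegular f) (hm : (sI f).IsMaximal) :
    ringKrullDim (EC f i) = 1 := by
  obtain ⟨e, -, -⟩ := exists_lineEquiv f i hf
  letI : Field (A ⧸ sI f) := Ideal.Quotient.field _
  rw [← ringKrullDim_eq_of_ringEquiv e, Polynomial.ringKrullDim_of_isNoetherianRing, ringKrullDim_eq_zero_of_field,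
    zero_add]

theorem crdT_ne_zero (hf : CAlgX.IsQuasiRegular f) (hm : (sI f).IsMaximal) : crdT f i ≠ 0 := by
  obtain ⟨e, -, hX⟩ := exists_lineEquiv f i hf
  haveI : Nontrivial (A ⧸ sI f) := Ideal.Quotient.nontrivial_iff.2 hm.ne_top
  rw [← hX]
  exact fun h => X_ne_zero (e.injective (h.trans (map_zero e).symm))

/-- The origin of the exceptional line is rational over the residue ring. -/
theorem origin_facts (hf : CAlgX.IsQuasiRegular f) (hm : (sI f).IsMaximal) :
    (Ideal.span {crdT f i}).IsMaximal ∧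
      Function.Surjective ((Ideal.Quotient.mk (Ideal.span {crdT f i})).comp ((ecMk f i).comp (sh f i))) := by
  obtain ⟨e, hC, hX⟩ := exists_lineEquiv f i hf
  letI : Field (A ⧸ sI f) := Ideal.Quotient.field _
  refine ⟨?_, fun z => ?_⟩
  · have h1 : (Ideal.span {(X : (A ⧸ sI f)[X])}).IsMaximal := by
      simpa using (Ideal.span_singleton_prime X_ne_zero).2 prime_X |>.isMaximal (by simp)
    haveI := h1
    have h2 : (Ideal.span {(X : (A ⧸ sI f)[X])}).map e.toRingHom = Ideal.span {crdT f i} := by
      exact (Ideal.map_span _ _).trans (congrArg Ideal.span ((Set.image_singleton).trans (congrArg (fun t => ({t} : Set (EC f i))) hX)))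
    exact h2 ▸ (Ideal.isMaximal_map_iff_of_bijective (f := e.toRingHom) e.bijective).2 h1
  · obtain ⟨z, rfl⟩ := Ideal.Quotient.mk_surjective z
    obtain ⟨p, rfl⟩ := e.surjective z
    obtain ⟨a, ha⟩ := Ideal.Quotient.mk_surjective (p.coeff 0)
    refine ⟨a, ?_⟩
    show Ideal.Quotient.mk _ (ecMk f i (sh f i a)) = _
    rw [← hC, ha, Ideal.Quotient.eq, ← map_sub, Ideal.mem_span_singleton, ← hX]
    refine map_dvd e (X_dvd_iff.2 ?_)
    simp

end Groth.L03.BlowPt
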