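import Mathlib.Topology.KrullDimension
import Mathlib.Topology.Sober

/-!
# The dimension of a space covered by open subsets
-/

set_option autoImplicit false

open TopologicalSpace

namespace Groth.L03.BlowPt

/-- The dimension is at most `n` as soon as it is on an open cover. -/
theorem dim_le_of_cover {α : Type*} [TopologicalSpace α] {ι : Type*} {β : ι → Type*}
    [∀ i, TopologicalSpace (β i)] (f : ∀ i, β i → α) (hf : ∀ i, Topology.IsOpenEmbedding (f i))
    (hcov : ∀ y, ∃ i, y ∈ Set.range (f i)) (n : ℕ) (h : ∀ i, topologicalKrullDim (β i) ≤ n) :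
    topologicalKrullDim α ≤ n := by
  refine iSup_le fun p => ?_
  obtain ⟨y, hy⟩ := p.head.isIrreducible'.nonempty
  obtain ⟨i, hi⟩ := hcov y
  have hne : ∀ j, ((p j : Set α) ∩ Set.range (f i)).Nonempty := fun j =>
    ⟨y, (show p.head ≤ p j from p.monotone (Fin.zero_le j)) hy, hi⟩
  let c : Fin (p.length + 1) → IrreducibleCloseds (β i) := fun j =>
    { carrier := f i ⁻¹' (p j : Set α)
      isIrreducible' := (p j).isIrreducible'.preimage (hf i) (hne j)
      isClosed' := (p j).isClosed'.preimage (hf i).continuous }
  have hc : StrictMono c := by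
    refine Fin.strictMono_iff_lt_succ.2 fun j => lt_of_le_of_ne ?_ fun e => ?_
    · exact fun z hz => (p.strictMono (Fin.castSucc_lt_succ (i := j))).le hz
    · have e' : f i ⁻¹' (p j.castSucc : Set α) = f i ⁻¹' (p j.succ : Set α) := congrArg IrreducibleCloseds.carrier e
      have hlt : p j.castSucc < p j.succ := p.strictMono (Fin.castSucc_lt_succ (i := j))
      refine hlt.ne (le_antisymm hlt.le (show (p j.succ : Set α) ⊆ (p j.castSucc : Set α) from fun z hz => ?_))
      have h1 := subset_closure_inter_of_isPreirreducible_of_isOpen (p j.succ).isIrreducible'.2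
        (hf i).isOpen_range (hne j.succ) hz
      refine closure_minimal ?_ (p j.castSucc).isClosed' h1
      rintro _ ⟨hw, w, rfl⟩
      exact (Set.ext_iff.1 e' w).2 hw
  have h2 : ((p.length : ℕ) : WithBot ℕ∞) ≤ n :=
    le_trans (Order.LTSeries.length_le_krullDim (LTSeries.mk p.length c hc)) (h i)
  exact h2

end Groth.L03.BlowPt
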