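import Groth.Agent.L03.BlowPt.Pair
import Groth.Agent.L03.BlowPt.Chart
import Groth.Agent.L03.BlowPt.DimCover
import Groth.Agent.L11.BlowProj.Charts
import Mathlib.RingTheory.UniqueFactorizationDomain.Basic
import Mathlib.RingTheory.PrincipalIdealDomain
import Mathlib.RingTheory.IntegralClosure.IntegrallyClosed

/-!
# The exceptional curve of the blow-up of a regular closed point of dimension two
-/

set_option autoImplicit false
set_option linter.style.haveILetI false
set_option backward.isDefEq.respectTransparency false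
set_option backward.isDefEq.respectTransparency.types false

universe u

open CategoryTheory AlgebraicGeometry TopologicalSpace
open Groth.L11.BlowSmooth Groth.L13.BU

noncomputable section

namespace Groth.L03.BlowPt

variable {X X' : Scheme.{u}} {x : X} (hx : IsClosed ({x} : Set X)) (b : X' ⟶ X)

/-- The exceptional ideal. -/
abbrev exc : X'.IdealSheafData := BlowUp.exceptional b (ptI hx)

/-- The inclusion of the exceptional curve. -/
abbrev eι : (exc hx b).subscheme ⟶ X' := (exc hx b).subschemeι

/-- Charts of a point blow-up near the exceptional curve. -/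
structure EChart where
  /-- an affine neighbourhood -/
  U : X.affineOpens
  /-- parameters -/
  f : Fin 2 → Γ(X, U.1)
  mem : x ∈ U.1
  qreg : CAlgX.IsQuasiRegular f
  ideal_eq : (ptI hx).ideal U = sI f
  /-- the charts -/
  C : ∀ i, Spec (CommRingCat.of (SC f i)) ⟶ X'
  C_open : ∀ i, IsOpenImmersion (C i)
  C_comp : ∀ i, C i ≫ b = Spec.map (CommRingCat.ofHom (sh f i)) ≫ U.2.fromSpec
  /-- their exceptional parts -/
  q : ∀ i, Spec (CommRingCat.of (EC f i)) ⟶ (exc hx b).subscheme
  q_open : ∀ i, IsOpenImmersion (q i)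
  q_comp : ∀ i, q i ≫ eι hx b = Spec.map (CommRingCat.ofHom (ecMk f i)) ≫ C i
  q_cover : ∀ z, ∃ i, z ∈ Set.range (q i)
  q_range : ∀ i z, eι hx b z ∈ Set.range (C i) → z ∈ Set.range (q i)
  q_meet : ∀ i (z : Spec (CommRingCat.of (EC f i))), crdT f i ∉ z.asIdeal →
    q i z ∈ Set.range (q (oth i))

variable {hx b}

theorem eι_apply (z : (exc hx b).subscheme) : b (eι hx b z) = x := by
  have h : eι hx b z ∈ ((exc hx b).support : Set X') := by
    rw [← Scheme.IdealSheafData.range_subschemeι]; exact Set.mem_range_self z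
  rw [show (exc hx b).support = (ptI hx).support.preimage b.continuous from
    Scheme.IdealSheafData.support_comap _ _] at h
  have h2 : b (eι hx b z) ∈ ((ptI hx).support : Set X) := h
  simpa [ptI] using h2

/-- Charts exist. -/
theorem exists_echart [IsLocallyNoetherian X] (hb : BlowUp.IsBlowUp b (ptI hx))
    (hreg : IsRegularLocalRing (X.presheaf.stalk x)) (hd : ringKrullDim (X.presheaf.stalk x) = (2 : ℕ)) :
    Nonempty (EChart hx b) := by
  obtain ⟨U, f, hxU, hq, hI⟩ := exists_pair hx hreg hd
  obtain ⟨C, hCo, hCb, hCc⟩ := Groth.L11.BlowProj.exists_charts hb U f hI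
  have hk : ∀ i, (eι hx b).ker.comap (C i) = idealOf ((sI f).map (sh f i)) := by
    intro i
    haveI := hCo i
    rw [Scheme.IdealSheafData.ker_subschemeι, exc, BlowUp.exceptional, ← Scheme.IdealSheafData.comap_comp, hCb,
      Scheme.IdealSheafData.comap_comp, comap_fromSpec, hI]
    refine Scheme.IdealSheafData.ext_of_isAffine ?_
    rw [comap_SpecMap, idealOf_top]
  choose q hqo hqι hqc using fun i => haveI := hCo i; exists_closed_chart (eι hx b) (C i) _ (hk i)
  refine ⟨⟨U, f, hxU, hq, hI, C, hCo, hCb, q, hqo, hqι, fun z => ?_, hqc, fun i z hz => ?_⟩⟩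
  · obtain ⟨i, hi⟩ := hCc (eι hx b z) (by rw [eι_apply]; exact hxU)
    exact ⟨i, hqc i z hi⟩
  · refine hqc (oth i) _ ?_
    haveI := hCo i
    rw [← Scheme.Hom.comp_apply, hqι, Scheme.Hom.comp_apply]
    exact Groth.L11.BlowProj.mem_range_chart hb f U.2.fromSpec i (oth i) (C i) (hCb i) (C (oth i)) (hCb (oth i))
      _ hz

namespace EChart

variable (D : EChart hx b)

theorem isMaximal : (sI D.f).IsMaximal := D.ideal_eq ▸ isMaximal_ptI hx D.U D.mem

theorem isDomain (i : Fin 2) : IsDomain (EC D.f i) := (isDomain_EC D.qreg D.isMaximal).1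

theorem isPID (i : Fin 2) : IsPrincipalIdealRing (EC D.f i) := (isDomain_EC D.qreg D.isMaximal).2

/-- The generic point of a chart. -/
def gen (i : Fin 2) : Spec (CommRingCat.of (EC D.f i)) :=
  haveI := D.isDomain i
  ⟨⊥, Ideal.isPrime_bot⟩

theorem gen_specializes (i : Fin 2) (z : Spec (CommRingCat.of (EC D.f i))) : D.gen i ⤳ z :=
  (PrimeSpectrum.le_iff_specializes (D.gen i) z).1 (show (⊥ : Ideal (EC D.f i)) ≤ z.asIdeal from bot_le)

theorem q_gen_meet (i : Fin 2) : D.q i (D.gen i) ∈ Set.range (D.q (oth i)) :=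
  D.q_meet i _ fun h => crdT_ne_zero D.qreg D.isMaximal ((Submodule.mem_bot _).1 h)

theorem q_gen_eq (i : Fin 2) : D.q (oth i) (D.gen (oth i)) = D.q i (D.gen i) := by
  haveI := D.q_open i
  obtain ⟨w, hw⟩ := D.q_gen_meet i
  have h1 : D.q (oth i) (D.gen (oth i)) ⤳ D.q i (D.gen i) :=
    hw ▸ (D.gen_specializes (oth i) w).map (D.q (oth i)).continuous
  obtain ⟨v, hv⟩ : D.q (oth i) (D.gen (oth i)) ∈ Set.range (D.q i) :=
    h1.mem_open (D.q i).isOpenEmbedding.isOpen_range ⟨_, rfl⟩
  exact (h1.antisymm (hv ▸ (D.gen_specializes i v).map (D.q i).continuous)).eq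

include D in
theorem isIntegral : IsIntegral (exc hx b).subscheme := by
  haveI : Nonempty (exc hx b).subscheme := ⟨D.q 0 (D.gen 0)⟩
  haveI : IrreducibleSpace (exc hx b).subscheme := by
    refine irreducibleSpace_def _ |>.2 ?_
    have h : closure ({D.q 0 (D.gen 0)} : Set (exc hx b).subscheme) = Set.univ := by
      refine Set.eq_univ_of_forall fun z => specializes_iff_mem_closure.1 ?_
      obtain ⟨i, w, rfl⟩ := D.q_cover z
      fin_cases i
      · exact (D.gen_specializes 0 w).map (D.q 0).continuous
      · have e : D.q (oth 0) (D.gen (oth 0)) = D.q 0 (D.gen 0) := D.q_gen_eq 0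
        exact e ▸ (D.gen_specializes 1 w).map (D.q 1).continuous
    rw [Set.top_eq_univ, ← h]; exact isIrreducible_singleton.closure
  haveI : ∀ z : (exc hx b).subscheme, _root_.IsReduced ((exc hx b).subscheme.presheaf.stalk z) := by
    intro z
    obtain ⟨i, w, rfl⟩ := D.q_cover z
    haveI := D.q_open i
    haveI := D.isDomain i
    exact isReduced_of_injective (asIso ((D.q i).stalkMap w)).commRingCatIsoToRingEquiv.toRingHom
      (asIso ((D.q i).stalkMap w)).commRingCatIsoToRingEquiv.injective
  haveI := AlgebraicGeometry.isReduced_of_isReduced_stalk (exc hx b).subscheme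
  exact isIntegral_of_irreducibleSpace_of_isReduced _

include D in
theorem isNormal (z : (exc hx b).subscheme) :
    IsIntegrallyClosed ((exc hx b).subscheme.presheaf.stalk z) := by
  obtain ⟨i, w, rfl⟩ := D.q_cover z
  haveI := D.q_open i
  haveI := D.isDomain i
  haveI := D.isPID i
  haveI : IsIntegrallyClosed ((Spec (CommRingCat.of (EC D.f i))).presheaf.stalk w) := by
    haveI : IsIntegrallyClosed (EC D.f i) := inferInstance
    haveI : IsIntegrallyClosed (Localization.AtPrime w.asIdeal) :=
      isIntegrallyClosed_of_isLocalization _ w.asIdeal.primeCompl w.asIdeal.primeCompl_le_nonZeroDivisors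
    exact IsIntegrallyClosed.of_equiv (StructureSheaf.stalkIso (EC D.f i) w).toRingEquiv
  exact IsIntegrallyClosed.of_equiv (asIso ((D.q i).stalkMap w)).commRingCatIsoToRingEquiv.symm

include D in
theorem dim_eq : topologicalKrullDim (exc hx b).subscheme = 1 := by
  have h : ∀ i, topologicalKrullDim (Spec (CommRingCat.of (EC D.f i))) = (1 : ℕ) := fun i =>
    (PrimeSpectrum.topologicalKrullDim_eq_ringKrullDim _).trans
      ((ringKrullDim_EC D.qreg D.isMaximal).trans Nat.cast_one.symm)
  refine le_antisymm ?_ ?_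
  · refine (dim_le_of_cover (fun i => ⇑(D.q i)) (fun i => haveI := D.q_open i; (D.q i).isOpenEmbedding)
      D.q_cover 1 fun i => (h i).le).trans_eq Nat.cast_one
  · haveI := D.q_open 0
    exact ((h 0).trans Nat.cast_one).ge.trans (D.q 0).isOpenEmbedding.isInducing.topologicalKrullDim_le

end EChart

end Groth.L03.BlowPt
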