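import Groth.Agent.L03.BlowPt.Degree
import Groth.Agent.L23.SchKer
import Groth.Agent.L17.AffineVanishing
import Groth.Agent.L17.Strat.Euler
import Groth.Agent.L22.FibreDim
import Groth.Agent.L22.Cyc.CurveDeg

/-!
# The Euler characteristic of a closed point is the degree of its residue field
-/

set_option autoImplicit false
set_option linter.style.haveILetI false
set_option backward.isDefEq.respectTransparency false

universe u

open CategoryTheory CategoryTheory.Limits AlgebraicGeometry TopologicalSpace Opposite
open Groth.L03.Euler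

noncomputable section

namespace Groth.L03.BlowPt

variable {X : Scheme.{u}} {x : X} (hx : IsClosed ({x} : Set X))
  (k : Type u) [Field k] [X.Over (Spec (CommRingCat.of k))] [IsProper (X ↘ Spec (CommRingCat.of k))]

/-- The Euler characteristic of the spectrum of a field extension. -/
theorem euler_Spec_field (K : Type u) [Field K] [Algebra k K] [Module.Finite k K]
    [hK : (Spec (CommRingCat.of K)).Over (Spec (CommRingCat.of k))]
    (h : (Spec (CommRingCat.of K) ↘ Spec (CommRingCat.of k)) = Spec.map (CommRingCat.ofHom (algebraMap k K))) :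
    Curv2.euler k (Spec (CommRingCat.of K)) (Coh.structureModule (Spec (CommRingCat.of K))) = Module.finrank k K := by
  let Z := Spec (CommRingCat.of K)
  haveI : IsFinite (Spec (CommRingCat.of K) ↘ Spec (CommRingCat.of k)) := by
    rw [h, IsFinite.SpecMap_iff]
    exact RingHom.finite_algebraMap.2 inferInstance
  haveI : Coh.IsQCoh (Coh.structureModule Z) := Groth.L19.Conormal.isQCoh_structureModule _
  rw [Groth.L17.Strat.euler_eq_finrank (k := k) fun i hi => by
    obtain ⟨n, rfl⟩ := Nat.exists_eq_succ_of_ne_zero hi.ne'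
    exact Groth.L17.subsingleton_HH_of_isAffine Z _ n]
  let j := Z ↘ Spec (CommRingCat.of k)
  let hT : IsTerminal (⊤ : Opens Z) := IsTerminal.ofUniqueHom (fun U => homOfLE le_top) (fun _ _ => rfl)
  let e : Coh.HH Z (Coh.structureModule Z) 0 ≃+ Coh.Γtop Z :=
    Sheaf.H.equiv₀ (Coh.toAb (Coh.structureModule Z)) hT
  let σ := (Scheme.ΓSpecIso (CommRingCat.of K)).commRingCatIsoToRingEquiv
  have he : ∀ (c : k) (z : Coh.HH Z (Coh.structureModule Z) 0), σ (e (c • z)) = c • σ (e z) := fun c z => by
    have h0 : e (c • z) = Coh.toGlobal j c * e z := by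
      show Sheaf.H.equiv₀ _ hT (Sheaf.H.map (Coh.smulAb (Coh.structureModule Z) _) 0 z) = _
      rw [← Sheaf.H.equiv₀_naturality]
      refine (Coh.smulAb_app (Coh.structureModule Z) _ (op ⊤) _).trans ?_
      show Coh.resTop Z (op ⊤) _ * _ = _
      congr 1
    rw [h0, map_mul, Algebra.smul_def]
    congr 1
    show (Scheme.ΓSpecIso (CommRingCat.of K)).hom (j.appTop ((Scheme.ΓSpecIso (CommRingCat.of k)).inv c)) = _
    rw [show j = Spec.map (CommRingCat.ofHom (algebraMap k K)) from h]
    exact congrArg (fun ψ => ψ.hom c) (show (Scheme.ΓSpecIso (CommRingCat.of k)).inv ≫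
      (Spec.map (CommRingCat.ofHom (algebraMap k K))).appTop ≫ (Scheme.ΓSpecIso (CommRingCat.of K)).hom =
        CommRingCat.ofHom (algebraMap k K) by rw [Scheme.ΓSpecIso_naturality, Iso.inv_hom_id_assoc])
  let E : Coh.HH Z (Coh.structureModule Z) 0 ≃ₗ[k] K :=
    { e.trans σ.toAddEquiv with map_smul' := fun c z => he c z }
  rw [E.finrank_eq]

/-- The degree of a closed point is the degree of its residue field. -/
theorem ptDeg_eq :
    letI : Algebra k (X.residueField x) := Curv2.resAlgebra k X x
    ptDeg k hx = Module.finrank k (X.residueField x) := by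
  letI : Algebra k (X.residueField x) := Curv2.resAlgebra k X x
  haveI : X.IsSeparated := ⟨by rw [← terminal.comp_from (X ↘ Spec (CommRingCat.of k))]; infer_instance⟩
  let f := X.fromSpecResidueField x
  haveI : IsClosedImmersion f :=
    IsClosedImmersion.of_isPreimmersion _ (by rw [Scheme.range_fromSpecResidueField]; exact hx)
  letI oK : (Spec (X.residueField x)).Over (Spec (CommRingCat.of k)) := ⟨f ≫ (X ↘ Spec (CommRingCat.of k))⟩
  have hK : (Spec (X.residueField x) ↘ Spec (CommRingCat.of k)) =
      Spec.map (CommRingCat.ofHom (algebraMap k (X.residueField x))) :=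
    (Groth.L22.FibreDim.SpecMap_resMap k X x).symm
  haveI : IsProper (Spec (X.residueField x) ↘ Spec (CommRingCat.of k)) :=
    inferInstanceAs (IsProper (f ≫ (X ↘ Spec (CommRingCat.of k))))
  haveI : Module.Finite k (X.residueField x) := Groth.L21.Disc.finite_residueField_of_isClosed k hx
  have hker : f.ker = ptI hx := by
    rw [Groth.L23.SchKer.ker_eq_vanishingIdeal f]
    congr 1
    refine TopologicalSpace.Closeds.ext ?_
    show closure (Set.range f) = {x}
    rw [Scheme.range_fromSpecResidueField, hx.closure_eq]
  let g := IsClosedImmersion.lift (ptI hx).subschemeι f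
    (by rw [Scheme.IdealSheafData.ker_subschemeι, hker])
  have hg : g ≫ (ptI hx).subschemeι = f := IsClosedImmersion.lift_fac _ _ _
  haveI : IsIso g := IsClosedImmersion.isIso_lift _ _ (by rw [Scheme.IdealSheafData.ker_subschemeι, hker])
  letI : (ptI hx).subscheme.Over (Spec (CommRingCat.of k)) :=
    ⟨(ptI hx).subschemeι ≫ (X ↘ Spec (CommRingCat.of k))⟩
  haveI : IsProper ((ptI hx).subscheme ↘ Spec (CommRingCat.of k)) :=
    inferInstanceAs (IsProper ((ptI hx).subschemeι ≫ (X ↘ Spec (CommRingCat.of k))))
  haveI : (ptI hx).subscheme.IsSeparated :=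
    ⟨by rw [← terminal.comp_from ((ptI hx).subscheme ↘ Spec (CommRingCat.of k))]; infer_instance⟩
  have h1 := euler_push (k := k) (ptI hx).subschemeι (Coh.structureModule (ptI hx).subscheme)
    (Groth.L19.Conormal.isQCoh_structureModule _) rfl
  have h2 := euler_push (k := k) g (Coh.structureModule (Spec (X.residueField x)))
    (Groth.L19.Conormal.isQCoh_structureModule _) (by show g ≫ _ ≫ _ = f ≫ _; rw [reassoc_of% hg])
  obtain ⟨e⟩ := nonempty_push_structure g
  exact h1.trans ((euler_iso e).symm.trans (h2.trans (euler_Spec_field k (X.residueField x) hK)))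

/-- Rational points have degree one. -/
theorem ptDeg_eq_one [IsAlgClosed k] : ptDeg k hx = 1 := by
  letI : Algebra k (X.residueField x) := Curv2.resAlgebra k X x
  haveI : Module.Finite k (X.residueField x) := Groth.L21.Disc.finite_residueField_of_isClosed k hx
  rw [ptDeg_eq hx k, ← (LinearEquiv.ofBijective (Algebra.linearMap k (X.residueField x))
    IsAlgClosed.algebraMap_bijective_of_isIntegral).finrank_eq, Module.finrank_self, Nat.cast_one]

end Groth.L03.BlowPt
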