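import Groth.Agent.L03.BlowPt.Canonical
import Groth.Agent.L03.SurfNum.Curves

/-!
# Numerical consequences of the canonical formula on the blow-up of a point
-/

set_option autoImplicit false
set_option linter.style.haveILetI false
set_option backward.isDefEq.respectTransparency false
set_option linter.unusedSectionVars false

universe u

open CategoryTheory CategoryTheory.Limits AlgebraicGeometry TopologicalSpace
open Groth.L22.Inter Groth.L22.Big Groth.L03.Euler

noncomputable section

namespace Groth.L03.BlowPt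

variable {X X' : Scheme.{u}} {x : X} {hx : IsClosed ({x} : Set X)} {b : X' ⟶ X}
variable (k : Type u) [Field k] [IsAlgClosed k]
  [X.Over (Spec (CommRingCat.of k))] [IsProper (X ↘ Spec (CommRingCat.of k))]
  [X'.Over (Spec (CommRingCat.of k))] [IsProper (X' ↘ Spec (CommRingCat.of k))] [IsIntegral X] [IsIntegral X']

variable (hbo : b ≫ (X ↘ Spec (CommRingCat.of k)) = X' ↘ Spec (CommRingCat.of k))
  (hdim : topologicalKrullDim X = 2) (hreg : ∀ y : X, IsRegularLocalRing (X.presheaf.stalk y))
  (hdim' : topologicalKrullDim X' = 2) (hreg' : ∀ y : X', IsRegularLocalRing (X'.presheaf.stalk y))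
  (hb : BlowUp.IsBlowUp b (ptI hx))
  {W : X.Modules} (hW : ExtPow.IsExtPow 2 (Omega.sheaf (X ↘ Spec (CommRingCat.of k))) W)
  {W' : X'.Modules} (hW' : ExtPow.IsExtPow 2 (Omega.sheaf (X' ↘ Spec (CommRingCat.of k))) W')

include hbo hdim hreg hdim' hreg' hb hW hW'

/-- Intersection numbers with the canonical module upstairs. -/
theorem canonical_num :
    ii k W' (ClSub.idealMod (exc hx b)) = 1 ∧
      (∀ A : X.Modules, PicF.IsInvertible A → ii k ((Scheme.Modules.pullback b).obj A) W' = ii k A W) ∧
      ii k W' W' = ii k W W - 1 := by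
  have hd : topologicalKrullDim X = (2 : ℕ) := hdim.trans Nat.cast_ofNat.symm
  have hd' : topologicalKrullDim X' = (2 : ℕ) := hdim'.trans Nat.cast_ofNat.symm
  obtain ⟨hI, hpp, horth, hII⟩ := rules k hbo hd (hreg x) hd' hb
  rw [ptDeg_eq_one] at hII
  push_cast at hII
  obtain ⟨hWi, hWi', ⟨e⟩⟩ := canonical_iso k hbo hdim hreg hdim' hreg' hb hW hW'
  have hI' := (ii_congr k e (ClSub.idealMod (exc hx b))).trans ((ii_comm k _ _).trans (horth hWi))
  rw [ii_tensor k hd'.le hWi' hI hI, hII] at hI'
  have h1 : ii k W' (ClSub.idealMod (exc hx b)) = 1 := by linarith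
  have h2 : ∀ A : X.Modules, PicF.IsInvertible A → ii k ((Scheme.Modules.pullback b).obj A) W' = ii k A W := by
    intro A hA
    have hAp := Groth.L18.Ample.isInvertible_pullback b hA
    have h := (ii_congr k e ((Scheme.Modules.pullback b).obj A)).trans (hpp hWi hA)
    rw [ii_tensor k hd'.le hWi' hI hAp, horth hA, add_zero] at h
    rw [ii_comm k _ W', h, ii_comm]
  refine ⟨h1, h2, ?_⟩
  have h3 := (ii_congr k e W').trans (h2 W hWi)
  rw [ii_tensor k hd'.le hWi' hI hWi', ii_comm k (ClSub.idealMod _) W', h1] at h3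
  linarith

omit hW hW' hreg' in
/-- A curve upstairs whose product with a power of the exceptional divisor is a pulled back curve. -/
theorem strict_num {C : X.IdealSheafData} (hC : BlowUp.IsEffCartierIdeal C) {C' : X'.IdealSheafData}
    (hC' : BlowUp.IsEffCartierIdeal C') (m : ℕ) (hm : C.comap b = C' * exc hx b ^ m) :
    ii k (ClSub.idealMod C') (ClSub.idealMod (exc hx b)) = m ∧
      ii k (ClSub.idealMod C') (ClSub.idealMod C') =
        ii k (ClSub.idealMod C) (ClSub.idealMod C) - (m : ℚ) ^ 2 ∧
      ∀ B : X'.Modules, PicF.IsInvertible B → ii k (ClSub.idealMod C') B =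
        ii k ((Scheme.Modules.pullback b).obj (ClSub.idealMod C)) B - m * ii k (ClSub.idealMod (exc hx b)) B := by
  have hd : topologicalKrullDim X = (2 : ℕ) := hdim.trans Nat.cast_ofNat.symm
  have hd' : topologicalKrullDim X' = (2 : ℕ) := hdim'.trans Nat.cast_ofNat.symm
  obtain ⟨hI, hpp, horth, hII⟩ := rules k hbo hd (hreg x) hd' hb
  rw [ptDeg_eq_one] at hII
  push_cast at hII
  haveI := Groth.L21.RR.isNoetherian_of_proper (X := X') k
  have hE : BlowUp.IsEffCartierIdeal (exc hx b) := hb.1
  have hEm := isEffCartier_pow hE m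
  have hη : b (genericPoint X') ∉ C.support := fun h => by
    have h2 : genericPoint X' ∈ (C.comap b).support := by rw [Scheme.IdealSheafData.support_comap]; exact h
    rw [hm] at h2
    exact Groth.L03.SurfAmple.genericPoint_mem_of_isEffCartier (Groth.L22.Ideals.isEffCartier_mul hC' hEm) h2
  obtain ⟨-, ⟨e⟩⟩ := nonempty_pullback_idealMod b hC hη
  have hinv : ∀ {Z : X'.IdealSheafData}, BlowUp.IsEffCartierIdeal Z → PicF.IsInvertible (ClSub.idealMod Z) :=
    fun h => (Groth.Agent.L19.IdealInvertible.isEffCartier_iff _).2 h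
  have hCi := (Groth.Agent.L19.IdealInvertible.isEffCartier_iff _).2 hC
  have key : ∀ B : X'.Modules, PicF.IsInvertible B → ii k (ClSub.idealMod C') B =
      ii k ((Scheme.Modules.pullback b).obj (ClSub.idealMod C)) B - m * ii k (ClSub.idealMod (exc hx b)) B := by
    intro B hB
    rw [ii_congr k e B, hm, Groth.L03.SurfAmple.ii_ideal_mul k hd'.le hC' hEm hB, ii_idealMod_pow k hd'.le hE hB]
    ring
  have h1 : ii k (ClSub.idealMod C') (ClSub.idealMod (exc hx b)) = m := by
    rw [key _ hI, ii_comm k _ (ClSub.idealMod (exc hx b)), horth hCi, hII]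
    ring
  refine ⟨h1, ?_, key⟩
  have h2 := key _ (hinv hC')
  have h3 := key _ (Groth.L18.Ample.isInvertible_pullback b hCi)
  rw [hpp hCi hCi, horth hCi] at h3
  rw [ii_comm k ((Scheme.Modules.pullback b).obj _) (ClSub.idealMod C'), h3,
    ii_comm k (ClSub.idealMod (exc hx b)) (ClSub.idealMod C'), h1] at h2
  linarith

end Groth.L03.BlowPt
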