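import Groth.Agent.L03.SurfAmple.Product
import Groth.Agent.L18.AmplePull
import Groth.Agent.L29.DCoh.PullTensor
import Groth.Agent.L29.LocFree

/-!
# Pullbacks of effective Cartier divisors
-/

set_option autoImplicit false
set_option linter.style.haveILetI false
set_option backward.isDefEq.respectTransparency false

universe u

open CategoryTheory CategoryTheory.Limits AlgebraicGeometry TopologicalSpace
open Groth.L18.Frame (rs ro rs_rs rs_self rs_smul ro_ro IsFrame pull pull_rs pull_smul)
open Groth.L18.GenLoc (secOf secOf_homOfSection)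
open Groth.L00.Tensor (tensorIso tensorComm tensorUnitLeft tensorUnitRight tensorAssoc)

noncomputable section

namespace Groth.L03.BlowPt

variable {X X' : Scheme.{u}} (b : X' ⟶ X)

/-- Inverses are unique. -/
theorem nonempty_iso_of_inverse {A B M : X.Modules} (e : CohB1.tensorMod A M ≅ Coh.structureModule X)
    (e' : CohB1.tensorMod B M ≅ Coh.structureModule X) : Nonempty (A ≅ B) :=
  ⟨(tensorUnitRight A).symm ≪≫ tensorIso (Iso.refl A) e'.symm ≪≫ tensorIso (Iso.refl A) (tensorComm B M) ≪≫
    (tensorAssoc A M B).symm ≪≫ tensorIso e (Iso.refl B) ≪≫ tensorUnitLeft B⟩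

/-- The pullback of a section of a module. -/
def pullSec {N : X.Modules} (s : Coh.structureModule X ⟶ N) :
    Coh.structureModule X' ⟶ (Scheme.Modules.pullback b).obj N :=
  Groth.L16.homOfSection ((Scheme.Modules.pullback b).obj N)
    (rs ((Scheme.Modules.pullback b).obj N) (le_refl (⊤ : X'.Opens)) (pull b N ⊤ (secOf s)))

theorem zeroScheme_pullSec [IsIntegral X] [IsIntegral X'] {N : X.Modules} (hN : PicF.IsInvertible N)
    (s : Coh.structureModule X ⟶ N) :
    PicF2.zeroScheme ((Scheme.Modules.pullback b).obj N) (pullSec b s) = (PicF2.zeroScheme N s).comap b := by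
  have hN' : PicF.IsInvertible ((Scheme.Modules.pullback b).obj N) := Groth.L18.Ample.isInvertible_pullback b hN
  choose U e hU hxU he using fun y : X => Groth.L18.GenLoc.exists_affine_frame hN y
  choose V hV hxV hVU using fun z : X' =>
    exists_isAffineOpen_mem_and_subset (x := z) (U := b ⁻¹ᵁ (U (b z))) (hxU (b z))
  refine Scheme.IdealSheafData.ext_of_iSup_eq_top (fun z : X' => (⟨V z, hV z⟩ : X'.affineOpens))
    (eq_top_iff.2 fun z _ => Opens.mem_iSup.2 ⟨z, hxV z⟩) fun z => ?_
  obtain ⟨c, hc⟩ := (he (b z)).exists_coeff le_rfl (rs N le_top (secOf s))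
  rw [rs_self] at hc
  have hle : V z ≤ b ⁻¹ᵁ (U (b z)) := hVU z
  have hfr := ((he (b z)).pullback b N).mono hle
  have hc' : ro hle (b.app (U (b z)) c) • rs ((Scheme.Modules.pullback b).obj N) hle (pull b N (U (b z)) (e (b z))) =
      rs ((Scheme.Modules.pullback b).obj N) le_top (secOf (pullSec b s)) := by
    rw [← rs_smul, ← pull_smul, hc, ← pull_rs b N (le_top : U (b z) ≤ ⊤) (secOf s), rs_rs, pullSec,
      secOf_homOfSection, rs_rs]
    rfl
  rw [Groth.L03.SurfAmple.zeroScheme_ideal_span hN' (pullSec b s) (V := ⟨V z, hV z⟩) hfr hc',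
    Groth.L22.Ideals.comap_ideal b _ ⟨U (b z), hU (b z)⟩ ⟨V z, hV z⟩ hle,
    Groth.L03.SurfAmple.zeroScheme_ideal_span hN s (V := ⟨U (b z), hU (b z)⟩) (he (b z)) hc, Ideal.map_span,
    Set.image_singleton]
  rfl

/-- Effective Cartier divisors pull back, with their ideal modules. -/
theorem nonempty_pullback_idealMod [IsIntegral X] [IsIntegral X'] {C : X.IdealSheafData}
    (hC : BlowUp.IsEffCartierIdeal C) (hη : b (genericPoint X') ∉ C.support) :
    BlowUp.IsEffCartierIdeal (C.comap b) ∧
      Nonempty ((Scheme.Modules.pullback b).obj (ClSub.idealMod C) ≅ ClSub.idealMod (C.comap b)) := by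
  obtain ⟨N, s, hN, hs⟩ := Groth.L03.SurfAmple.exists_canonical_section C hC
  have hN' : PicF.IsInvertible ((Scheme.Modules.pullback b).obj N) := Groth.L18.Ample.isInvertible_pullback b hN
  have hz := zeroScheme_pullSec b hN s
  rw [hs] at hz
  have h0 : genericPoint X ∈ CohB1.genLocus N s := by
    by_contra h
    refine hη ?_
    have h1 : genericPoint X ∈ C.support := hs ▸ (Groth.L22.ZeroScheme.support_zeroScheme hN s).ge h
    exact (genericPoint_specializes _).mem_closed C.support.isClosed h1
  have h1 : genericPoint X' ∈ CohB1.genLocus _ (pullSec b s) := by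
    by_contra h
    refine hη ?_
    have h2 : genericPoint X' ∈ (C.comap b).support :=
      hz ▸ (Groth.L22.ZeroScheme.support_zeroScheme hN' (pullSec b s)).ge h
    rw [Scheme.IdealSheafData.support_comap] at h2
    exact h2
  obtain ⟨e⟩ := Groth.L03.SurfAmple.nonempty_tensor_zeroScheme hN s h0
  obtain ⟨e'⟩ := Groth.L03.SurfAmple.nonempty_tensor_zeroScheme hN' (pullSec b s) h1
  have hC' := Groth.L03.SurfAmple.isEffCartierIdeal_zeroScheme hN' (pullSec b s) h1
  rw [hz] at hC'
  refine ⟨hC', ?_⟩
  rw [hs] at e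
  rw [hz] at e'
  exact nonempty_iso_of_inverse (Groth.L29.DC.PullTensor.pullTensor b (ClSub.idealMod C) N ≪≫
    (Scheme.Modules.pullback b).mapIso e ≪≫ Groth.L29.LocFree.pullbackUnitIso b) e'

end Groth.L03.BlowPt
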