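import Groth.Agent.L03.BlowPt.Rules
import Groth.Agent.L03.BlowPt.PullDiv
import Groth.Agent.L03.SurfAdj.Tools
import Groth.Agent.L21.P1.DoubleCoverApply
import Groth.Agent.S7820

/-!
# The exceptional curve is a projective line
-/

set_option autoImplicit false
set_option linter.style.haveILetI false
set_option backward.isDefEq.respectTransparency false
set_option linter.unusedSectionVars false

universe u

open CategoryTheory CategoryTheory.Limits AlgebraicGeometry TopologicalSpace
open Groth.L11.BlowSmooth Groth.L13.BU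
open Groth.L03.Euler

noncomputable section

namespace Groth.L03.BlowPt

variable {X X' : Scheme.{u}} {x : X} {hx : IsClosed ({x} : Set X)} {b : X' ⟶ X}
variable (k : Type u) [Field k] [IsAlgClosed k] [X.Over (Spec (CommRingCat.of k))]
  [IsProper (X ↘ Spec (CommRingCat.of k))]

variable (hx) in
/-- The centre is the ground field. -/
theorem isIso_centre : IsIso ((ptI hx).subschemeι ≫ (X ↘ Spec (CommRingCat.of k))) := by
  haveI : X.IsSeparated := ⟨by rw [← terminal.comp_from (X ↘ Spec (CommRingCat.of k))]; infer_instance⟩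
  letI : Algebra k (X.residueField x) := Curv2.resAlgebra k X x
  let f := X.fromSpecResidueField x
  haveI : IsClosedImmersion f :=
    IsClosedImmersion.of_isPreimmersion _ (by rw [Scheme.range_fromSpecResidueField]; exact hx)
  haveI : Module.Finite k (X.residueField x) := Groth.L21.Disc.finite_residueField_of_isClosed k hx
  have hker : f.ker = ptI hx := by
    rw [Groth.L23.SchKer.ker_eq_vanishingIdeal f]
    congr 1
    refine TopologicalSpace.Closeds.ext ?_
    show closure (Set.range f) = {x}
    rw [Scheme.range_fromSpecResidueField, hx.closure_eq]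
  let g := IsClosedImmersion.lift (ptI hx).subschemeι f
    (by rw [Scheme.IdealSheafData.ker_subschemeι, hker])
  have hg : g ≫ (ptI hx).subschemeι = f := IsClosedImmersion.lift_fac _ _ _
  haveI : IsIso g := IsClosedImmersion.isIso_lift _ _ (by rw [Scheme.IdealSheafData.ker_subschemeι, hker])
  haveI : IsIso (CommRingCat.ofHom (algebraMap k (X.residueField x))) :=
    (ConcreteCategory.isIso_iff_bijective _).2 IsAlgClosed.algebraMap_bijective_of_isIntegral
  have h : IsIso (g ≫ ((ptI hx).subschemeι ≫ (X ↘ Spec (CommRingCat.of k)))) := by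
    rw [reassoc_of% hg, show f ≫ (X ↘ Spec (CommRingCat.of k)) = _ from
      (Groth.L22.FibreDim.SpecMap_resMap k X x).symm]
    exact inferInstanceAs (IsIso (Spec.map (CommRingCat.ofHom (algebraMap k (X.residueField x)))))
  exact IsIso.of_isIso_comp_left g _

variable [X'.Over (Spec (CommRingCat.of k))] [IsProper (X' ↘ Spec (CommRingCat.of k))]

namespace EChart

variable (D : EChart hx b)

include D in
/-- The exceptional curve is the projective line. -/
theorem exists_iso_P1 (hbo : b ≫ (X ↘ Spec (CommRingCat.of k)) = X' ↘ Spec (CommRingCat.of k))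
    (hE : PicF.IsInvertible (ClSub.idealMod (exc hx b))) :
    ∃ e : (exc hx b).subscheme ≅ CohB1.ProjSpace 1 k,
      e.hom ≫ CohB1.ProjSpace.toSpec 1 k = eι hx b ≫ (X' ↘ Spec (CommRingCat.of k)) := by
  haveI := D.isIntegral
  haveI : IsProper (eι hx b ≫ (X' ↘ Spec (CommRingCat.of k))) := inferInstance
  let c := (ptI hx).subschemeι ≫ (X ↘ Spec (CommRingCat.of k))
  haveI : IsIso c := isIso_centre hx k
  choose Z _hZ hZe hZc using D.exists_zero_scheme hE
  choose g hgi hg using fun j => D.exists_zero_iso (Z j) j (hZc j)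
  haveI : ∀ j, IsIso (g j) := hgi
  let p := fun j => inv (g j ≫ c) ≫ (Z j).subschemeι
  have hp : ∀ j, p j ≫ (eι hx b ≫ (X' ↘ Spec (CommRingCat.of k))) = 𝟙 _ := fun j => by
    have h : (Z j).subschemeι ≫ eι hx b ≫ (X' ↘ Spec (CommRingCat.of k)) = g j ≫ c := by
      show _ = g j ≫ (ptI hx).subschemeι ≫ (X ↘ Spec (CommRingCat.of k))
      rw [reassoc_of% hg j, hbo]
    simp only [p, Category.assoc]
    rw [h, IsIso.inv_hom_id]
  have hker : ∀ j, (p j).ker = Z j := fun j => by
    simp only [p, Scheme.Hom.ker_comp_of_isIso, Scheme.IdealSheafData.ker_subschemeι]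
  have hne : p 0 ≠ p 1 := by
    intro h
    have hZ : Z 0 = Z 1 := by rw [← hker 0, ← hker 1, h]
    have h0 := hZc 0 0
    rw [hZ, hZc 1 0, coef, coef, if_pos rfl, if_neg (by decide)] at h0
    have h1 := congrArg (fun I : (Spec (CommRingCat.of (EC D.f 0))).IdealSheafData =>
      (I.ideal ⟨⊤, isAffineOpen_top _⟩).map (Scheme.ΓSpecIso (CommRingCat.of (EC D.f 0))).hom.hom) h0
    simp only [idealOf_top, Ideal.map_map, Ideal.span_singleton_one] at h1
    have hid : (Scheme.ΓSpecIso (CommRingCat.of (EC D.f 0))).hom.hom.comp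
        (Scheme.ΓSpecIso (CommRingCat.of (EC D.f 0))).inv.hom = RingHom.id _ := by
      rw [← CommRingCat.hom_comp, Iso.inv_hom_id]; rfl
    erw [hid, Ideal.map_id, Ideal.map_id] at h1
    exact (origin_facts (i := (0 : Fin 2)) D.qreg D.isMaximal).1.ne_top h1
  obtain ⟨a⟩ := hZe 0
  obtain ⟨a'⟩ := hZe 1
  obtain ⟨e⟩ := nonempty_iso_of_inverse a a'
  exact Groth.Agent.S7820.result k (eι hx b ≫ (X' ↘ Spec (CommRingCat.of k)))
    (fun z => ⟨inferInstance, D.isNormal z⟩) D.dim_eq (p 0) (p 1) (hp 0) (hp 1) hne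
    ⟨eqToIso (by rw [hker]) ≪≫ e ≪≫ eqToIso (by rw [hker])⟩

include D in
/-- The Euler characteristic of the exceptional curve is one. -/
theorem euler_exc [IsIntegral X'] (hbo : b ≫ (X ↘ Spec (CommRingCat.of k)) = X' ↘ Spec (CommRingCat.of k))
    (hE : PicF.IsInvertible (ClSub.idealMod (exc hx b))) :
    Curv2.euler k X' (ClSub.quotMod (exc hx b)) = 1 := by
  obtain ⟨e, he⟩ := D.exists_iso_P1 k hbo hE
  letI := excOver k hx b
  letI : (CohB1.ProjSpace 1 k).Over (Spec (CommRingCat.of k)) := ⟨CohB1.ProjSpace.toSpec 1 k⟩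
  haveI := Groth.L16.ProjSpace.isProper_toSpec 1 k
  haveI : IsProper ((exc hx b).subscheme ↘ Spec (CommRingCat.of k)) :=
    inferInstanceAs (IsProper (eι hx b ≫ (X' ↘ Spec (CommRingCat.of k))))
  haveI : IsProper (CohB1.ProjSpace 1 k ↘ Spec (CommRingCat.of k)) :=
    inferInstanceAs (IsProper (CohB1.ProjSpace.toSpec 1 k))
  haveI : (CohB1.ProjSpace 1 k).IsSeparated :=
    ⟨by rw [← terminal.comp_from (CohB1.ProjSpace 1 k ↘ Spec (CommRingCat.of k))]; infer_instance⟩
  haveI : (exc hx b).subscheme.IsSeparated :=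
    ⟨by rw [← terminal.comp_from ((exc hx b).subscheme ↘ Spec (CommRingCat.of k))]; infer_instance⟩
  rw [Groth.L03.SurfAdj.euler_subscheme k (exc hx b)]
  have h := euler_push (k := k) e.hom (Coh.structureModule (exc hx b).subscheme)
    (Groth.L19.Conormal.isQCoh_structureModule _) he
  obtain ⟨i⟩ := nonempty_push_structure e.hom
  exact h.symm.trans ((euler_iso i).trans (Groth.L21.P1.euler_structure k))

end EChart

end Groth.L03.BlowPt
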