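import Groth.Agent.L03.SurfAmple.Product
import Groth.Agent.L22.BlowUp
import Groth.Agent.L22.CartierDecomp
import Groth.Agent.L08.Cube.Inverse

/-!
# Invertible modules trivial off an integral effective Cartier divisor
-/

set_option autoImplicit false
set_option backward.isDefEq.respectTransparency false
set_option linter.style.haveILetI false
set_option linter.unusedSectionVars false

universe u

open CategoryTheory CategoryTheory.Limits AlgebraicGeometry TopologicalSpace
open Groth.L18.Frame (rs ro rs_rs rs_self rs_smul IsFrame)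
open Groth.L18.GenLoc (secOf secOf_homOfSection isFrame_genLocus)
open Groth.L18.Ample (tw it fr isFrame_fr it_fr exists_extend)
open Groth.L00.Tensor (tensorIso tensorComm tensorUnitLeft tensorUnitRight tensorAssoc tensorMiddleFour)

noncomputable section

namespace Groth.L03.BlowPt

variable {X : Scheme.{u}} [IsIntegral X] {E : X.IdealSheafData} {N L : X.Modules}

theorem isEffCartier_pow (hE : BlowUp.IsEffCartierIdeal E) : ∀ j : ℕ, BlowUp.IsEffCartierIdeal (E ^ j)
  | 0 => by rw [pow_zero]; exact Groth.L22.Ideals.isEffCartier_top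
  | j + 1 => by rw [pow_succ]; exact Groth.L22.Ideals.isEffCartier_mul (isEffCartier_pow hE j) hE

omit [IsIntegral X] in
theorem isInvertible_tw (hL : PicF.IsInvertible L) (hN : PicF.IsInvertible N) : ∀ m : ℕ, PicF.IsInvertible (tw L N m)
  | 0 => hL
  | m + 1 => Groth.L18.GenLoc.isInvertible_tensor (isInvertible_tw hL hN m) hN

/-- Products of effective Cartier divisors, on modules. -/
theorem nonempty_idealMod_mul {I J : X.IdealSheafData} (hI : BlowUp.IsEffCartierIdeal I)
    (hJ : BlowUp.IsEffCartierIdeal J) :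
    Nonempty (ClSub.idealMod (I * J) ≅ CohB1.tensorMod (ClSub.idealMod I) (ClSub.idealMod J)) := by
  obtain ⟨A, B, s, t, hA, hB, hs, ht, hη, hη', hprod⟩ := Groth.L03.SurfAmple.exists_section_mul hI hJ
  have hP := Groth.L18.GenLoc.isInvertible_tensor hA hB
  have hηP : genericPoint X ∈ CohB1.genLocus _ (Groth.L18.GenLoc.tensHom s t) := by
    rw [Groth.L18.GenLoc.genLocus_tensHom hA hB]; exact ⟨hη, hη'⟩
  obtain ⟨e₁⟩ := Groth.L03.SurfAmple.nonempty_tensor_zeroScheme hA s hη
  obtain ⟨e₂⟩ := Groth.L03.SurfAmple.nonempty_tensor_zeroScheme hB t hη'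
  obtain ⟨e⟩ := Groth.L03.SurfAmple.nonempty_tensor_zeroScheme hP _ hηP
  rw [hs] at e₁
  rw [ht] at e₂
  rw [hprod] at e
  let e₁₂ : CohB1.tensorMod (CohB1.tensorMod (ClSub.idealMod I) (ClSub.idealMod J)) (CohB1.tensorMod A B) ≅
      Coh.structureModule X :=
    tensorMiddleFour _ _ _ _ ≪≫ tensorIso e₁ e₂ ≪≫ tensorUnitLeft _
  exact ⟨(tensorUnitRight _).symm ≪≫ tensorIso (Iso.refl _) e₁₂.symm ≪≫
    tensorIso (Iso.refl _) (tensorComm _ _) ≪≫ (tensorAssoc _ _ _).symm ≪≫ tensorIso e (Iso.refl _) ≪≫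
    tensorUnitLeft _⟩

theorem nonempty_idealMod_one :
    Nonempty (ClSub.idealMod (1 : X.IdealSheafData) ≅ Coh.structureModule X) := by
  have h1 : BlowUp.IsEffCartierIdeal (1 : X.IdealSheafData) := Groth.L22.Ideals.isEffCartier_top
  obtain ⟨e⟩ := nonempty_idealMod_mul h1 h1
  rw [one_mul] at e
  obtain ⟨M, -, ⟨f⟩⟩ := Groth.L08.Cube.exists_inverse
    ((Groth.Agent.L19.IdealInvertible.isEffCartier_iff _).2 h1)
  exact ⟨(tensorUnitRight _).symm ≪≫ tensorIso (Iso.refl _) f.symm ≪≫ (tensorAssoc _ _ _).symm ≪≫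
    tensorIso e.symm (Iso.refl _) ≪≫ f⟩

/-- Twisting by `N` is undone by the powers of its inverse divisor. -/
theorem nonempty_iso_of_pow_tw (hE : BlowUp.IsEffCartierIdeal E)
    (eN : CohB1.tensorMod (ClSub.idealMod E) N ≅ Coh.structureModule X) :
    ∀ m : ℕ, Nonempty (CohB1.tensorMod (ClSub.idealMod (E ^ m)) (tw L N m) ≅ Coh.structureModule X) →
      Nonempty (L ≅ Coh.structureModule X)
  | 0, ⟨e⟩ => by
    rw [pow_zero] at e
    obtain ⟨e1⟩ := nonempty_idealMod_one (X := X)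
    exact ⟨(tensorUnitLeft L).symm ≪≫ tensorIso e1.symm (Iso.refl L) ≪≫ e⟩
  | m + 1, ⟨e⟩ => by
    rw [pow_succ] at e
    obtain ⟨e1⟩ := nonempty_idealMod_mul (isEffCartier_pow hE m) hE
    exact nonempty_iso_of_pow_tw hE eN m ⟨(tensorUnitRight _).symm ≪≫ tensorIso (Iso.refl _) eN.symm ≪≫
      tensorMiddleFour _ _ _ _ ≪≫ tensorIso e1.symm (Iso.refl _) ≪≫ e⟩

variable [IsNoetherian X]

/-- An invertible module trivial off an integral effective Cartier divisor is a power of it. -/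
theorem exists_tensor_pow (hE : BlowUp.IsEffCartierIdeal E) [IsIntegral E.subscheme]
    (hN : PicF.IsInvertible N) (σ : Coh.structureModule X ⟶ N) (hσ : PicF2.zeroScheme N σ = E)
    (hL : PicF.IsInvertible L) (e : Γ(L, CohB1.genLocus N σ)) (he : IsFrame L (CohB1.genLocus N σ) e) :
    ∃ j m : ℕ, Nonempty (CohB1.tensorMod (ClSub.idealMod (E ^ j)) (tw L N m) ≅ Coh.structureModule X) := by
  classical
  obtain ⟨m, t, ht⟩ := exists_extend hN hL σ e
  let T := tw L N m
  have hT : PicF.IsInvertible T := isInvertible_tw hL hN m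
  let τ : Coh.structureModule X ⟶ T := Groth.L16.homOfSection T t
  have hτ : secOf τ = t := secOf_homOfSection t
  have hle : CohB1.genLocus N σ ≤ CohB1.genLocus T τ := by
    refine Groth.L18.GenLoc.le_genLocus τ ?_
    have h := it_fr (N := L) (secOf σ) (W := CohB1.genLocus N σ) (e := e)
      (ε := rs N le_top (secOf σ)) (a := 1) (b := 1) (one_smul _ _) m
    rw [one_smul, one_pow, one_mul, one_smul] at h
    rw [hτ, ht, h]
    exact isFrame_fr he (isFrame_genLocus σ) m
  have hησ : genericPoint X ∈ CohB1.genLocus N σ := by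
    by_contra h
    exact Groth.L03.SurfAmple.genericPoint_mem_of_isEffCartier hE
      (hσ ▸ (Groth.L22.ZeroScheme.support_zeroScheme hN σ).ge h)
  have hητ := hle hησ
  let Z := PicF2.zeroScheme T τ
  have hsupp : ∀ z : X, z ∈ (Z.support : Set X) → z ∈ (E.support : Set X) := by
    intro z hz
    have h1 : z ∉ CohB1.genLocus T τ := (Groth.L22.ZeroScheme.support_zeroScheme hT τ).le hz
    exact hσ ▸ (Groth.L22.ZeroScheme.support_zeroScheme hN σ).ge fun h => h1 (hle h)
  obtain ⟨ξ, hξ⟩ := Groth.L22.CartierDecomp.exists_generic E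
  have hcov : ∀ x : X, ∃ (V : X.affineOpens) (g c : Γ(X, V.1)), x ∈ V.1 ∧ g ≠ 0 ∧ c ≠ 0 ∧
      E.ideal V = Ideal.span {g} ∧ Z.ideal V = Ideal.span {c} := by
    intro x
    obtain ⟨W, a, -, hxW, ha⟩ := Groth.L18.GenLoc.exists_affine_frame hN x
    obtain ⟨W', b, -, hxW', hb⟩ := Groth.L18.GenLoc.exists_affine_frame hT x
    obtain ⟨V, hV, hxV, hVle⟩ := exists_isAffineOpen_mem_and_subset (x := x) (U := W ⊓ W') ⟨hxW, hxW'⟩
    have hVW : V ≤ W := fun y hy => (hVle hy).1
    have hVW' : V ≤ W' := fun y hy => (hVle hy).2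
    obtain ⟨g, hg⟩ := (ha.mono hVW).exists_coeff le_rfl (rs N le_top (secOf σ))
    obtain ⟨c, hc⟩ := (hb.mono hVW').exists_coeff le_rfl (rs T le_top (secOf τ))
    rw [rs_self] at hg hc
    exact ⟨⟨V, hV⟩, g, c, hxV, Groth.L03.SurfAmple.coeff_ne_zero σ hησ ⟨x, hxV⟩ (ha.mono hVW) hg,
      Groth.L03.SurfAmple.coeff_ne_zero τ hητ ⟨x, hxV⟩ (hb.mono hVW') hc,
      hσ ▸ Groth.L03.SurfAmple.zeroScheme_ideal_span hN σ (V := ⟨V, hV⟩) (ha.mono hVW) hg,
      Groth.L03.SurfAmple.zeroScheme_ideal_span hT τ (V := ⟨V, hV⟩) (hb.mono hVW') hc⟩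
  choose V g c hxV hg hc hEV hZV using hcov
  have hprime : ∀ x, ξ ∈ (V x).1 → Prime (g x) := fun x hx => by
    refine (Ideal.span_singleton_prime (hg x)).1 ?_
    rw [← hEV x, ← Groth.L22.CartierDecomp.primeIdealOf_generic hξ (V x) hx]
    exact PrimeSpectrum.isPrime _
  have hpow : ∀ x, ξ ∈ (V x).1 → ∃ i : ℕ, Z.ideal (V x) = E.ideal (V x) ^ i := fun x hx => by
    haveI : Nonempty (V x).1 := ⟨⟨ξ, hx⟩⟩
    have hrad : g x ∈ (Ideal.span {c x}).radical := by
      rw [Ideal.radical_eq_sInf, Submodule.mem_sInf]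
      rintro J ⟨hJ, hJp⟩
      have hsp : (V x).2.fromSpec ⟨J, hJp⟩ ∈ (V x).1 := Groth.L22.LocalDim.fromSpec_mem (V x).2 _
      have hmZ : (V x).2.fromSpec ⟨J, hJp⟩ ∈ (Z.support : Set X) := by
        rw [Groth.L22.CartierDecomp.mem_support_iff hsp, hZV x, Groth.L22.LocalDim.primeIdealOf_fromSpec]
        exact hJ
      have hmE := (Groth.L22.CartierDecomp.mem_support_iff hsp).1 (hsupp _ hmZ)
      rw [hEV x, Groth.L22.LocalDim.primeIdealOf_fromSpec] at hmE
      exact hmE (Ideal.mem_span_singleton_self _)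
    obtain ⟨n, hn⟩ := hrad
    obtain ⟨i, -, hi⟩ := (dvd_prime_pow (hprime x hx) n).1 (Ideal.mem_span_singleton.1 hn)
    exact ⟨i, by rw [hZV x, hEV x, Ideal.span_singleton_pow, Ideal.span_singleton_eq_span_singleton]; exact hi⟩
  obtain ⟨i₀, hi₀⟩ := hpow ξ (hxV ξ)
  have key : Z = E ^ i₀ := by
    refine Scheme.IdealSheafData.ext_of_iSup_eq_top V (eq_top_iff.2 fun z _ => Opens.mem_iSup.2 ⟨z, hxV z⟩)
      fun x => ?_
    rw [Scheme.IdealSheafData.ideal_pow, Pi.pow_apply]
    by_cases hx : ξ ∈ (V x).1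
    · obtain ⟨i, hi⟩ := hpow x hx
      obtain ⟨W, hW, hξW, hWle⟩ := exists_isAffineOpen_mem_and_subset (x := ξ) (U := (V x).1 ⊓ (V ξ).1) ⟨hx, hxV ξ⟩
      let W' : X.affineOpens := ⟨W, hW⟩
      have hres : ∀ (y : X) (hy : W ≤ (V y).1) (l : ℕ), Z.ideal (V y) = E.ideal (V y) ^ l →
          Z.ideal W' = E.ideal W' ^ l := fun y hy l hl => by
        rw [← Z.map_ideal (U := W') (V := V y) hy, ← E.map_ideal (U := W') (V := V y) hy, hl, Ideal.map_pow]
      have h1 := (hres x (fun z hz => (hWle hz).1) i hi).symm.trans (hres ξ (fun z hz => (hWle hz).2) i₀ hi₀)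
      have hP : (E.ideal W').IsPrime := by
        rw [← Groth.L22.CartierDecomp.primeIdealOf_generic hξ W' hξW]
        exact PrimeSpectrum.isPrime _
      rw [← E.map_ideal (U := W') (V := V ξ) (fun z hz => (hWle hz).2), hEV ξ, Ideal.map_span,
        Set.image_singleton] at hP h1
      haveI : Nonempty W'.1 := ⟨⟨ξ, hξW⟩⟩
      haveI : Nonempty (V ξ).1 := ⟨⟨ξ, hxV ξ⟩⟩
      set g' := (X.presheaf.map (homOfLE (fun z hz => (hWle hz).2 : W'.1 ≤ (V ξ).1)).op).hom (g ξ)
      have hg' : g' ≠ 0 := fun h0 => hg ξ ((map_eq_zero_iff _ (map_injective_of_isIntegral X _)).1 h0)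
      rw [Ideal.span_singleton_pow, Ideal.span_singleton_pow, Ideal.span_singleton_eq_span_singleton] at h1
      have hpr := (Ideal.span_singleton_prime hg').1 hP
      have : i = i₀ := le_antisymm ((pow_dvd_pow_iff hg' hpr.not_isUnit).1 h1.dvd)
        ((pow_dvd_pow_iff hg' hpr.not_isUnit).1 h1.symm.dvd)
      rw [hi, this]
    · have hE1 : E.ideal (V x) = ⊤ := Groth.L22.CartierDecomp.ideal_eq_top fun z hz hzE =>
        hx ((hξ.specializes hzE).mem_open (V x).1.2 hz)
      have hZ1 : Z.ideal (V x) = ⊤ := Groth.L22.CartierDecomp.ideal_eq_top fun z hz hzZ =>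
        hx ((hξ.specializes (hsupp z hzZ)).mem_open (V x).1.2 hz)
      rw [hE1, hZ1, Ideal.top_pow]
  refine ⟨i₀, m, ?_⟩
  rw [← key]
  exact Groth.L03.SurfAmple.nonempty_tensor_zeroScheme hT τ hητ

variable (k : Type u) [Field k] [X.Over (Spec (CommRingCat.of k))] [IsProper (X ↘ Spec (CommRingCat.of k))]

open Groth.L22.Inter Groth.L22.Big

theorem ii_idealMod_pow (hd : topologicalKrullDim X ≤ (2 : ℕ)) (hE : BlowUp.IsEffCartierIdeal E) {A : X.Modules}
    (hA : PicF.IsInvertible A) :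
    ∀ j : ℕ, ii k (ClSub.idealMod (E ^ j)) A = j * ii k (ClSub.idealMod E) A
  | 0 => by
    rw [pow_zero]
    have h1 : BlowUp.IsEffCartierIdeal (1 : X.IdealSheafData) := Groth.L22.Ideals.isEffCartier_top
    have h := Groth.L03.SurfAmple.ii_ideal_mul k hd h1 h1 hA
    rw [one_mul] at h
    simp only [Nat.cast_zero, zero_mul]
    linarith
  | j + 1 => by
    rw [pow_succ, Groth.L03.SurfAmple.ii_ideal_mul k hd (isEffCartier_pow hE j) hE hA, ii_idealMod_pow hd hE hA j]
    push_cast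
    ring

theorem ii_tw (hd : topologicalKrullDim X ≤ (2 : ℕ)) (hL : PicF.IsInvertible L) (hN : PicF.IsInvertible N)
    {A : X.Modules} (hA : PicF.IsInvertible A) : ∀ m : ℕ, ii k (tw L N m) A = ii k L A + m * ii k N A
  | 0 => by simp [tw]
  | m + 1 => by
    show ii k (CohB1.tensorMod (tw L N m) N) A = _
    rw [ii_tensor k hd (isInvertible_tw hL hN m) hN hA, ii_tw hd hL hN hA m]
    push_cast
    ring

/-- A module trivial off the divisor, orthogonal to it, is trivial. -/
theorem nonempty_iso_of_orth (hd : topologicalKrullDim X ≤ (2 : ℕ)) (hE : BlowUp.IsEffCartierIdeal E)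
    [IsIntegral E.subscheme] (hEE : ii k (ClSub.idealMod E) (ClSub.idealMod E) ≠ 0)
    (hN : PicF.IsInvertible N) (σ : Coh.structureModule X ⟶ N) (hσ : PicF2.zeroScheme N σ = E)
    (hL : PicF.IsInvertible L) (e : Γ(L, CohB1.genLocus N σ)) (he : IsFrame L (CohB1.genLocus N σ) e)
    (horth : ii k L (ClSub.idealMod E) = 0) : Nonempty (L ≅ Coh.structureModule X) := by
  obtain ⟨j, m, hjm⟩ := exists_tensor_pow hE hN σ hσ hL e he
  have hη : genericPoint X ∈ CohB1.genLocus N σ := by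
    by_contra h
    exact Groth.L03.SurfAmple.genericPoint_mem_of_isEffCartier hE
      (hσ ▸ (Groth.L22.ZeroScheme.support_zeroScheme hN σ).ge h)
  have eN := Groth.L03.SurfAmple.nonempty_tensor_zeroScheme hN σ hη
  rw [hσ] at eN
  have hI := (Groth.Agent.L19.IdealInvertible.isEffCartier_iff _).2 hE
  have hIj := (Groth.Agent.L19.IdealInvertible.isEffCartier_iff _).2 (isEffCartier_pow hE j)
  have h1 := Groth.L03.SurfNum.Gram.ii_inverse k hd hIj (isInvertible_tw hL hN m) hI hjm.some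
  have h2 := Groth.L03.SurfNum.Gram.ii_inverse k hd hI hN hI eN.some
  rw [ii_idealMod_pow k hd hE hI, ii_tw k hd hL hN hI, horth, h2] at h1
  have h3 : ((j : ℚ) - m) * ii k (ClSub.idealMod E) (ClSub.idealMod E) = 0 := by linarith
  have hjm' : j = m := by
    rcases mul_eq_zero.1 h3 with h | h
    · exact_mod_cast sub_eq_zero.1 h
    · exact absurd h hEE
  subst hjm'
  exact nonempty_iso_of_pow_tw hE eN.some j hjm

end Groth.L03.BlowPt
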