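import Groth.Agent.L03.BlowPt.DetCongr
import Groth.Agent.L03.BlowPt.OffExc
import Groth.Agent.L03.BlowPt.Genus

/-!
# The canonical module of the blow-up of a point
-/

set_option autoImplicit false
set_option linter.style.haveILetI false
set_option backward.isDefEq.respectTransparency false
set_option linter.unusedSectionVars false

universe u

open CategoryTheory CategoryTheory.Limits AlgebraicGeometry TopologicalSpace
open Groth.L18.Frame (rs IsFrame restrict_smul')
open Groth.L00.Tensor (tensorIso tensorComm tensorUnitLeft tensorUnitRight tensorAssoc)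
open Groth.L22.Inter Groth.L22.Big Groth.L03.Euler

noncomputable section

namespace Groth.L03.BlowPt

/-- A trivialisation on an open subscheme gives a frame there. -/
theorem exists_frame_of_pullback_iso {X : Scheme.{u}} {L : X.Modules} {U : X.Opens}
    (φ₀ : (Scheme.Modules.pullback U.ι).obj L ≅ Coh.structureModule (U : Scheme.{u})) :
    ∃ e : Γ(L, U), IsFrame L U e := by
  let φ : (Scheme.Modules.restrictFunctor U.ι).obj L ≅ Coh.structureModule (U : Scheme.{u}) :=
    (Scheme.Modules.restrictFunctorIsoPullback U.ι).app L ≪≫ φ₀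
  have hU : U.ι ''ᵁ ⊤ = U := U.ι_image_top
  refine ⟨rs L hU.ge (φ.inv.app ⊤ (1 : Γ(U.toScheme, ⊤))), fun V h => ?_⟩
  rw [show (fun a : Γ(X, V) => a • rs L h (rs L hU.ge (φ.inv.app ⊤ (1 : Γ(U.toScheme, ⊤))))) =
    fun a => a • rs L (h.trans hU.ge) (φ.inv.app ⊤ (1 : Γ(U.toScheme, ⊤))) by simp only [Groth.L18.Frame.rs_rs]]
  generalize h.trans hU.ge = h'
  obtain ⟨V, rfl⟩ : ∃ V' : U.toScheme.Opens, U.ι ''ᵁ V' = V := ⟨U.ι ⁻¹ᵁ V, by
    rw [Scheme.Hom.image_preimage_eq_opensRange_inf, Scheme.Opens.opensRange_ι, inf_eq_right]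
    exact h⟩
  have key : (fun a : Γ(X, U.ι ''ᵁ V) => a • rs L h' (φ.inv.app ⊤ (1 : Γ(U.toScheme, ⊤)))) =
      fun a : Γ(U.toScheme, V) => φ.inv.app V a := by
    funext a
    have h1 : rs L h' (φ.inv.app ⊤ (1 : Γ(U.toScheme, ⊤))) = φ.inv.app V (1 : Γ(U.toScheme, V)) := by
      have := congr($(φ.inv.mapPresheaf.naturality (homOfLE (le_top : V ≤ ⊤)).op) (1 : Γ(U.toScheme, ⊤)))
      refine Eq.trans ?_ (this.symm.trans (congrArg (φ.inv.app V) (map_one (U.toScheme.presheaf.map (homOfLE (le_top : V ≤ ⊤)).op).hom)))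
      rfl
    rw [h1]
    have h2 := φ.inv.app_smul (U := V) (show Γ(U.toScheme, V) from a) (1 : Γ(U.toScheme, V))
    refine Eq.trans ?_ ((congrArg (φ.inv.app V) (show ((show Γ(U.toScheme, V) from a) • (1 : Γ(U.toScheme, V))) = a
      from mul_one _)).symm.trans h2).symm
    exact (restrict_smul' L U V a _).symm
  show Function.Bijective fun a : Γ(X, U.ι ''ᵁ V) => _
  rw [key]
  exact ConcreteCategory.bijective_of_isIso (φ.inv.app V)

variable {X X' : Scheme.{u}} {x : X} {hx : IsClosed ({x} : Set X)} {b : X' ⟶ X}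
variable (k : Type u) [Field k] [IsAlgClosed k]
  [X.Over (Spec (CommRingCat.of k))] [IsProper (X ↘ Spec (CommRingCat.of k))]
  [X'.Over (Spec (CommRingCat.of k))] [IsProper (X' ↘ Spec (CommRingCat.of k))] [IsIntegral X] [IsIntegral X']

/-- `K' = π*K + E`. -/
theorem canonical_iso (hbo : b ≫ (X ↘ Spec (CommRingCat.of k)) = X' ↘ Spec (CommRingCat.of k))
    (hdim : topologicalKrullDim X = 2) (hreg : ∀ y : X, IsRegularLocalRing (X.presheaf.stalk y))
    (hdim' : topologicalKrullDim X' = 2) (hreg' : ∀ y : X', IsRegularLocalRing (X'.presheaf.stalk y))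
    (hb : BlowUp.IsBlowUp b (ptI hx))
    {W : X.Modules} (hW : ExtPow.IsExtPow 2 (Omega.sheaf (X ↘ Spec (CommRingCat.of k))) W)
    {W' : X'.Modules} (hW' : ExtPow.IsExtPow 2 (Omega.sheaf (X' ↘ Spec (CommRingCat.of k))) W') :
    PicF.IsInvertible W ∧ PicF.IsInvertible W' ∧
      Nonempty (CohB1.tensorMod W' (ClSub.idealMod (exc hx b)) ≅ (Scheme.Modules.pullback b).obj W) := by
  haveI := Groth.L21.RR.isNoetherian_of_proper (X := X) k
  haveI := Groth.L21.RR.isNoetherian_of_proper (X := X') k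
  have hd : topologicalKrullDim X = (2 : ℕ) := hdim.trans Nat.cast_ofNat.symm
  have hd' : topologicalKrullDim X' = (2 : ℕ) := hdim'.trans Nat.cast_ofNat.symm
  haveI : Smooth (X ↘ Spec (CommRingCat.of k)) :=
    Groth.L26.Weil.smooth_of_regular_closed _ fun x _ => hreg x
  haveI : Smooth (X' ↘ Spec (CommRingCat.of k)) :=
    Groth.L26.Weil.smooth_of_regular_closed _ fun x _ => hreg' x
  haveI : SmoothOfRelativeDimension 2 (X ↘ Spec (CommRingCat.of k)) :=
    Groth.L16.SmoothSection.smoothOfRelativeDimension_dim _ 2 hd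
  haveI : SmoothOfRelativeDimension 2 (X' ↘ Spec (CommRingCat.of k)) :=
    Groth.L16.SmoothSection.smoothOfRelativeDimension_dim _ 2 hd'
  have hΩ := Groth.L02.Canon.isFinLocFreeOfRank_omega (f := X ↘ Spec (CommRingCat.of k)) 2
  have hΩ' := Groth.L02.Canon.isFinLocFreeOfRank_omega (f := X' ↘ Spec (CommRingCat.of k)) 2
  have hWi : PicF.IsInvertible W := by
    obtain ⟨ψ, hψ⟩ := id hW; exact Groth.L22.CurveDeg.Det.isInvertible_of_extPow ψ hψ hΩ
  have hWi' : PicF.IsInvertible W' := by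
    obtain ⟨ψ, hψ⟩ := id hW'; exact Groth.L22.CurveDeg.Det.isInvertible_of_extPow ψ hψ hΩ'
  obtain ⟨hI, -, horth, hII⟩ := rules k hbo hd (hreg x) hd' hb
  rw [ptDeg_eq_one] at hII
  obtain ⟨D⟩ := exists_echart hb (hreg x) (ringKrullDim_stalk_closed k hd hx)
  haveI := D.isIntegral
  have hχ := D.euler_exc k hbo hI
  have hIW := Groth.L03.SurfAdj.adj_num k hdim' hreg' hW' (exc hx b) hI
  rw [hχ, hII] at hIW
  have hWp : PicF.IsInvertible ((Scheme.Modules.pullback b).obj W) := Groth.L18.Ample.isInvertible_pullback b hWi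
  obtain ⟨M, hM, ⟨eM⟩⟩ := Groth.L08.Cube.exists_inverse hWp
  refine ⟨hWi, hWi', ?_⟩
  have hbC : BlowUp.IsEffCartierIdeal (exc hx b) := hb.1
  obtain ⟨N, σ, hN, hσ⟩ := Groth.L03.SurfAmple.exists_canonical_section (exc hx b) hbC
  have hη : genericPoint X' ∈ CohB1.genLocus N σ := by
    by_contra h
    exact Groth.L03.SurfAmple.genericPoint_mem_of_isEffCartier hbC
      (hσ ▸ (Groth.L22.ZeroScheme.support_zeroScheme hN σ).ge h)
  have eN := Groth.L03.SurfAmple.nonempty_tensor_zeroScheme hN σ hη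
  rw [hσ] at eN
  obtain ⟨eN⟩ := eN
  let C : X.Opens := (ptI hx).support.compl
  let U := CohB1.genLocus N σ
  have hUC : U = b ⁻¹ᵁ C := by
    refine TopologicalSpace.Opens.ext (Set.ext fun z => ?_)
    have h1 : z ∈ (exc hx b).support ↔ b z ∈ (ptI hx).support := by
      rw [show (exc hx b).support = (ptI hx).support.preimage b.continuous from
        Scheme.IdealSheafData.support_comap _ _]
      exact Iff.rfl
    constructor
    · intro hz h2
      exact (Groth.L22.ZeroScheme.support_zeroScheme hN σ).le (hσ.symm ▸ h1.2 h2) hz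
    · intro hz
      by_contra h
      exact hz (h1.1 (hσ ▸ (Groth.L22.ZeroScheme.support_zeroScheme hN σ).ge h))
  haveI : IsIso (b ∣_ C) := Groth.L22.Ideals.isIso_restrict_compl hb
  haveI hgo : IsOpenImmersion (U.ι ≫ b) := by
    rw [hUC, ← morphismRestrict_ι b C]
    infer_instance
  let j := U.ι
  have hjk : j ≫ (X' ↘ Spec (CommRingCat.of k)) = (j ≫ b) ≫ (X ↘ Spec (CommRingCat.of k)) := by
    rw [Category.assoc, hbo]
  obtain ⟨eΩ⟩ := nonempty_omega_restrict (X' ↘ Spec (CommRingCat.of k)) j (X ↘ Spec (CommRingCat.of k)) (j ≫ b) hjk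
  obtain ⟨eW⟩ := nonempty_det_congr j (j ≫ b) hΩ' hW' hΩ hW eΩ
  let P := fun A : X'.Modules => (Scheme.Modules.pullback j).obj A
  haveI : IsIso ((Scheme.Modules.restrictFunctor U.ι).map σ) :=
    (Groth.L18.GenLoc.isIso_restrict_iff_isFrame σ U).2 (Groth.L18.GenLoc.isFrame_genLocus σ)
  let eNj : P N ≅ Coh.structureModule (U : Scheme.{u}) :=
    ((Scheme.Modules.restrictFunctorIsoPullback j).app N).symm ≪≫
      (asIso ((Scheme.Modules.restrictFunctor U.ι).map σ)).symm ≪≫
      (Scheme.Modules.restrictFunctorIsoPullback j).app _ ≪≫ Groth.L29.LocFree.pullbackUnitIso j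
  let eIj : P (ClSub.idealMod (exc hx b)) ≅ Coh.structureModule (U : Scheme.{u}) :=
    (tensorUnitRight _).symm ≪≫ tensorIso (Iso.refl _) eNj.symm ≪≫
      Groth.L29.DC.PullTensor.pullTensor j _ N ≪≫ (Scheme.Modules.pullback j).mapIso eN ≪≫
      Groth.L29.LocFree.pullbackUnitIso j
  let L := CohB1.tensorMod (CohB1.tensorMod W' (ClSub.idealMod (exc hx b))) M
  have hWI := Groth.L18.GenLoc.isInvertible_tensor hWi' hI
  have hL : PicF.IsInvertible L := Groth.L18.GenLoc.isInvertible_tensor hWI hM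
  let eLj : P L ≅ Coh.structureModule (U : Scheme.{u}) :=
    (Groth.L29.DC.PullTensor.pullTensor j _ M).symm ≪≫
      tensorIso ((Groth.L29.DC.PullTensor.pullTensor j W' _).symm ≪≫ tensorIso (Iso.refl _) eIj ≪≫
        tensorUnitRight _ ≪≫ eW ≪≫ ((Scheme.Modules.pullbackComp j b).app W).symm) (Iso.refl _) ≪≫
      Groth.L29.DC.PullTensor.pullTensor j _ M ≪≫ (Scheme.Modules.pullback j).mapIso eM ≪≫
      Groth.L29.LocFree.pullbackUnitIso j
  obtain ⟨e, he⟩ := exists_frame_of_pullback_iso eLj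
  have hLI : ii k L (ClSub.idealMod (exc hx b)) = 0 := by
    have hMI := Groth.L03.SurfNum.Gram.ii_inverse k hd'.le hWp hM hI eM
    rw [ii_comm k ((Scheme.Modules.pullback b).obj W), horth hWi] at hMI
    rw [ii_tensor k hd'.le hWI hM hI, ii_tensor k hd'.le hWi' hI hI, hMI, ii_comm k W', hII]
    push_cast at hIW ⊢
    linarith
  obtain ⟨eL⟩ := nonempty_iso_of_orth k hd'.le hbC
    (by rw [hII]; norm_num) hN σ hσ hL e he hLI
  exact nonempty_iso_of_inverse eL eM

end Groth.L03.BlowPt
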