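import Groth.Agent.L03.BlowPt.PtDeg
import Groth.Agent.L03.SurfNum.CurveDegree
import Groth.Agent.L22.Inter.PullNum
import Groth.Agent.L16.Blow.Integral
import Groth.Agent.L18.PBundle.TwistPow

/-!
# Intersection numbers on the blow-up of a closed point of a regular surface
-/

set_option autoImplicit false
set_option linter.style.haveILetI false
set_option backward.isDefEq.respectTransparency false
set_option linter.unusedSectionVars false

universe u

open CategoryTheory CategoryTheory.Limits AlgebraicGeometry TopologicalSpace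
open Groth.L03.Euler Groth.L22.Inter Groth.L22.Nef Groth.L22.Big Groth.L03.SurfNum
open Groth.L18.Frame (rs IsFrame)

noncomputable section

namespace Groth.L03.BlowPt

variable {X X' : Scheme.{u}} {x : X} {hx : IsClosed ({x} : Set X)} {b : X' ⟶ X}

/-- An invertible module on a one-point scheme is trivial. -/
theorem nonempty_iso_of_subsingleton {Y : Scheme.{u}} [Nonempty Y] [Subsingleton Y] {L : Y.Modules}
    (hL : PicF.IsInvertible L) : Nonempty (L ≅ Coh.structureModule Y) := by
  obtain ⟨W, e, hyW, he⟩ := Groth.L18.Frame.exists_frame hL (Classical.arbitrary Y)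
  obtain rfl : W = ⊤ := eq_top_iff.2 fun z _ => Subsingleton.elim (Classical.arbitrary Y) z ▸ hyW
  exact Groth.L18.PBundle.nonempty_iso_unit he

variable (hx b) in
/-- The map of the exceptional curve to the centre. -/
theorem exists_toCentre : ∃ g : (exc hx b).subscheme ⟶ (ptI hx).subscheme,
    g ≫ (ptI hx).subschemeι = eι hx b ≫ b :=
  ⟨Scheme.IdealSheafData.subschemeMap (exc hx b) (ptI hx) b
    (Scheme.IdealSheafData.le_map_iff_comap_le.2 le_rfl),
    Scheme.IdealSheafData.subschemeMap_subschemeι _ _ _ _⟩

variable (hx b) in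
/-- Pullbacks from below are trivial on the exceptional curve. -/
theorem nonempty_pullback_trivial {L : X.Modules} (hL : PicF.IsInvertible L) :
    Nonempty ((Scheme.Modules.pullback (eι hx b)).obj ((Scheme.Modules.pullback b).obj L) ≅
      Coh.structureModule (exc hx b).subscheme) := by
  obtain ⟨g, hg⟩ := exists_toCentre hx b
  let i := (ptI hx).subschemeι
  have hmem : ∀ z : (ptI hx).subscheme, i z = x := fun z => by
    have h : i z ∈ ((ptI hx).support : Set X) := by
      rw [← Scheme.IdealSheafData.range_subschemeι]; exact Set.mem_range_self z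
    simpa [ptI] using h
  haveI : Subsingleton (ptI hx).subscheme :=
    ⟨fun a c => i.isClosedEmbedding.injective ((hmem a).trans (hmem c).symm)⟩
  haveI : Nonempty (ptI hx).subscheme := by
    obtain ⟨z, -⟩ : x ∈ Set.range i := by
      rw [Scheme.IdealSheafData.range_subschemeι]; simp [ptI]
    exact ⟨z⟩
  obtain ⟨e⟩ := nonempty_iso_of_subsingleton (Groth.L18.Ample.isInvertible_pullback i hL)
  exact ⟨(Scheme.Modules.pullbackComp (eι hx b) b).app L ≪≫
    (Scheme.Modules.pullbackCongr hg.symm).app L ≪≫ ((Scheme.Modules.pullbackComp g i).app L).symm ≪≫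
    (Scheme.Modules.pullback g).mapIso e ≪≫ Groth.L29.LocFree.pullbackUnitIso g⟩

/-- The residue degree at a point with invertible stalk map is one. -/
theorem residueDegree_eq_one_of_isIso (z : X') [IsIso (b.stalkMap z)] : b.residueDegree z = 1 := by
  unfold Scheme.Hom.residueDegree
  letI := (b.residueFieldMap z).hom.toAlgebra
  have hbij : Function.Bijective (b.residueFieldMap z).hom := by
    refine ⟨(b.residueFieldMap z).hom.injective, fun w => ?_⟩
    obtain ⟨v, rfl⟩ := X'.residue_surjective z w
    obtain ⟨t, rfl⟩ := (ConcreteCategory.bijective_of_isIso (b.stalkMap z)).2 v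
    exact ⟨X.residue (b z) t, congrArg (fun φ => φ.hom t) (Scheme.residue_residueFieldMap (f := b) z)⟩
  exact (LinearEquiv.ofBijective (Algebra.linearMap (X.residueField (b z)) (X'.residueField z)) hbij).finrank_eq.symm.trans
    (Module.finrank_self _)

variable (k : Type u) [Field k] [X.Over (Spec (CommRingCat.of k))] [IsProper (X ↘ Spec (CommRingCat.of k))]

include k in
/-- Closed points of integral proper surfaces have two-dimensional local rings. -/
theorem ringKrullDim_stalk_closed [IsIntegral X] (hdim : topologicalKrullDim X = (2 : ℕ))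
    (hx : IsClosed ({x} : Set X)) : ringKrullDim (X.presheaf.stalk x) = (2 : ℕ) := by
  obtain ⟨a, c, ha, hc, hac⟩ := Groth.L22.SchemeDim.exists_localDim k X x
  obtain ⟨a', ha', htr⟩ := Groth.L22.SchemeDim.exists_dim_closure_eq_trdeg k X x
  obtain ⟨m, hm, -, hopen⟩ := Groth.L22.SchemeDim.exists_dim_eq_trdeg k X
  have hm2 : 2 = m := by exact_mod_cast hdim.symm.trans hm
  have hl : FlatMor.localDim X x = ((2 : ℕ) : WithBot ℕ∞) := by
    refine le_antisymm ?_ (le_iInf fun U => ?_)
    · refine iInf_le_of_le ⟨⊤, trivial⟩ ?_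
      rw [hm2, ← hopen ⊤ ⟨x, trivial⟩]
      exact le_rfl
    · rw [hm2, ← hopen U.1 ⟨x, U.2⟩]
      exact le_rfl
  rw [hx.closure_eq] at ha'
  have ha0 : a' = 0 := by
    have h0 : topologicalKrullDim ({x} : Set X) = 0 :=
      le_antisymm (topologicalKrullDim_zero_of_discreteTopology _) (zero_le_topologicalKrullDim (Set.singleton_nonempty x))
    rw [h0] at ha'
    exact_mod_cast ha'.symm
  have haa : a = a' := by exact_mod_cast ha.symm.trans htr
  rw [hl] at hac
  have : 2 = a + c := by exact_mod_cast hac
  rw [hc, show c = 2 by omega]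

include k in
/-- A blow-up of a point is proper. -/
theorem isProper_of_isBlowUp (hb : BlowUp.IsBlowUp b (ptI hx)) : IsProper b := by
  haveI := Groth.L21.RR.isNoetherian_of_proper (X := X) k
  exact Groth.L13.BU.isProper_blowUp hb fun U =>
    haveI : IsNoetherianRing Γ(X, U.1) := IsLocallyNoetherian.component_noetherian U
    IsNoetherian.noetherian _

variable [X'.Over (Spec (CommRingCat.of k))] [IsProper (X' ↘ Spec (CommRingCat.of k))]
  (hbo : b ≫ (X ↘ Spec (CommRingCat.of k)) = X' ↘ Spec (CommRingCat.of k))

include hbo in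
/-- Pullback preserves intersection numbers. -/
theorem ii_pullback [IsIntegral X] [IsIntegral X'] (hdim' : topologicalKrullDim X' = (2 : ℕ))
    (hb : BlowUp.IsBlowUp b (ptI hx)) (hne : ptI hx ≠ ⊥) {L M : X.Modules} (hL : PicF.IsInvertible L)
    (hM : PicF.IsInvertible M) :
    ii k ((Scheme.Modules.pullback b).obj L) ((Scheme.Modules.pullback b).obj M) = ii k L M := by
  obtain ⟨_, he, hiso⟩ := Groth.L16.Blow.isIntegral_and_birational hb hne
  haveI := hiso
  haveI := isProper_of_isBlowUp k hb
  have h := altT_pullback k b hbo he hdim' (L := ![L, M]) fun i => by fin_cases i <;> assumption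
  rw [residueDegree_eq_one_of_isIso, Nat.cast_one, one_mul, ii_vec] at h
  refine Eq.trans ?_ h
  rw [← ii_vec]
  exact congrArg (fun F => altT k F (Coh.structureModule X')) (funext fun i => by fin_cases i <;> rfl)

/-- A closed point is not everything on a surface. -/
theorem ptI_ne_bot [IsIntegral X] (hdim : topologicalKrullDim X = (2 : ℕ)) : ptI hx ≠ ⊥ := by
  intro h
  have h1 : ({x} : Set X) = Set.univ := by
    have := congrArg (fun I : X.IdealSheafData => (I.support : Set X)) h
    simpa [ptI] using this
  haveI : Subsingleton X := ⟨fun a c => by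
    have ha : a ∈ ({x} : Set X) := h1 ▸ Set.mem_univ a
    have hc : c ∈ ({x} : Set X) := h1 ▸ Set.mem_univ c
    rw [Set.mem_singleton_iff.1 ha, Set.mem_singleton_iff.1 hc]⟩
  have h2 := topologicalKrullDim_zero_of_discreteTopology X
  rw [hdim] at h2
  norm_num at h2

namespace EChart

variable (D : EChart hx b)

include D hbo in
/-- The exceptional curve meets pullbacks trivially and has self-intersection minus the degree of
the centre. -/
theorem ii_exc [IsIntegral X'] (hdim' : topologicalKrullDim X' = (2 : ℕ))
    (hE : PicF.IsInvertible (ClSub.idealMod (exc hx b))) :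
    (∀ {L : X.Modules}, PicF.IsInvertible L →
      ii k (ClSub.idealMod (exc hx b)) ((Scheme.Modules.pullback b).obj L) = 0) ∧
      ii k (ClSub.idealMod (exc hx b)) (ClSub.idealMod (exc hx b)) = -(ptDeg k hx : ℚ) := by
  haveI := D.isIntegral
  letI := excOver k hx b
  have hd : topologicalKrullDim (exc hx b).subscheme = (1 : ℕ) := D.dim_eq.trans Nat.cast_one.symm
  have hpt : (exc hx b) = pt (eι hx b (genericPoint (exc hx b).subscheme)) := eq_pt (exc hx b)
  have key : ∀ {M : X'.Modules}, PicF.IsInvertible M →
      ((Curv2.deg k (exc hx b).subscheme ((Scheme.Modules.pullback (eι hx b)).obj M) 1 : ℤ) : ℚ) =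
        - ii k (ClSub.idealMod (exc hx b)) M := by
    intro M hM
    haveI : IsProper ((exc hx b).subscheme ↘ Spec (CommRingCat.of k)) :=
      inferInstanceAs (IsProper (eι hx b ≫ (X' ↘ Spec (CommRingCat.of k))))
    have h1 := altT_push_eq k (eι hx b) rfl hd (L := fun _ : Fin 1 => M) fun _ => hM
    rw [← hpt, altT_quotMod_eq k hM _ hE, altT_one, euler_iso (Groth.L00.Tensor.tensorUnitLeft _)] at h1
    rw [← h1]
    simp [Curv2.deg]
  refine ⟨fun {L} hL => ?_, ?_⟩
  · obtain ⟨e⟩ := nonempty_pullback_trivial hx b hL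
    have h := key (Groth.L18.Ample.isInvertible_pullback b hL)
    rw [Curv2.deg, euler_iso e] at h
    simp at h
    linarith
  · have h := key hE
    rw [D.deg_eL k hbo hE] at h
    linarith

end EChart

end Groth.L03.BlowPt

namespace Groth.L03.BlowPt

variable {X : Scheme.{u}} (k : Type u) [Field k]

/-- Closed subschemes of projective space are proper. -/
theorem isProper_of_projective (p : X ⟶ Spec (CommRingCat.of k))
    (h : ∃ (n : ℕ) (ι : X ⟶ CohB1.ProjSpace n k), IsClosedImmersion ι ∧ ι ≫ CohB1.ProjSpace.toSpec n k = p) :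
    IsProper p := by
  obtain ⟨n, ι, hι, hιk⟩ := h
  rw [← hιk]
  haveI := hι
  haveI := Groth.L16.ProjSpace.isProper_toSpec n k
  infer_instance

variable {X' : Scheme.{u}} {x : X} {hx : IsClosed ({x} : Set X)} {b : X' ⟶ X}

/-- The exceptional ideal of a blow-up is invertible. -/
theorem isInvertible_exc (hb : BlowUp.IsBlowUp b (ptI hx)) : PicF.IsInvertible (ClSub.idealMod (exc hx b)) :=
  (Groth.Agent.L19.IdealInvertible.isEffCartier_iff _).2 hb.1

variable [X.Over (Spec (CommRingCat.of k))] [IsProper (X ↘ Spec (CommRingCat.of k))]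
  [X'.Over (Spec (CommRingCat.of k))] [IsProper (X' ↘ Spec (CommRingCat.of k))] [IsIntegral X] [IsIntegral X']

/-- The rules on the blow-up of a closed point. -/
theorem rules (hbo : b ≫ (X ↘ Spec (CommRingCat.of k)) = X' ↘ Spec (CommRingCat.of k))
    (hdim : topologicalKrullDim X = (2 : ℕ)) (hreg : IsRegularLocalRing (X.presheaf.stalk x))
    (hdim' : topologicalKrullDim X' = (2 : ℕ)) (hb : BlowUp.IsBlowUp b (ptI hx)) :
    PicF.IsInvertible (ClSub.idealMod (exc hx b)) ∧
      (∀ {L M : X.Modules}, PicF.IsInvertible L → PicF.IsInvertible M →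
        ii k ((Scheme.Modules.pullback b).obj L) ((Scheme.Modules.pullback b).obj M) = ii k L M) ∧
      (∀ {L : X.Modules}, PicF.IsInvertible L →
        ii k (ClSub.idealMod (exc hx b)) ((Scheme.Modules.pullback b).obj L) = 0) ∧
      ii k (ClSub.idealMod (exc hx b)) (ClSub.idealMod (exc hx b)) = -(ptDeg k hx : ℚ) := by
  haveI := Groth.L21.RR.isNoetherian_of_proper (X := X) k
  obtain ⟨D⟩ := exists_echart hb hreg (ringKrullDim_stalk_closed k hdim hx)
  obtain ⟨h1, h2⟩ := D.ii_exc k hbo hdim' (isInvertible_exc hb)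
  exact ⟨isInvertible_exc hb, fun hL hM => ii_pullback k hbo hdim' hb (ptI_ne_bot hdim) hL hM, h1, h2⟩

end Groth.L03.BlowPt
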