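import Groth.Agent.L03.BlowPt.CurveUnion
import Groth.Agent.L03.BlowPt.PullDiv
import Groth.Agent.L03.BlowPt.Rules

/-!
# Pullbacks of divisors against contracted curves
-/

set_option autoImplicit false
set_option linter.style.haveILetI false
set_option backward.isDefEq.respectTransparency false
set_option linter.unusedSectionVars false

universe u

open CategoryTheory CategoryTheory.Limits AlgebraicGeometry TopologicalSpace
open Groth.L22.Inter Groth.L22.Nef Groth.L22.Big Groth.L03.Euler Groth.L03.SurfNum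

noncomputable section

namespace Groth.L03.BlowPt

/-- A module pulled back by a constant map is trivial. -/
theorem nonempty_pullback_const {C X : Scheme.{u}} (g : C ⟶ X) (x : X) (hg : ∀ z, g z = x) {L : X.Modules}
    (hL : PicF.IsInvertible L) :
    Nonempty ((Scheme.Modules.pullback g).obj L ≅ Coh.structureModule C) := by
  obtain ⟨W, e, hxW, he⟩ := Groth.L18.Frame.exists_frame hL x
  have h := he.pullback g
  have htop : g ⁻¹ᵁ W = ⊤ := top_le_iff.1 fun z _ => show g z ∈ W from (hg z).symm ▸ hxW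
  generalize Groth.L18.Frame.pull g L W e = t at h
  generalize g ⁻¹ᵁ W = V at t h htop
  subst htop
  exact Groth.L18.PBundle.nonempty_iso_unit h

variable (k : Type u) [Field k] {X Y : Scheme.{u}} [X.Over (Spec (CommRingCat.of k))]
  [IsProper (X ↘ Spec (CommRingCat.of k))] [Y.Over (Spec (CommRingCat.of k))]
  [IsProper (Y ↘ Spec (CommRingCat.of k))] [IsIntegral X] [IsIntegral Y]

include k in
/-- Points of a finite closed subset are closed. -/
theorem isClosed_singleton_of_finite {S : Set X} (hS : IsClosed S) (hfin : S.Finite) {z : X} (hz : z ∈ S) :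
    IsClosed ({z} : Set X) := by
  haveI : JacobsonSpace X := LocallyOfFiniteType.jacobsonSpace (X ↘ Spec (CommRingCat.of k))
  haveI : JacobsonSpace S := JacobsonSpace.of_isClosedEmbedding hS.isClosedEmbedding_subtypeVal
  haveI : Finite S := hfin.to_subtype
  have h := hS.isClosedEmbedding_subtypeVal.isClosedMap _ (isClosed_discrete ({⟨z, hz⟩} : Set S))
  simpa using h

theorem ii_pullback_contracted (hd : topologicalKrullDim Y = (2 : ℕ)) (φ : Y ⟶ X) {L : X.Modules}
    (hL : PicF.IsInvertible L) {y : Y} (hy : topologicalKrullDim (closure ({y} : Set Y)) = (1 : ℕ))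
    (hI : PicF.IsInvertible (ClSub.idealMod (pt y))) (x : X) (hx : ∀ w ∈ closure ({y} : Set Y), φ w = x) :
    ii k (ClSub.idealMod (pt y)) ((Scheme.Modules.pullback φ).obj L) = 0 := by
  haveI := isIntegral_pt y
  let g := (pt y).subschemeι
  letI : (pt y).subscheme.Over (Spec (CommRingCat.of k)) := ⟨g ≫ (Y ↘ Spec (CommRingCat.of k))⟩
  haveI : IsProper ((pt y).subscheme ↘ Spec (CommRingCat.of k)) :=
    inferInstanceAs (IsProper (g ≫ (Y ↘ Spec (CommRingCat.of k))))
  have hdim : topologicalKrullDim (pt y).subscheme = (1 : ℕ) := by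
    rw [← dim_closure_image g, genericPoint_pt, hy]
  obtain ⟨θ⟩ := nonempty_pullback_const (g ≫ φ) x (fun z => hx _ ((range_pt y).le ⟨z, rfl⟩)) hL
  have hM := Groth.L18.Ample.isInvertible_pullback φ hL
  have h1 := altT_push_eq k g rfl hdim (L := fun _ : Fin 1 => (Scheme.Modules.pullback φ).obj L) fun _ => hM
  rw [genericPoint_pt] at h1
  have h2 : altT k (fun _ : Fin 1 => (Scheme.Modules.pullback φ).obj L) (ClSub.quotMod (pt y)) = 0 :=
    h1 ▸ altT_trivial ((Scheme.Modules.pullbackComp g φ).app L ≪≫ θ) _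
  rw [altT_quotMod_eq k hM (pt y) hI] at h2
  linarith

/-- The total transform of a divisor on a resolution. -/
theorem exists_total_eq (hd : topologicalKrullDim X = (2 : ℕ)) (hdY : topologicalKrullDim Y = (2 : ℕ))
    (hregY : ∀ y : Y, IsRegularLocalRing (Y.presheaf.stalk y)) (φ : Y ⟶ X)
    (U : X.Opens) (hU : ((U : Set X)ᶜ).Finite) (hiso : IsIso (φ ∣_ U))
    {s : ℕ} (ξ : Fin s → Y) (hξd : ∀ j, topologicalKrullDim (closure ({ξ j} : Set Y)) = (1 : ℕ))
    (hξinj : Function.Injective ξ) (hξpt : ∀ j, ∃ x : X, ∀ w ∈ closure ({ξ j} : Set Y), φ w = x)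
    (hall : ∀ y : Y, topologicalKrullDim (closure ({y} : Set Y)) = (1 : ℕ) →
      (∃ x : X, ∀ w ∈ closure ({y} : Set Y), φ w = x) → ∃ j, ξ j = y)
    {D : X.IdealSheafData} (hD : BlowUp.IsEffCartierIdeal D) {Dt : Y.IdealSheafData}
    (hDt : BlowUp.IsEffCartierIdeal Dt) (hDtexc : ∀ j, ξ j ∉ (Dt.support : Set Y))
    (hDtU : ∀ W : Y.affineOpens, (W : Y.Opens) ≤ φ ⁻¹ᵁ U → Dt.ideal W = (D.comap φ).ideal W) :
    ∃ γ : Fin s → ℕ, D.comap φ = Dt * ∏ j, pt (ξ j) ^ γ j ∧
      ∀ i, (∑ j, (γ j : ℚ) * ii k (ClSub.idealMod (pt (ξ i))) (ClSub.idealMod (pt (ξ j)))) =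
        - ii k (ClSub.idealMod Dt) (ClSub.idealMod (pt (ξ i))) := by
  classical
  haveI := Groth.L21.RR.isNoetherian_of_proper (X := X) k
  haveI := Groth.L21.RR.isNoetherian_of_proper (X := Y) k
  -- the generic point lies over `U`
  have hne : (U : Set X).Nonempty := by
    by_contra h
    rw [Set.not_nonempty_iff_eq_empty] at h
    rw [h, Set.compl_empty] at hU
    haveI : Finite X := Set.finite_univ_iff.1 hU
    haveI : JacobsonSpace X := LocallyOfFiniteType.jacobsonSpace (X ↘ Spec (CommRingCat.of k))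
    have h2 := topologicalKrullDim_zero_of_discreteTopology X
    rw [hd] at h2
    norm_num at h2
  obtain ⟨u, hu⟩ := hne
  obtain ⟨⟨y₀, hy₀⟩, -⟩ := (Scheme.homeoOfIso (asIso (φ ∣_ U))).surjective ⟨u, hu⟩
  have hgen : genericPoint Y ∈ φ ⁻¹ᵁ U := (genericPoint_specializes y₀).mem_open (φ ⁻¹ᵁ U).2 hy₀
  have hη : φ (genericPoint Y) ∉ D.support := fun h => by
    obtain ⟨W, hW, hgW, hWle⟩ := exists_isAffineOpen_mem_and_subset (x := genericPoint Y) (U := φ ⁻¹ᵁ U) hgen
    have h1 : genericPoint Y ∈ ((D.comap φ).support : Set Y) := by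
      rw [Scheme.IdealSheafData.support_comap]; exact h
    rw [Groth.L22.CartierDecomp.mem_support_iff (U := ⟨W, hW⟩) hgW, ← hDtU ⟨W, hW⟩ hWle,
      ← Groth.L22.CartierDecomp.mem_support_iff (U := ⟨W, hW⟩) hgW] at h1
    exact Groth.L03.SurfAmple.genericPoint_mem_of_isEffCartier hDt h1
  obtain ⟨hZ, ⟨eZ⟩⟩ := nonempty_pullback_idealMod φ hD hη
  have hout : ∀ y : Y, topologicalKrullDim (closure ({y} : Set Y)) = (1 : ℕ) → φ y ∉ U → ∃ j, ξ j = y := by
    intro y hy hyU
    refine hall y hy ⟨φ y, fun w hw => ?_⟩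
    have hcl := isClosed_singleton_of_finite k U.2.isClosed_compl hU hyU
    have h := closure_minimal (s := ({y} : Set Y)) (t := φ ⁻¹' {φ y}) (by simp)
      (hcl.preimage φ.continuous) hw
    exact h
  let M : Finset Y := Finset.univ.image ξ
  let T : Finset Y := (finite_curves k hdY hregY hZ).toFinset ∪ (finite_curves k hdY hregY hDt).toFinset ∪ M
  have hT : ∀ y ∈ T, topologicalKrullDim (closure ({y} : Set Y)) = (1 : ℕ) := by
    intro y hy
    simp only [T, M, Finset.mem_union, Set.Finite.mem_toFinset, Set.mem_setOf_eq, Finset.mem_image] at hy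
    rcases hy with (h | h) | ⟨j, -, rfl⟩
    exacts [h.2, h.2, hξd j]
  obtain ⟨e, he⟩ := exists_factor k hdY hregY hZ hT fun y h1 h2 =>
    Finset.mem_union_left _ (Finset.mem_union_left _ ((Set.Finite.mem_toFinset _).2 ⟨h1, h2⟩))
  obtain ⟨c, hc⟩ := exists_factor k hdY hregY hDt hT fun y h1 h2 =>
    Finset.mem_union_left _ (Finset.mem_union_right _ ((Set.Finite.mem_toFinset _).2 ⟨h1, h2⟩))
  have hMT : M ⊆ T := Finset.subset_union_right
  have hc0 : ∀ y ∈ M, c y = 0 := by
    intro y hy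
    obtain ⟨j, -, rfl⟩ := Finset.mem_image.1 hy
    obtain ⟨W, hW, hjW, -⟩ := exists_isAffineOpen_mem_and_subset (x := ξ j) (U := ⊤) trivial
    have h := stalkIdeal_eq_top Dt ⟨W, hW⟩ hjW (hDtexc j)
    rw [hc, stalkIdeal_prod_pt k hdY hregY hT c (hMT hy) ⟨W, hW⟩ hjW] at h
    exact maximalIdeal_pow_inj k hdY hregY (hξd j) (h.trans (by rw [pow_zero, Ideal.one_eq_top]))
  have hec : ∀ y ∈ T \ M, e y = c y := by
    intro y hy
    obtain ⟨hyT, hyM⟩ := Finset.mem_sdiff.1 hy
    have hyU : φ y ∈ U := by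
      by_contra h
      obtain ⟨j, rfl⟩ := hout y (hT y hyT) h
      exact hyM (Finset.mem_image.2 ⟨j, Finset.mem_univ j, rfl⟩)
    obtain ⟨W, hW, hyW, hWle⟩ := exists_isAffineOpen_mem_and_subset (x := y) (U := φ ⁻¹ᵁ U) hyU
    have h : stalkIdeal (D.comap φ) ⟨W, hW⟩ hyW = stalkIdeal Dt ⟨W, hW⟩ hyW := by
      rw [stalkIdeal, stalkIdeal, hDtU ⟨W, hW⟩ hWle]
    rw [he, hc, stalkIdeal_prod_pt k hdY hregY hT e hyT ⟨W, hW⟩ hyW,
      stalkIdeal_prod_pt k hdY hregY hT c hyT ⟨W, hW⟩ hyW] at h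
    exact maximalIdeal_pow_inj k hdY hregY (hT y hyT) h
  have hfac : D.comap φ = Dt * ∏ j, pt (ξ j) ^ e (ξ j) := by
    have h1 : ∏ y ∈ M, pt y ^ c y = 1 := Finset.prod_eq_one fun y hy => by rw [hc0 y hy, pow_zero]
    rw [he, hc, ← Finset.prod_sdiff hMT (f := fun y => pt y ^ e y), ← Finset.prod_sdiff hMT (f := fun y => pt y ^ c y),
      h1, mul_one, Finset.prod_image hξinj.injOn]
    exact congrArg (· * _) (Finset.prod_congr rfl fun y hy => by rw [hec y hy])
  refine ⟨fun j => e (ξ j), hfac, fun i => ?_⟩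
  have hI : ∀ j, PicF.IsInvertible (ClSub.idealMod (pt (ξ j))) := fun j => inv_curve (k := k) hdY hregY (hξd j)
  have hIe : ∀ j, BlowUp.IsEffCartierIdeal (pt (ξ j)) := fun j =>
    (Groth.Agent.L19.IdealInvertible.isEffCartier_iff _).1 (hI j)
  obtain ⟨x, hx⟩ := hξpt i
  have h0 : ii k (ClSub.idealMod (D.comap φ)) (ClSub.idealMod (pt (ξ i))) = 0 := by
    rw [← ii_congr k eZ, ii_comm]
    exact ii_pullback_contracted k hdY φ ((Groth.Agent.L19.IdealInvertible.isEffCartier_iff _).2 hD) (hξd i) (hI i) x hx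
  have hlin : ∀ S : Finset (Fin s), ii k (ClSub.idealMod (∏ j ∈ S, pt (ξ j) ^ e (ξ j))) (ClSub.idealMod (pt (ξ i))) =
      ∑ j ∈ S, (e (ξ j) : ℚ) * ii k (ClSub.idealMod (pt (ξ i))) (ClSub.idealMod (pt (ξ j))) := by
    intro S
    induction S using Finset.induction_on with
    | empty =>
      have h := ii_idealMod_pow k hdY.le (hIe i) (hI i) 0
      rw [Finset.prod_empty, Finset.sum_empty]
      simpa using h
    | insert b S hb ih =>
      rw [Finset.prod_insert hb, Groth.L03.SurfAmple.ii_ideal_mul k hdY.le (isEffCartier_pow (hIe b) _)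
        (isEffCartier_prod S fun j _ => isEffCartier_pow (hIe j) _) (hI i), ih, Finset.sum_insert hb,
        ii_idealMod_pow k hdY.le (hIe b) (hI i), ii_comm k (ClSub.idealMod (pt (ξ b)))]
  rw [hfac, Groth.L03.SurfAmple.ii_ideal_mul k hdY.le hDt
    (isEffCartier_prod _ fun j _ => isEffCartier_pow (hIe j) _) (hI i), hlin] at h0
  linarith

end Groth.L03.BlowPt
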