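import Groth.Agent.L03.BlowPt.Numeric

/-!
# Effective Cartier divisors as products of curves
-/

set_option autoImplicit false
set_option linter.style.haveILetI false
set_option backward.isDefEq.respectTransparency false
set_option linter.unusedSectionVars false

universe u

open CategoryTheory AlgebraicGeometry TopologicalSpace IsLocalRing
open Groth.L22 Groth.L22.CartierDecomp Groth.L22.Inter Groth.L22.Nef Groth.L22.Big Groth.L03.SurfNum

noncomputable section

namespace Groth.L03.BlowPt

variable {X : Scheme.{u}}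

theorem isEffCartier_prod {ι : Type*} (S : Finset ι) {D : ι → X.IdealSheafData}
    (hD : ∀ i ∈ S, BlowUp.IsEffCartierIdeal (D i)) : BlowUp.IsEffCartierIdeal (∏ i ∈ S, D i) := by
  classical
  induction S using Finset.induction_on with
  | empty => simpa [Scheme.IdealSheafData.one_eq_top] using Groth.L22.Ideals.isEffCartier_top (X := X)
  | insert i S hi ih =>
    rw [Finset.prod_insert hi]
    exact Groth.L22.Ideals.isEffCartier_mul (hD i (Finset.mem_insert_self i S))
      (ih fun j hj => hD j (Finset.mem_insert_of_mem hj))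

theorem mem_support_prod {ι : Type*} (S : Finset ι) (D : ι → X.IdealSheafData) (z : X) :
    z ∈ ((∏ i ∈ S, D i).support : Set X) ↔ ∃ i ∈ S, z ∈ ((D i).support : Set X) := by
  classical
  induction S using Finset.induction_on with
  | empty => simp [Scheme.IdealSheafData.one_eq_top]
  | insert i S hi ih =>
    rw [Finset.prod_insert hi, Scheme.IdealSheafData.support_mul]
    simp only [Finset.exists_mem_insert]
    exact or_congr Iff.rfl ih

theorem stalkIdeal_mul (I J : X.IdealSheafData) (U : X.affineOpens) {z : X} (hz : z ∈ U.1) :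
    stalkIdeal (I * J) U hz = stalkIdeal I U hz * stalkIdeal J U hz := by
  rw [stalkIdeal, Scheme.IdealSheafData.ideal_mul, Pi.mul_apply, Ideal.map_mul]
  rfl

theorem stalkIdeal_top (U : X.affineOpens) {z : X} (hz : z ∈ U.1) :
    stalkIdeal (⊤ : X.IdealSheafData) U hz = ⊤ := by
  rw [stalkIdeal, Scheme.IdealSheafData.ideal_top, Pi.top_apply, Ideal.map_top]

theorem stalkIdeal_pow (I : X.IdealSheafData) (U : X.affineOpens) {z : X} (hz : z ∈ U.1) (n : ℕ) :
    stalkIdeal (I ^ n) U hz = stalkIdeal I U hz ^ n := by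
  induction n with
  | zero => rw [pow_zero, pow_zero, Scheme.IdealSheafData.one_eq_top, stalkIdeal_top, Ideal.one_eq_top]
  | succ n ih => rw [pow_succ, pow_succ, stalkIdeal_mul, ih]

theorem stalkIdeal_eq_top (I : X.IdealSheafData) (U : X.affineOpens) {z : X} (hz : z ∈ U.1)
    (h : z ∉ (I.support : Set X)) : stalkIdeal I U hz = ⊤ := by
  by_contra hne
  refine h ((mem_support_iff hz).2 fun a ha => ?_)
  by_contra hnot
  refine hne (Ideal.eq_top_of_isUnit_mem _ (Ideal.mem_map_of_mem _ ha) ?_)
  letI : Algebra Γ(X, U.1) (X.presheaf.stalk z) := X.presheaf.algebra_section_stalk ⟨z, hz⟩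
  haveI : IsLocalization.AtPrime (X.presheaf.stalk z) (U.2.primeIdealOf ⟨z, hz⟩).asIdeal :=
    U.2.isLocalization_stalk ⟨z, hz⟩
  exact IsLocalization.map_units (X.presheaf.stalk z) (⟨a, hnot⟩ : (U.2.primeIdealOf ⟨z, hz⟩).asIdeal.primeCompl)

variable (k : Type u) [Field k] [X.Over (Spec (CommRingCat.of k))] [IsProper (X ↘ Spec (CommRingCat.of k))]
  [IsIntegral X] (hd : topologicalKrullDim X = (2 : ℕ)) (hreg : ∀ x : X, IsRegularLocalRing (X.presheaf.stalk x))

include k hd hreg

theorem not_mem_pt_of_ne {y z : X} (hy : topologicalKrullDim (closure ({y} : Set X)) = (1 : ℕ))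
    (hz : topologicalKrullDim (closure ({z} : Set X)) = (1 : ℕ)) (hne : y ≠ z) :
    y ∉ ((pt z).support : Set X) := fun h => by
  haveI := isIntegral_pt z
  have hgen : IsGenericPoint z ((pt z).support : Set X) := by
    simpa [genericPoint_pt] using isGenericPoint_ι (pt z)
  rw [← hgen.def] at h
  exact hne (eq_of_specializes_top isClosed_closure hz.le hy (subset_closure rfl)
    (specializes_iff_mem_closure.2 h)).symm

theorem stalkIdeal_prod_pt {T : Finset X} (hT : ∀ y ∈ T, topologicalKrullDim (closure ({y} : Set X)) = (1 : ℕ))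
    (e : X → ℕ) {z : X} (hzT : z ∈ T) (U : X.affineOpens) (hz : z ∈ U.1) :
    stalkIdeal (∏ y ∈ T, pt y ^ e y) U hz = maximalIdeal _ ^ e z := by
  classical
  haveI := isIntegral_pt z
  have hgen : IsGenericPoint z ((pt z).support : Set X) := by
    simpa [genericPoint_pt] using isGenericPoint_ι (pt z)
  rw [← Finset.mul_prod_erase T _ hzT, stalkIdeal_mul, stalkIdeal_pow, stalkIdeal_generic _ hgen,
    stalkIdeal_eq_top (∏ y ∈ T.erase z, pt y ^ e y), Ideal.mul_top]
  rw [mem_support_prod]
  rintro ⟨y, hy, hzy⟩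
  exact not_mem_pt_of_ne k hd hreg (hT z hzT) (hT y (Finset.mem_of_mem_erase hy)) (Finset.ne_of_mem_erase hy).symm
    (support_pow_subset _ _ hzy)

theorem maximalIdeal_pow_inj {z : X} (hz : topologicalKrullDim (closure ({z} : Set X)) = (1 : ℕ)) {i j : ℕ}
    (h : maximalIdeal (X.presheaf.stalk z) ^ i = maximalIdeal _ ^ j) : i = j := by
  haveI := Groth.L21.RR.isNoetherian_of_proper (X := X) k
  haveI := hreg z
  obtain ⟨a, c, ha, hc, hac⟩ := dim_closure_add k hd z
  have ha1 : a = 1 := by exact_mod_cast ha.symm.trans hz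
  have hnf : maximalIdeal (X.presheaf.stalk z) ≠ ⊥ := fun hb => by
    have hf : IsField (X.presheaf.stalk z) := IsLocalRing.isField_iff_maximalIdeal_eq.2 hb
    rw [ringKrullDim_eq_zero_of_isField hf, show c = 1 by omega] at hc
    norm_num at hc
  have key : ∀ i j, i < j → maximalIdeal (X.presheaf.stalk z) ^ i ≠ maximalIdeal _ ^ j := fun i j hij he => by
    have h1 : maximalIdeal (X.presheaf.stalk z) ^ i ≤ maximalIdeal (X.presheaf.stalk z) • maximalIdeal (X.presheaf.stalk z) ^ i := by
      rw [smul_eq_mul, ← pow_succ']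
      exact he.le.trans (Ideal.pow_le_pow_right hij)
    have h2 : maximalIdeal (X.presheaf.stalk z) ^ i = ⊥ :=
      Submodule.eq_bot_of_le_smul_of_le_jacobson_bot (maximalIdeal (X.presheaf.stalk z)) _
        (IsNoetherian.noetherian _) h1 (maximalIdeal_le_jacobson _)
    rcases Nat.eq_zero_or_pos i with hi | hi
    · rw [hi, pow_zero, Ideal.one_eq_top] at h2
      exact absurd h2 top_ne_bot
    · exact hnf ((pow_eq_zero_iff hi.ne').1 h2)
  rcases lt_trichotomy i j with h' | h' | h'
  · exact absurd h (key i j h')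
  · exact h'
  · exact absurd h.symm (key j i h')

theorem finite_curves {Z : X.IdealSheafData} (hZ : BlowUp.IsEffCartierIdeal Z) :
    {y : X | y ∈ (Z.support : Set X) ∧ topologicalKrullDim (closure ({y} : Set X)) = (1 : ℕ)}.Finite := by
  haveI := Groth.L21.RR.isNoetherian_of_proper (X := X) k
  exact finite_top Z.support.isClosed (dim_le_of_generic_notMem Z.support.isClosed
    (Groth.L03.SurfAmple.genericPoint_mem_of_isEffCartier hZ) hd.le)

theorem exists_factor {Z : X.IdealSheafData} (hZ : BlowUp.IsEffCartierIdeal Z) {T : Finset X}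
    (hT : ∀ y ∈ T, topologicalKrullDim (closure ({y} : Set X)) = (1 : ℕ))
    (hZT : ∀ y ∈ (Z.support : Set X), topologicalKrullDim (closure ({y} : Set X)) = (1 : ℕ) → y ∈ T) :
    ∃ e : X → ℕ, Z = ∏ y ∈ T, pt y ^ e y := by
  classical
  haveI := Groth.L21.RR.isNoetherian_of_proper (X := X) k
  obtain ⟨a, J, hJ, hJ'⟩ := exists_decomp (fun y : T => pt y.1)
    (fun y => (Groth.Agent.L19.IdealInvertible.isEffCartier_iff _).1 (inv_curve (k := k) hd hreg (hT y.1 y.2)))
    (fun y => isIntegral_pt y.1) Z fun y hy => notMem_support_of_maximal hZ hy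
  refine ⟨fun y => if h : y ∈ T then a ⟨y, h⟩ else 0, ?_⟩
  have hJe : BlowUp.IsEffCartierIdeal J :=
    Groth.L22.Ideals.isEffCartier_left_of_mul (J := a.prod fun i n => pt i.1 ^ n) (by rw [mul_comm, hJ]; exact hZ)
  have hJtop : J = ⊤ := by
    rw [← Scheme.IdealSheafData.support_eq_bot_iff]
    refine TopologicalSpace.Closeds.ext (Set.eq_empty_of_forall_notMem fun w hw => ?_)
    obtain ⟨y, hyJ, -, hymax⟩ := exists_maximal_of_mem J.support.isClosed hw
    have hdim := dim_stalk_le_one_of_maximal hJe hyJ hymax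
    have hne : genericPoint X ≠ y := fun h =>
      Groth.L03.SurfAmple.genericPoint_mem_of_isEffCartier hJe (h ▸ hyJ)
    have h1 := Groth.L22.LocalDim.one_le_dim_of_specializes (genericPoint_specializes y) hne
    obtain ⟨p, c, hp, hc, hpc⟩ := dim_closure_add k hd y
    rw [hc] at hdim h1
    have hc1 : c = 1 := le_antisymm (by exact_mod_cast hdim) (by exact_mod_cast h1)
    have hy : topologicalKrullDim (closure ({y} : Set X)) = (1 : ℕ) := by rw [hp, show p = 1 by omega]
    have hyT : y ∈ T := hZT y (by rw [← hJ, Scheme.IdealSheafData.support_mul]; exact Or.inr hyJ) hy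
    haveI := isIntegral_pt y
    exact hJ' ⟨y, hyT⟩ y (by simpa [genericPoint_pt] using isGenericPoint_ι (pt y)) hyJ
  rw [← hJ, hJtop, ← Scheme.IdealSheafData.one_eq_top, mul_one, Finsupp.prod_fintype _ _ (fun i => pow_zero _),
    ← Finset.prod_coe_sort T]
  refine Finset.prod_congr rfl fun y _ => congrArg (pt y.1 ^ ·) ?_
  exact (dif_pos y.2 (t := fun h => a ⟨y.1, h⟩) (e := fun _ => 0)).symm

end Groth.L03.BlowPt
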