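import Groth.Agent.L03.SurfAdj.Tools
import Groth.Agent.L03.SurfNum.Curves
import Groth.Agent.L03.SurfAmple.Curve

/-!
# Sections and curves: restriction sequences on a surface
-/

set_option autoImplicit false
set_option linter.style.haveILetI false
set_option backward.isDefEq.respectTransparency false
set_option linter.unusedSectionVars false

universe u

open CategoryTheory CategoryTheory.Limits AlgebraicGeometry TopologicalSpace
open Groth.L22.Inter Groth.L22.Nef Groth.L22.Big Groth.L03.Euler Groth.L03.SurfNum Groth.L03.SurfAdj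
open Groth.L00.Tensor (tensorIso tensorComm tensorUnitLeft tensorUnitRight tensorAssoc)
open Groth.L16.CohLinear (hmap overLin delta exact_hmap_hmap exact_hmap_delta exact_delta_hmap)

noncomputable section

namespace Groth.L03.BlowPt

variable (k : Type u) [Field k] {X : Scheme.{u}} [X.Over (Spec (CommRingCat.of k))]
  [IsProper (X ↘ Spec (CommRingCat.of k))] [IsIntegral X]

/-- The degree of a module on a closed subscheme. -/
def degOn (I : X.IdealSheafData) (L : X.Modules) : ℤ :=
  Curv2.euler k X (CohB1.tensorMod (ClSub.quotMod I) L) - Curv2.euler k X (ClSub.quotMod I)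

theorem degOn_cast {I : X.IdealSheafData} (hI : PicF.IsInvertible (ClSub.idealMod I)) {L : X.Modules}
    (hL : PicF.IsInvertible L) : (degOn k I L : ℚ) = - ii k (ClSub.idealMod I) L := by
  rw [← altT_quotMod_eq k hL I hI, altT_one]
  rfl

theorem shortExact_transport_middle {C : Type*} [Category C] [HasZeroMorphisms C] (S : ShortComplex C)
    (hS : S.ShortExact) {Y : C} (e : S.X₂ ≅ Y) :
    ∃ (f : S.X₁ ⟶ Y) (g : Y ⟶ S.X₃) (w : f ≫ g = 0), (ShortComplex.mk f g w).ShortExact :=
  ⟨S.f ≫ e.hom, e.inv ≫ S.g, by simp,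
    ShortComplex.shortExact_of_iso (show S ≅ ShortComplex.mk (S.f ≫ e.hom) (e.inv ≫ S.g) (by simp) from
      ShortComplex.isoMk (Iso.refl _) e (Iso.refl _) (by simp) (by simp)) hS⟩

theorem shortExact_restrict (I : X.IdealSheafData) {L : X.Modules} (hL : PicF.IsInvertible L) :
    ∃ (f : CohB1.tensorMod L (ClSub.idealMod I) ⟶ L) (g : L ⟶ CohB1.tensorMod L (ClSub.quotMod I)) (w : f ≫ g = 0),
      (ShortComplex.mk f g w).ShortExact := by
  have hS := Groth.L16.FrameIso.shortExact_tensor_left (Groth.L21.RR.isFlat_of_isInvertible hL) _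
    (Groth.L21.RR.shortExact_idealSeq I)
  exact shortExact_transport_middle _ hS (tensorUnitRight L)

/-- On the curve a module of negative degree has no sections. -/
theorem subsingleton_h0_quot (I : X.IdealSheafData) [IsIntegral I.subscheme]
    (hd : topologicalKrullDim (I.support : Set X) = 1) {L : X.Modules} (hL : PicF.IsInvertible L)
    (hdeg : degOn k I L < 0) : Subsingleton (Coh.HH X (CohB1.tensorMod L (ClSub.quotMod I)) 0) := by
  letI : I.subscheme.Over (Spec (CommRingCat.of k)) := ⟨I.subschemeι ≫ (X ↘ (Spec (CommRingCat.of k)))⟩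
  haveI : IsProper (I.subscheme ↘ Spec (CommRingCat.of k)) :=
    inferInstanceAs (IsProper (I.subschemeι ≫ (X ↘ Spec (CommRingCat.of k))))
  haveI := Groth.L21.RR.isNoetherian_of_proper (X := I.subscheme) k
  obtain ⟨q⟩ := nonempty_twistQuot_equiv k I hL 0
  refine @Equiv.subsingleton _ _ q.toEquiv (not_nontrivial_iff_subsingleton.1 fun hn => ?_)
  have hdC : topologicalKrullDim I.subscheme = (1 : ℕ) := by
    rw [← dim_closure_image I.subschemeι, ← dim_support I, hd, Nat.cast_one]
  have hN := Groth.L18.Ample.isInvertible_pullback I.subschemeι hL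
  have hneg : altT k (fun _ : Fin 1 => (Scheme.Modules.pullback I.subschemeι).obj L)
      (Coh.structureModule I.subscheme) < 0 := by
    rw [altT_one]
    have h1 : Curv2.euler k X (CohB1.tensorMod (ClSub.quotMod I) L) =
        Curv2.euler k I.subscheme ((Scheme.Modules.pullback I.subschemeι).obj L) := by
      rw [euler_iso (tensorComm _ L)]
      refine finsum_congr fun p => ?_
      obtain ⟨q⟩ := nonempty_twistQuot_equiv k I hL p
      exact congrArg (fun z : ℕ => (-1 : ℤ) ^ p * (z : ℤ)) q.finrank_eq
    have h2 : (Curv2.euler k I.subscheme ((Scheme.Modules.pullback I.subschemeι).obj L) -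
        Curv2.euler k I.subscheme (Coh.structureModule I.subscheme) : ℤ) < 0 := by
      rw [← euler_subscheme k I, ← h1]
      exact hdeg
    rw [euler_iso (tensorUnitLeft _)]
    exact_mod_cast h2
  haveI := hn
  obtain ⟨s, hs⟩ := Groth.L21.RR.exists_hom_ne_zero (L := (Scheme.Modules.pullback I.subschemeι).obj L)
  have hη := Groth.L22.CurveAmple.genericPoint_mem_genLocus hN hs
  by_cases htop : CohB1.genLocus _ s = ⊤
  · obtain ⟨e⟩ := Groth.L03.SurfAmple.nonempty_iso_of_genLocus_top s htop
    rw [altT_one, euler_iso (tensorUnitLeft _), euler_iso e, sub_self] at hneg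
    simp at hneg
  · obtain ⟨z, hz⟩ : ∃ z, z ∉ CohB1.genLocus _ s := by
      by_contra hall
      push Not at hall
      exact htop (top_le_iff.1 fun z _ => hall z)
    exact lt_irrefl _ ((Groth.L03.SurfAmple.altT_pos_of_vanishing k hdC hN s hη hz).trans hneg)

/-- Twisting down by a curve of negative degree keeps the sections. -/
theorem finrank_h0_restrict (I : X.IdealSheafData) [IsIntegral I.subscheme]
    (hd : topologicalKrullDim (I.support : Set X) = 1) {L : X.Modules} (hL : PicF.IsInvertible L)
    (hdeg : degOn k I L < 0) :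
    Module.finrank k (Coh.HH X (CohB1.tensorMod L (ClSub.idealMod I)) 0) = Module.finrank k (Coh.HH X L 0) := by
  obtain ⟨f, g, w, hS⟩ := shortExact_restrict I hL
  haveI := subsingleton_h0_quot k I hd hL hdeg
  haveI := hS.mono_f
  have hinj : Function.Injective (overLin k (hmap f 0)) := Groth.L21.RR.injective_hmap_zero f
  have hsurj : Function.Surjective (overLin k (hmap f 0)) := fun x =>
    (exact_hmap_hmap hS 0 x).1 (Subsingleton.elim _ _)
  exact (LinearEquiv.ofBijective _ ⟨hinj, hsurj⟩).finrank_eq

/-- Without top cohomology of the twist the curve bounds `h¹` from below. -/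
theorem neg_euler_le_h1 (hd2 : topologicalKrullDim X = (2 : ℕ)) (I : X.IdealSheafData) [IsIntegral I.subscheme]
    (hd : topologicalKrullDim (I.support : Set X) = 1) {L : X.Modules} (hL : PicF.IsInvertible L)
    (h2 : Subsingleton (Coh.HH X (CohB1.tensorMod L (ClSub.idealMod I)) 2)) :
    - Curv2.euler k X (CohB1.tensorMod (ClSub.quotMod I) L) ≤ Module.finrank k (Coh.HH X L 1) := by
  obtain ⟨f, g, w, hS⟩ := shortExact_restrict I hL
  haveI := Groth.L21.RR.isNoetherian_of_proper (X := X) k
  letI : I.subscheme.Over (Spec (CommRingCat.of k)) := ⟨I.subschemeι ≫ (X ↘ (Spec (CommRingCat.of k)))⟩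
  haveI : IsProper (I.subscheme ↘ Spec (CommRingCat.of k)) :=
    inferInstanceAs (IsProper (I.subschemeι ≫ (X ↘ Spec (CommRingCat.of k))))
  haveI := Groth.L21.RR.isNoetherian_of_proper (X := I.subscheme) k
  have hdC : topologicalKrullDim I.subscheme ≤ (1 : ℕ) := by
    rw [← dim_closure_image I.subschemeι, ← dim_support I, hd, Nat.cast_one]
  have hsurj : Function.Surjective (overLin k (hmap g 1)) := fun x =>
    (exact_hmap_delta hS 1 x).1 (Subsingleton.elim _ _)
  haveI := Groth.L16.ProperFinite.finite_HH k (Groth.L18.Ample.isCoh_of_isInvertible hL) 1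
  have hle : Module.finrank k (Coh.HH X (CohB1.tensorMod L (ClSub.quotMod I)) 1) ≤
      Module.finrank k (Coh.HH X L 1) :=
    LinearMap.finrank_le_finrank_of_surjective hsurj
  have hq2 : Subsingleton (Coh.HH X (CohB1.tensorMod L (ClSub.quotMod I)) 2) := by
    obtain ⟨q⟩ := nonempty_twistQuot_equiv k I hL 2
    exact @Equiv.subsingleton _ _ q.toEquiv (subsingleton_HH_of_dim hdC _ (le_refl 2))
  rw [euler_iso (tensorComm _ L), euler_three k hd2, Module.finrank_zero_of_subsingleton (R := k)
    (M := Coh.HH X (CohB1.tensorMod L (ClSub.quotMod I)) 2)]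
  omega

end Groth.L03.BlowPt
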