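import Groth.Agent.L03.BlowPt.CurveProd
import Groth.Agent.L03.SurfAdj.Tools
import Groth.Agent.L03.SurfNum.NegDef
import Groth.Agent.L03.BlowPt.OffExc
import Mathlib.Combinatorics.SimpleGraph.Acyclic
import Mathlib.Combinatorics.SimpleGraph.DegreeSum

/-!
# Connected unions of curves on a surface
-/

set_option autoImplicit false
set_option linter.style.haveILetI false
set_option backward.isDefEq.respectTransparency false
set_option linter.unusedSectionVars false

universe u

open CategoryTheory AlgebraicGeometry TopologicalSpace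
open Groth.L22 Groth.L22.CartierDecomp Groth.L22.Inter Groth.L22.Nef Groth.L22.Big Groth.L03.Euler Groth.L03.SurfNum
open Groth.L00.Tensor (tensorUnitLeft)

noncomputable section

namespace Groth.L03.BlowPt

variable {X : Scheme.{u}}

/-- The union with a curve not inside is the product. -/
theorem inf_eq_mul {P Q : X.IdealSheafData} [IsIntegral P.subscheme] (hQ : BlowUp.IsEffCartierIdeal Q)
    {ξ : X} (hξ : IsGenericPoint ξ (P.support : Set X)) (hξQ : ξ ∉ (Q.support : Set X)) : P ⊓ Q = P * Q := by
  refine le_antisymm ?_ fun U => ?_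
  · choose U hxU g _ hU using hQ
    refine Scheme.IdealSheafData.le_of_iSup_eq_top U
      (eq_top_iff.2 fun x _ => Opens.mem_iSup.2 ⟨x, hxU x⟩) fun x => ?_
    rw [Scheme.IdealSheafData.ideal_inf, Pi.inf_apply, Scheme.IdealSheafData.ideal_mul, Pi.mul_apply]
    by_cases h : ξ ∈ (U x).1
    · rintro a ⟨haP, haQ⟩
      change a ∈ Q.ideal (U x) at haQ
      change a ∈ P.ideal (U x) at haP
      rw [hU x] at haQ
      obtain ⟨r, rfl⟩ := Ideal.mem_span_singleton'.1 haQ
      refine Ideal.mul_mem_mul ?_ (hU x ▸ Ideal.mem_span_singleton_self _)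
      have hp := primeIdealOf_generic hξ (U x) h
      rw [← hp] at haP ⊢
      refine ((PrimeSpectrum.isPrime _).mem_or_mem haP).resolve_right fun hg => hξQ ((mem_support_iff h).2 ?_)
      rw [hU x, Ideal.span_le, Set.singleton_subset_iff]
      exact hg
    · rw [ideal_eq_top (D := P) fun z hz hzP => h ((hξ.specializes hzP).mem_open (U x).1.2 hz), top_inf_eq,
        Ideal.top_mul]
  · rw [Scheme.IdealSheafData.ideal_inf, Pi.inf_apply, Scheme.IdealSheafData.ideal_mul, Pi.mul_apply]
    exact le_inf Ideal.mul_le_left Ideal.mul_le_right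

variable (k : Type u) [Field k] [X.Over (Spec (CommRingCat.of k))] [IsProper (X ↘ Spec (CommRingCat.of k))]
  [IsIntegral X]

theorem euler_quot_mul {I J : X.IdealSheafData} (hI : BlowUp.IsEffCartierIdeal I) (hJ : BlowUp.IsEffCartierIdeal J) :
    (Curv2.euler k X (ClSub.quotMod (I * J)) : ℚ) = Curv2.euler k X (ClSub.quotMod I) +
      Curv2.euler k X (ClSub.quotMod J) - ii k (ClSub.idealMod I) (ClSub.idealMod J) := by
  have hinv : ∀ {Z : X.IdealSheafData}, BlowUp.IsEffCartierIdeal Z → PicF.IsInvertible (ClSub.idealMod Z) :=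
    fun h => (Groth.Agent.L19.IdealInvertible.isEffCartier_iff _).2 h
  haveI := Groth.L21.RR.isNoetherian_of_proper (X := X) k
  obtain ⟨e⟩ := nonempty_idealMod_mul hI hJ
  have c := Groth.L03.SurfAdj.euler_quotMod k J (hinv hJ)
  have d := Groth.L03.SurfAdj.euler_quotMod k (I * J) (hinv (Groth.L22.Ideals.isEffCartier_mul hI hJ))
  rw [euler_iso e] at d
  rw [ii_eq_sub, altT_one, altT_one, euler_iso (tensorUnitLeft (ClSub.idealMod J))]
  have a' : (Curv2.euler k X (Coh.structureModule X) : ℚ) = (Curv2.euler k X (ClSub.idealMod I) : ℚ) +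
      Curv2.euler k X (ClSub.quotMod I) := by exact_mod_cast Groth.L03.SurfAdj.euler_quotMod k I (hinv hI)
  have c' : (Curv2.euler k X (Coh.structureModule X) : ℚ) = (Curv2.euler k X (ClSub.idealMod J) : ℚ) +
      Curv2.euler k X (ClSub.quotMod J) := by exact_mod_cast c
  have d' : (Curv2.euler k X (Coh.structureModule X) : ℚ) =
      (Curv2.euler k X (CohB1.tensorMod (ClSub.idealMod I) (ClSub.idealMod J)) : ℚ) +
        Curv2.euler k X (ClSub.quotMod (I * J)) := by exact_mod_cast d
  push_cast
  linarith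

theorem euler_quot_one : Curv2.euler k X (ClSub.quotMod (1 : X.IdealSheafData)) = 0 := by
  haveI := Groth.L21.RR.isNoetherian_of_proper (X := X) k
  obtain ⟨e⟩ := nonempty_idealMod_one (X := X)
  have h := Groth.L03.SurfAdj.euler_quotMod k (1 : X.IdealSheafData)
    ((Groth.Agent.L19.IdealInvertible.isEffCartier_iff _).2 Groth.L22.Ideals.isEffCartier_top)
  rw [euler_iso e] at h
  omega

variable (hd : topologicalKrullDim X = (2 : ℕ)) (hreg : ∀ x : X, IsRegularLocalRing (X.presheaf.stalk x))
  {n : ℕ} (C : Fin n → X.IdealSheafData) (hCint : ∀ i, IsIntegral (C i).subscheme)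
  (hCdim : ∀ i, topologicalKrullDim ((C i).support : Set X) = 1)
  (hCinj : Function.Injective fun i => ((C i).support : Set X))

include hd hreg hCint hCdim hCinj

theorem gen_not_mem {i j : Fin n} (hne : i ≠ j) {ξ : X} (hξ : IsGenericPoint ξ ((C i).support : Set X)) :
    ξ ∉ ((C j).support : Set X) := fun h => hne (hCinj (by
  haveI := hCint j
  have hη := isGenericPoint_ι (C j)
  have h2 := eq_of_specializes_top (x := ξ) (z := (C j).subschemeι (genericPoint (C j).subscheme))
    (C j).support.isClosed (d := 1) (by rw [hCdim j]; exact Nat.cast_one.ge)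
    (by rw [hξ.def, hCdim i, Nat.cast_one]) hη.mem (hη.specializes h)
  show ((C i).support : Set X) = (C j).support
  rw [← hξ.def, ← hη.def, h2]))

theorem prod_eq_inf (S : Finset (Fin n)) :
    S.inf C = ∏ i ∈ S, C i ∧ 2 * (Curv2.euler k X (ClSub.quotMod (∏ i ∈ S, C i)) : ℚ) =
      2 * ∑ i ∈ S, (Curv2.euler k X (ClSub.quotMod (C i)) : ℚ) -
        ∑ i ∈ S, ∑ j ∈ S, (if i = j then 0 else ii k (ClSub.idealMod (C i)) (ClSub.idealMod (C j))) := by
  classical
  have hCe : ∀ i, BlowUp.IsEffCartierIdeal (C i) := fun i =>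
    haveI := hCint i
    (Groth.Agent.L19.IdealInvertible.isEffCartier_iff _).1 (isInvertible_idealMod k hd hreg (C i) (hCdim i))
  haveI := Groth.L21.RR.isNoetherian_of_proper (X := X) k
  induction S using Finset.induction_on with
  | empty =>
    refine ⟨by simp [Scheme.IdealSheafData.one_eq_top], ?_⟩
    rw [Finset.prod_empty, euler_quot_one k, Finset.sum_empty, Finset.sum_empty]
    norm_num
  | insert a S ha ih =>
    obtain ⟨ih1, ih2⟩ := ih
    haveI := hCint a
    have hQ := isEffCartier_prod S fun i _ => hCe i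
    have hξ := isGenericPoint_ι (C a)
    refine ⟨?_, ?_⟩
    · rw [Finset.inf_insert, ih1, Finset.prod_insert ha]
      refine inf_eq_mul hQ hξ fun h => ?_
      obtain ⟨j, hj, hj'⟩ := (mem_support_prod S C _).1 h
      exact gen_not_mem hd hreg C hCint hCdim hCinj (fun e : a = j => ha (e ▸ hj)) hξ hj'
    · have hlin : ∀ T : Finset (Fin n), ii k (ClSub.idealMod (∏ i ∈ T, C i)) (ClSub.idealMod (C a)) =
          ∑ i ∈ T, ii k (ClSub.idealMod (C i)) (ClSub.idealMod (C a)) := by
        intro T
        have hA := (Groth.Agent.L19.IdealInvertible.isEffCartier_iff _).2 (hCe a)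
        induction T using Finset.induction_on with
        | empty =>
          have h := ii_idealMod_pow k hd.le (hCe a) hA 0
          rw [Finset.prod_empty, Finset.sum_empty]
          simpa using h
        | insert b T hb ihT =>
          haveI := Groth.L21.RR.isNoetherian_of_proper (X := X) k
          rw [Finset.prod_insert hb, Groth.L03.SurfAmple.ii_ideal_mul k hd.le (hCe b)
            (isEffCartier_prod T fun i _ => hCe i) hA, ihT, Finset.sum_insert hb]
      rw [Finset.prod_insert ha, euler_quot_mul k (hCe a) hQ, ii_comm, hlin S, Finset.sum_insert ha,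
        Finset.sum_insert ha]
      have hs1 : ∑ j ∈ insert a S, (if a = j then 0 else ii k (ClSub.idealMod (C a)) (ClSub.idealMod (C j))) =
          ∑ j ∈ S, ii k (ClSub.idealMod (C j)) (ClSub.idealMod (C a)) := by
        rw [Finset.sum_insert ha, if_pos rfl, zero_add]
        exact Finset.sum_congr rfl fun j hj => by
          rw [if_neg (fun e : a = j => ha (e ▸ hj)), ii_comm]
      have hs2 : ∀ i ∈ S, ∑ j ∈ insert a S, (if i = j then 0 else ii k (ClSub.idealMod (C i)) (ClSub.idealMod (C j))) =
          ii k (ClSub.idealMod (C i)) (ClSub.idealMod (C a)) +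
            ∑ j ∈ S, (if i = j then 0 else ii k (ClSub.idealMod (C i)) (ClSub.idealMod (C j))) := fun i hi => by
        rw [Finset.sum_insert ha, if_neg (fun e : i = a => ha (e ▸ hi))]
      rw [hs1, Finset.sum_congr rfl hs2, Finset.sum_add_distrib]
      linarith

/-- A connected union of `n` curves meets at least `n - 1` times. -/
theorem le_sum_ii (hconn : _root_.IsPreconnected ((⨅ i, C i).support : Set X)) (hn : 0 < n) :
    2 * ((n : ℚ) - 1) ≤ ∑ i, ∑ j, (if i = j then 0 else ii k (ClSub.idealMod (C i)) (ClSub.idealMod (C j))) := by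
  classical
  have hCinv : ∀ i, PicF.IsInvertible (ClSub.idealMod (C i)) := fun i =>
    haveI := hCint i
    isInvertible_idealMod k hd hreg (C i) (hCdim i)
  let G : SimpleGraph (Fin n) := SimpleGraph.fromRel fun i j => (((C i).support : Set X) ∩ (C j).support).Nonempty
  have hsupp : ((⨅ i, C i).support : Set X) = ⋃ i, ((C i).support : Set X) := by
    rw [show (⨅ i, C i) = Finset.univ.inf C from (Finset.inf_univ_eq_iInf C).symm,
      (prod_eq_inf k hd hreg C hCint hCdim hCinj Finset.univ).1]
    ext z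
    rw [mem_support_prod]
    simp
  rw [hsupp] at hconn
  have hGc : G.Connected := by
    refine (SimpleGraph.connected_iff _).2 ⟨fun u v => ?_, ⟨⟨0, hn⟩⟩⟩
    by_contra huv
    let S : Set (Fin n) := {w | G.Reachable u w}
    let A : Set X := ⋃ i ∈ S, ((C i).support : Set X)
    let B : Set X := ⋃ i ∈ Sᶜ, ((C i).support : Set X)
    have hA : IsClosed A := Set.Finite.isClosed_biUnion (Set.toFinite _) fun i _ => (C i).support.isClosed
    have hB : IsClosed B := Set.Finite.isClosed_biUnion (Set.toFinite _) fun i _ => (C i).support.isClosed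
    haveI := hCint u
    haveI := hCint v
    obtain ⟨z, -, hzA, hzB⟩ := isPreconnected_closed_iff.1 hconn A B hA hB
      (fun z hz => by
        obtain ⟨i, hi⟩ := Set.mem_iUnion.1 hz
        by_cases h : i ∈ S
        · exact Or.inl (Set.mem_biUnion h hi)
        · exact Or.inr (Set.mem_biUnion h hi))
      ⟨_, Set.mem_iUnion.2 ⟨u, (isGenericPoint_ι (C u)).mem⟩, Set.mem_biUnion (SimpleGraph.Reachable.refl u) (isGenericPoint_ι (C u)).mem⟩
      ⟨_, Set.mem_iUnion.2 ⟨v, (isGenericPoint_ι (C v)).mem⟩, Set.mem_biUnion huv (isGenericPoint_ι (C v)).mem⟩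
    simp only [A, B, Set.mem_iUnion, exists_prop] at hzA hzB
    obtain ⟨i, hi, hzi⟩ := hzA
    obtain ⟨j, hj, hzj⟩ := hzB
    refine hj (SimpleGraph.Reachable.trans hi (SimpleGraph.Adj.reachable ?_))
    exact (SimpleGraph.fromRel_adj _ i j).2 ⟨fun e => hj (e ▸ hi), Or.inl ⟨z, hzi, hzj⟩⟩
  have hedge := hGc.card_vert_le_card_edgeSet_add_one
  rw [Nat.card_eq_fintype_card, Fintype.card_fin, Nat.card_eq_fintype_card, ← SimpleGraph.edgeFinset_card] at hedge
  have hnonneg : ∀ i j, i ≠ j → 0 ≤ ii k (ClSub.idealMod (C i)) (ClSub.idealMod (C j)) := fun i j hij =>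
    haveI := hCint i
    haveI := hCint j
    Gram.curve_pair_nonneg k hd.le (C i) (C j) (hCdim i) (hCdim j) (hCinv i) (hCinv j) fun e => hij (hCinj (by simp only; rw [e]))
  have hone : ∀ i j, G.Adj i j → 1 ≤ ii k (ClSub.idealMod (C i)) (ClSub.idealMod (C j)) := by
    intro i j hij
    obtain ⟨hne, hm⟩ := (SimpleGraph.fromRel_adj _ i j).1 hij
    have hm : (((C i).support : Set X) ∩ (C j).support).Nonempty :=
      hm.elim id fun h => by rwa [Set.inter_comm]
    obtain ⟨z, hzi, hzj⟩ := hm
    haveI := hCint j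
    haveI := hCint i
    have hξ := isGenericPoint_ι (C j)
    have hy : topologicalKrullDim (closure ({(C j).subschemeι (genericPoint (C j).subscheme)} : Set X)) = (1 : ℕ) := by
      rw [hξ.def, hCdim j, Nat.cast_one]
    have hpos := ii_pos_of_meet k hd (hCinv i) hy (by rw [← eq_pt]; exact hCinv j)
      (gen_not_mem hd hreg C hCint hCdim hCinj hne.symm hξ) (by rw [hξ.def]; exact hzj) hzi
    rw [← eq_pt, ← intNum_eq_ii k hd.le] at hpos
    rw [← intNum_eq_ii k hd.le]
    exact_mod_cast hpos
  have hdeg : ∀ i, (G.degree i : ℚ) ≤ ∑ j, (if i = j then 0 else ii k (ClSub.idealMod (C i)) (ClSub.idealMod (C j))) := by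
    intro i
    rw [← SimpleGraph.card_neighborFinset_eq_degree, ← Finset.sum_sdiff (Finset.subset_univ (G.neighborFinset i))]
    refine le_add_of_nonneg_of_le (Finset.sum_nonneg fun j _ => ?_) ?_
    · split_ifs with h
      · rfl
      · exact hnonneg i j h
    · rw [Finset.card_eq_sum_ones, Nat.cast_sum]
      refine Finset.sum_le_sum fun j hj => ?_
      rw [SimpleGraph.mem_neighborFinset] at hj
      rw [Nat.cast_one, if_neg hj.ne]
      exact hone i j hj
  have hsum : ((∑ i, G.degree i : ℕ) : ℚ) = 2 * (G.edgeFinset.card : ℚ) := by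
    rw [SimpleGraph.sum_degrees_eq_twice_card_edges]; push_cast; ring
  have he : (n : ℚ) ≤ (G.edgeFinset.card : ℚ) + 1 := by exact_mod_cast hedge
  have := Finset.sum_le_sum (s := Finset.univ) fun i _ => hdeg i
  rw [← Nat.cast_sum, hsum] at this
  linarith

end Groth.L03.BlowPt
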