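import Groth.Agent.L03.BlowPt.ZeroPoint
import Groth.Agent.L03.SurfAdj.Tools
import Groth.Agent.L03.Euler.Push
import Groth.Agent.L21.Duality.Deg
import Groth.Agent.L13.BlowUp.Proper

/-!
# The degree of the conormal bundle of the exceptional curve
-/

set_option autoImplicit false
set_option linter.style.haveILetI false
set_option backward.isDefEq.respectTransparency false

universe u

open CategoryTheory CategoryTheory.Limits AlgebraicGeometry TopologicalSpace
open Groth.L03.Euler Groth.L22.Inter Groth.L22.Nef Groth.L22.Big Groth.L03.SurfNum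

noncomputable section

namespace Groth.L03.BlowPt

variable {X X' : Scheme.{u}} {x : X} {hx : IsClosed ({x} : Set X)} {b : X' ⟶ X}
  (k : Type u) [Field k] [X.Over (Spec (CommRingCat.of k))] [X'.Over (Spec (CommRingCat.of k))]
  [IsProper (X ↘ Spec (CommRingCat.of k))] [IsProper (X' ↘ Spec (CommRingCat.of k))]

/-- The degree of a closed point, as an Euler characteristic. -/
abbrev ptDeg (hx : IsClosed ({x} : Set X)) : ℤ := Curv2.euler k X (ClSub.quotMod (ptI hx))

/-- The exceptional curve over the ground field. -/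
abbrev excOver (hx : IsClosed ({x} : Set X)) (b : X' ⟶ X) :
    (exc hx b).subscheme.Over (Spec (CommRingCat.of k)) := ⟨eι hx b ≫ (X' ↘ Spec (CommRingCat.of k))⟩

/-- Euler characteristics of closed subschemes isomorphic over the base. -/
theorem euler_quot_eq_of_iso (hbo : b ≫ (X ↘ Spec (CommRingCat.of k)) = X' ↘ Spec (CommRingCat.of k))
    (Z : (exc hx b).subscheme.IdealSheafData) (g : Z.subscheme ⟶ (ptI hx).subscheme) [IsIso g]
    (hg : g ≫ (ptI hx).subschemeι = Z.subschemeι ≫ eι hx b ≫ b) :
    letI := excOver k hx b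
    Curv2.euler k (exc hx b).subscheme (ClSub.quotMod Z) = ptDeg k hx := by
  letI := excOver k hx b
  haveI : IsProper ((exc hx b).subscheme ↘ Spec (CommRingCat.of k)) :=
    inferInstanceAs (IsProper (eι hx b ≫ (X' ↘ Spec (CommRingCat.of k))))
  haveI : X.IsSeparated := ⟨by rw [← terminal.comp_from (X ↘ Spec (CommRingCat.of k))]; infer_instance⟩
  haveI : (exc hx b).subscheme.IsSeparated :=
    ⟨by rw [← terminal.comp_from ((exc hx b).subscheme ↘ Spec (CommRingCat.of k))]; infer_instance⟩
  letI : Z.subscheme.Over (Spec (CommRingCat.of k)) :=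
    ⟨Z.subschemeι ≫ ((exc hx b).subscheme ↘ Spec (CommRingCat.of k))⟩
  letI : (ptI hx).subscheme.Over (Spec (CommRingCat.of k)) :=
    ⟨(ptI hx).subschemeι ≫ (X ↘ Spec (CommRingCat.of k))⟩
  haveI : IsProper ((ptI hx).subscheme ↘ Spec (CommRingCat.of k)) :=
    inferInstanceAs (IsProper ((ptI hx).subschemeι ≫ (X ↘ Spec (CommRingCat.of k))))
  haveI : (ptI hx).subscheme.IsSeparated :=
    ⟨by rw [← terminal.comp_from ((ptI hx).subscheme ↘ Spec (CommRingCat.of k))]; infer_instance⟩
  have hgk : g ≫ ((ptI hx).subscheme ↘ Spec (CommRingCat.of k)) = Z.subscheme ↘ Spec (CommRingCat.of k) := by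
    show g ≫ (ptI hx).subschemeι ≫ (X ↘ Spec (CommRingCat.of k)) = Z.subschemeι ≫ eι hx b ≫ (X' ↘ Spec (CommRingCat.of k))
    rw [reassoc_of% hg, hbo]
  have h1 := euler_push (k := k) Z.subschemeι (Coh.structureModule Z.subscheme)
    (Groth.L19.Conormal.isQCoh_structureModule _) rfl
  have h2 := euler_push (k := k) g (Coh.structureModule Z.subscheme) (Groth.L19.Conormal.isQCoh_structureModule _) hgk
  have h3 := euler_push (k := k) (ptI hx).subschemeι (Coh.structureModule (ptI hx).subscheme)
    (Groth.L19.Conormal.isQCoh_structureModule _) rfl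
  obtain ⟨e⟩ := nonempty_push_structure g
  have h4 : Curv2.euler k (ptI hx).subscheme (Coh.structureModule (ptI hx).subscheme) =
      Curv2.euler k Z.subscheme (Coh.structureModule Z.subscheme) := by
    rw [← h2]; exact (euler_iso e).symm
  exact h1.trans (h4.symm.trans h3.symm)

namespace EChart

variable (D : EChart hx b)

include D in
/-- The conormal bundle has the degree of the centre. -/
theorem deg_eL (hbo : b ≫ (X ↘ Spec (CommRingCat.of k)) = X' ↘ Spec (CommRingCat.of k))
    (hE : PicF.IsInvertible (ClSub.idealMod (exc hx b))) :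
    letI := excOver k hx b
    Curv2.deg k (exc hx b).subscheme (eL hx b) 1 = ptDeg k hx := by
  letI := excOver k hx b
  haveI := D.isIntegral
  haveI : IsProper ((exc hx b).subscheme ↘ Spec (CommRingCat.of k)) :=
    inferInstanceAs (IsProper (eι hx b ≫ (X' ↘ Spec (CommRingCat.of k))))
  have hd := D.dim_eq
  have hL : PicF.IsInvertible (eL hx b) := Groth.L18.Ample.isInvertible_pullback (eι hx b) hE
  obtain ⟨Z, hZ, ⟨θ⟩, hZc⟩ := D.exists_zero_scheme hE 1
  obtain ⟨g, hgi, hg⟩ := D.exists_zero_iso Z 1 hZc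
  haveI := hgi
  have h1 := Groth.L21.Duality.deg_tensor (k := k) hd hZ hL
  have h2 : Curv2.deg k (exc hx b).subscheme (CohB1.tensorMod (ClSub.idealMod Z) (eL hx b)) 1 = 0 := by
    rw [Curv2.deg, euler_iso θ]; simp
  have h3 := Groth.L03.SurfAdj.euler_quotMod k Z hZ
  have h4 := euler_quot_eq_of_iso k hbo Z g hg
  have h5 : Curv2.deg k (exc hx b).subscheme (ClSub.idealMod Z) 1 = - ptDeg k hx := by
    rw [Curv2.deg]; push_cast; linarith
  linarith

end EChart

end Groth.L03.BlowPt
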