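import Groth.Agent.L03.SurfAdj.DetIso
import Groth.Agent.L19.OmegaSh.Universal
import Groth.Agent.L19.OmegaSh.Affine

/-!
# Top exterior powers of differentials along open immersions
-/

set_option autoImplicit false
set_option backward.isDefEq.respectTransparency false
set_option linter.style.haveILetI false

universe u

open CategoryTheory CategoryTheory.Limits AlgebraicGeometry TopologicalSpace Opposite
open Groth.L18.Frame (rs ro rs_rs rs_self rs_smul ro_ro IsFrame pull pull_rs pull_smul)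
open Groth.L20.ModStalk (germ_smul germ_rs)
open Groth.L21.RR (st st_germ bijective_germ_frame)
open Groth.L22.CurveDeg.Det
open Groth.L03.SurfAdj (sum_comp)

noncomputable section

namespace Groth.L03.BlowPt

variable {X Y Z : Scheme.{u}}

/-- Top exterior powers of isomorphic pullbacks pull back to isomorphic modules. -/
theorem nonempty_det_congr (f : Z ⟶ X) (g : Z ⟶ Y) {n : ℕ} {E W : X.Modules} {E' W' : Y.Modules}
    (hE : FlatMod.IsFinLocFreeOfRank n E) (hW : ExtPow.IsExtPow n E W)
    (hE' : FlatMod.IsFinLocFreeOfRank n E') (hW' : ExtPow.IsExtPow n E' W')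
    (ε : (Scheme.Modules.pullback f).obj E ≅ (Scheme.Modules.pullback g).obj E') :
    Nonempty ((Scheme.Modules.pullback f).obj W ≅ (Scheme.Modules.pullback g).obj W') := by
  classical
  obtain ⟨φ, hφ⟩ := hW
  obtain ⟨φ', hφ'⟩ := hW'
  choose U e hU _hUt he using fun z : Z => exists_affine_basis hE (f z) ⊤ trivial
  choose U' e' hU' _hU't he' using fun z : Z => exists_affine_basis hE' (g z) ⊤ trivial
  let F := (Scheme.Modules.pullback g).obj E'
  let V := fun z => f ⁻¹ᵁ (U z).1 ⊓ g ⁻¹ᵁ (U' z).1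
  let q := fun i (l : Fin n) => ε.hom.app (V i) (rs _ inf_le_left (pull f E (U i).1 (e i l)))
  let p := fun i (l : Fin n) => rs F (inf_le_right : V i ≤ _) (pull g E' (U' i).1 (e' i l))
  have hp : ∀ i (y : Z) (hy : y ∈ V i), Function.Bijective
      fun r : Fin n → Z.presheaf.stalk y => ∑ l, r l • F.presheaf.germ (V i) y hy (p i l) := fun i y hy => by
    simp only [p, germ_rs]
    exact isBasisS_pullback g (he' i) y hy.2
  have hq : ∀ i (y : Z) (hy : y ∈ V i) (l : Fin n), F.presheaf.germ (V i) y hy (q i l) =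
      st ε.hom y (((Scheme.Modules.pullback f).obj E).presheaf.germ (f ⁻¹ᵁ (U i).1) y hy.1
        (pull f E (U i).1 (e i l))) := fun i y hy l => by
    simp only [q]
    rw [← st_germ, germ_rs]
  have hqsurj : ∀ i (y : Z) (hy : y ∈ V i) (m : F.presheaf.stalk y), ∃ r : Fin n → Z.presheaf.stalk y,
      ∑ l, r l • F.presheaf.germ (V i) y hy (q i l) = m := fun i y hy m => by
    obtain ⟨r, hr⟩ := (isBasisS_pullback f (he i) y hy.1).2 (st ε.inv y m)
    refine ⟨r, ?_⟩
    have h := congrArg (st ε.hom y) hr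
    simp only [map_sum, map_smul] at h
    simp only [hq]
    refine h.trans ?_
    show ((Groth.L00.Stk.F Z y).map ε.hom).hom (((Groth.L00.Stk.F Z y).map ε.inv).hom m) = m
    exact congr($(((Groth.L00.Stk.F Z y).mapIso ε).inv_hom_id) m)
  have hpS : ∀ i, Groth.L17.LocBases.IsBasis (O := Z.sheaf) F (W := V i) (p i) := fun i =>
    Groth.L17.PullBasis.isBasis_of_stalk F (p i) (hp i)
  have hcoef : ∀ i (k : Fin n), ∃ r : Fin n → Γ(Z, V i), ∑ l, r l • p i l = q i k := fun i k => by
    obtain ⟨r, hr⟩ := ((hpS i) (V i) (𝟙 _)).2 (q i k)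
    exact ⟨r, (Finset.sum_congr rfl fun l _ => congrArg (fun x => (show Γ(Z, V i) from r l) • x)
      (rs_self F le_rfl (p i l)).symm).trans hr⟩
  choose M hM using hcoef
  let Mg := fun i (y : Z) (hy : y ∈ V i) => Matrix.of fun k l => Z.presheaf.germ (V i) y hy (M i k l)
  have hMg : ∀ i k (y : Z) (hy : y ∈ V i), F.presheaf.germ (V i) y hy (q i k) =
      ∑ l, Mg i y hy k l • F.presheaf.germ (V i) y hy (p i l) := fun i k y hy => by
    rw [← hM i k, map_sum]
    exact Finset.sum_congr rfl fun l _ => germ_smul (M := F) hy (M i k l) (p i l)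
  have hdet : ∀ i, IsUnit (Matrix.of (M i)).det := fun i => by
    refine RingedSpace.isUnit_of_isUnit_germ Z.toLocallyRingedSpace.toRingedSpace (V i) _ fun y hy => ?_
    choose P hP using fun l => hqsurj i y hy (F.presheaf.germ (V i) y hy (p i l))
    have h1 : Matrix.of P * Mg i y hy = 1 := by
      refine Matrix.ext fun l m => congrFun ((hp i y hy).1 ?_ :
        (fun m => (Matrix.of P * Mg i y hy) l m) = fun m => (1 : Matrix (Fin n) (Fin n) _) l m) m
      show ∑ m, (Matrix.of P * Mg i y hy) l m • _ = ∑ m, (1 : Matrix (Fin n) (Fin n) _) l m • _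
      rw [← sum_comp]
      simp only [Matrix.one_apply, ite_smul, one_smul, zero_smul, Finset.sum_ite_eq, Finset.mem_univ, if_true]
      rw [← hP l]
      exact Finset.sum_congr rfl fun k _ => by rw [hMg i k y hy]; rfl
    have h2 := congrArg Matrix.det h1
    rw [Matrix.det_mul, Matrix.det_one] at h2
    have h3 : IsUnit (Mg i y hy).det := IsUnit.of_mul_eq_one _ ((mul_comm _ _).trans h2)
    have h4 : (Z.presheaf.germ (V i) y hy).hom (Matrix.of (M i)).det = (Mg i y hy).det :=
      RingHom.map_det _ _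
    exact h4.symm ▸ h3
  let A := (Scheme.Modules.pullback f).obj W
  let B := (Scheme.Modules.pullback g).obj W'
  let ω := fun i => rs A (inf_le_left : V i ≤ _) (pull f W (U i).1 (wedge φ (U i) (e i)))
  let ω' := fun i => (Matrix.of (M i)).det • rs B (inf_le_right : V i ≤ _) (pull g W' (U' i).1 (wedge φ' (U' i) (e' i)))
  have hω : ∀ i, IsFrame A (V i) (ω i) := fun i =>
    ((isFrame_wedge φ hφ (U i) (e i) (he i)).pullback f).mono _
  have hω' : ∀ i, IsFrame B (V i) (ω' i) := fun i =>
    (((isFrame_wedge φ' hφ' (U' i) (e' i) (he' i)).pullback g).mono _).smul_unit (hdet i)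
  refine Groth.L22.PicGlue.nonempty_iso_of_gens V (e := ω) (e' := ω') hω hω'
    (fun z => ⟨z, hU z, hU' z⟩) fun i j O hi hj c hc => ?_
  refine TopCat.Presheaf.section_ext ⟨B.presheaf, B.isSheaf⟩ O _ _ fun y hy => ?_
  show B.presheaf.germ O y hy (c • rs B hi (ω' i)) = B.presheaf.germ O y hy (rs B hj (ω' j))
  have hyi : y ∈ V i := hi hy
  have hyj : y ∈ V j := hj hy
  rw [germ_smul, germ_rs, germ_rs]
  choose T hT using fun l => (isBasisS_pullback f (he i) y hyi.1).2
    (((Scheme.Modules.pullback f).obj E).presheaf.germ (f ⁻¹ᵁ (U j).1) y hyj.1 (pull f E (U j).1 (e j l)))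
  choose S hS using fun l => (isBasisS_pullback g (he' i) y hyi.2).2
    (F.presheaf.germ (g ⁻¹ᵁ (U' j).1) y hyj.2 (pull g E' (U' j).1 (e' j l)))
  have hwA := det_pullback φ hφ f (U j) (U i) (e j) (e i) (he i) y hyj.1 hyi.1 (Matrix.of T)
    fun l => (hT l).symm
  have hwB := det_pullback φ' hφ' g (U' j) (U' i) (e' j) (e' i) (he' i) y hyj.2 hyi.2 (Matrix.of S)
    fun l => (hS l).symm
  have hcA : Z.presheaf.germ O y hy c = (Matrix.of T).det := by
    have hc' : c • rs A hi (ω i) = rs A hj (ω j) := hc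
    simp only [ω, rs_rs] at hc'
    have h := congrArg (A.presheaf.germ O y hy) hc'
    rw [germ_smul, germ_rs, germ_rs] at h
    refine (bijective_germ_frame ((isFrame_wedge φ hφ (U i) (e i) (he i)).pullback f) hyi.1).1 ?_
    exact h.trans hwA
  have hMS : Mg j y hyj * Matrix.of S = Matrix.of T * Mg i y hyi := by
    refine Matrix.ext fun k m => congrFun ((hp i y hyi).1 ?_ :
      (fun m => (Mg j y hyj * Matrix.of S) k m) = fun m => (Matrix.of T * Mg i y hyi) k m) m
    show ∑ m, (Mg j y hyj * Matrix.of S) k m • _ = ∑ m, (Matrix.of T * Mg i y hyi) k m • _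
    rw [← sum_comp, ← sum_comp]
    have e1 : ∀ l, (∑ m, Matrix.of S l m • F.presheaf.germ (V i) y hyi (p i m)) =
        F.presheaf.germ (V j) y hyj (p j l) := fun l => by
      simp only [p, germ_rs]
      exact hS l
    have e2 : ∀ l, (∑ m, Mg i y hyi l m • F.presheaf.germ (V i) y hyi (p i m)) =
        F.presheaf.germ (V i) y hyi (q i l) := fun l => (hMg i l y hyi).symm
    simp only [e1, e2]
    rw [← hMg j k y hyj, hq j y hyj k, ← hT k, map_sum]
    exact Finset.sum_congr rfl fun l _ => by rw [map_smul, ← hq]; rfl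
  have hdg : ∀ i' (h : y ∈ V i'), B.presheaf.germ (V i') y h (ω' i') = (Mg i' y h).det •
      B.presheaf.germ (g ⁻¹ᵁ (U' i').1) y h.2 (pull g W' (U' i').1 (wedge φ' (U' i') (e' i'))) := fun i' h => by
    refine (germ_smul (M := B) h _ _).trans ?_
    rw [germ_rs]
    exact congrArg (· • _) (RingHom.map_det (Z.presheaf.germ (V i') y h).hom (Matrix.of (M i')))
  rw [hdg i hyi, hdg j hyj, hwB, smul_smul, smul_smul, hcA, ← Matrix.det_mul, ← Matrix.det_mul, hMS]

/-- Differentials restrict along open immersions. -/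
theorem nonempty_omega_restrict {S : Scheme.{u}} (p : X ⟶ S) [QuasiSeparated p] (j : Z ⟶ X) [IsOpenImmersion j]
    (p' : Y ⟶ S) [QuasiSeparated p'] (j' : Z ⟶ Y) [IsOpenImmersion j'] (h : j ≫ p = j' ≫ p') :
    Nonempty ((Scheme.Modules.pullback j).obj (Omega.sheaf p) ≅
      (Scheme.Modules.pullback j').obj (Omega.sheaf p')) := by
  have key : ∀ {f₁ f₂ : Z ⟶ S} (e : f₁ = f₂) {Ω Ω' : Z.Modules} {d : OmegaSh.Der f₁ Ω} {d' : OmegaSh.Der f₂ Ω'},
      OmegaSh.IsUniversal d → OmegaSh.IsUniversal d' → Nonempty (Ω ≅ Ω') := by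
    intro f₁ f₂ e
    subst e
    intro Ω Ω' d d' hd hd'
    exact ⟨(Groth.L19.OmegaSh.exists_iso_of_isUniversal hd hd').choose⟩
  obtain ⟨e⟩ := key h
    (Groth.L19.OmegaSh.isUniversal_resDer j (Groth.L19.OmegaSh.isUniversal_dOmega (f := p)))
    (Groth.L19.OmegaSh.isUniversal_resDer j' (Groth.L19.OmegaSh.isUniversal_dOmega (f := p')))
  exact ⟨((Scheme.Modules.restrictFunctorIsoPullback j).app _).symm ≪≫ e ≪≫
    (Scheme.Modules.restrictFunctorIsoPullback j').app _⟩

end Groth.L03.BlowPt
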