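import Mathlib.RingTheory.UniqueFactorizationDomain.Basic
import Mathlib.RingTheory.UniqueFactorizationDomain.Ideal
import Mathlib.RingTheory.Ideal.KrullsHeightTheorem
import Mathlib.RingTheory.Filtration
import Mathlib.RingTheory.MvPolynomial.Homogeneous
import Mathlib.RingTheory.Localization.FractionRing
import Mathlib.RingTheory.LocalRing.ResidueField.Basic
import Mathlib.Algebra.Polynomial.Eval.Defs

/-!
# Dominating a two-dimensional regular local ring with a curve over the closed point
-/

set_option autoImplicit false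
set_option linter.style.haveILetI false

universe u

open Polynomial IsLocalRing

namespace Groth.L03.Dominate

variable {B : Type u} [CommRing B] [IsDomain B] [IsLocalRing B]

/-- A relation between powers of a coprime pair of non-units has coefficients in the maximal ideal. -/
theorem map_residue_eq_zero [UniqueFactorizationMonoid B] {a b : B} (ha : ¬ IsUnit a) (hb : ¬ IsUnit b) (hab : IsRelPrime a b) (ha0 : a ≠ 0) :
    ∀ (n : ℕ) (p : ℕ → B), ∑ i ∈ Finset.range (n + 1), p i * b ^ i * a ^ (n - i) = 0 →
      ∀ i ≤ n, p i ∈ maximalIdeal B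
  | 0, p, h, i, hi => by
    obtain rfl : i = 0 := by omega
    simp at h
    simp [h]
  | n + 1, p, h, i, hi => by
    rw [Finset.sum_range_succ, Nat.sub_self, pow_zero, mul_one] at h
    have hdvd : a ∣ p (n + 1) * b ^ (n + 1) := by
      have h1 : a ∣ ∑ i ∈ Finset.range (n + 1), p i * b ^ i * a ^ (n + 1 - i) := Finset.dvd_sum fun j hj =>
        dvd_mul_of_dvd_right (dvd_pow_self a (by have := Finset.mem_range.1 hj; omega)) _
      exact (dvd_add_right h1).1 (h ▸ dvd_zero a)
    have hdvd' : a ∣ p (n + 1) := by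
      clear h
      have : ∀ l, a ∣ p (n + 1) * b ^ l → a ∣ p (n + 1) := by
        intro l
        induction l with
        | zero => simp
        | succ l ih => intro h; exact ih (hab.dvd_of_dvd_mul_right (by rwa [pow_succ, ← mul_assoc] at h))
      exact this _ hdvd
    obtain ⟨c, hc⟩ := hdvd'
    let q : ℕ → B := fun j => if j = n then p n + c * b else p j
    have hq : ∑ i ∈ Finset.range (n + 1), q i * b ^ i * a ^ (n - i) = 0 := by
      refine mul_left_cancel₀ ha0 ?_
      rw [mul_zero, ← h, Finset.mul_sum, Finset.sum_range_succ, Finset.sum_range_succ (n := n), Nat.sub_self,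
        show n + 1 - n = 1 by omega, show q n = p n + c * b from if_pos rfl, hc]
      have : ∑ x ∈ Finset.range n, a * (q x * b ^ x * a ^ (n - x)) =
          ∑ x ∈ Finset.range n, p x * b ^ x * a ^ (n + 1 - x) := Finset.sum_congr rfl fun j hj => by
        have hj' := Finset.mem_range.1 hj
        rw [show q j = p j from if_neg (by omega), show n + 1 - j = (n - j) + 1 by omega, pow_succ]
        ring
      rw [this]
      ring
    have hmem := map_residue_eq_zero ha hb hab ha0 n q hq
    by_cases hin : i = n + 1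
    · subst hin
      rw [hc]
      exact Ideal.mul_mem_right _ _ ((mem_maximalIdeal a).2 ha)
    · have h2 := hmem i (by omega)
      by_cases hi' : i = n
      · subst hi'
        rw [show q i = p i + c * b from if_pos rfl] at h2
        exact ((maximalIdeal B).add_mem_iff_left (Ideal.mul_mem_left _ _ ((mem_maximalIdeal b).2 hb))).1 h2
      · rwa [show q i = p i from if_neg hi'] at h2

variable (K : Type u) [Field K] [Algebra B K] [IsFractionRing B K]

/-- The residue polynomial of a value at a coprime fraction is well defined. -/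
theorem residue_eq_of_eval [UniqueFactorizationMonoid B] {a b : B} (ha : ¬ IsUnit a) (hb : ¬ IsUnit b) (hab : IsRelPrime a b) (ha0 : a ≠ 0)
    {P Q : B[X]} (h : P.eval₂ (algebraMap B K) (algebraMap B K b / algebraMap B K a) =
      Q.eval₂ (algebraMap B K) (algebraMap B K b / algebraMap B K a)) :
    P.map (residue B) = Q.map (residue B) := by
  have hak : algebraMap B K a ≠ 0 := fun h => ha0 (IsFractionRing.injective B K (by rw [h, map_zero]))
  rw [← sub_eq_zero, ← Polynomial.map_sub]
  set D := P - Q
  have hD : D.eval₂ (algebraMap B K) (algebraMap B K b / algebraMap B K a) = 0 := by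
    rw [eval₂_sub, h, sub_self]
  have hsum : ∑ i ∈ Finset.range (D.natDegree + 1), D.coeff i * b ^ i * a ^ (D.natDegree - i) = 0 := by
    refine IsFractionRing.injective B K ?_
    rw [map_zero, map_sum, ← mul_zero (algebraMap B K a ^ D.natDegree), ← hD, eval₂_eq_sum_range, Finset.mul_sum]
    refine Finset.sum_congr rfl fun i hi => ?_
    have hi' := Finset.mem_range.1 hi
    rw [map_mul, map_mul, map_pow, map_pow, div_pow, ← Nat.sub_add_cancel (show i ≤ D.natDegree by omega), pow_add,
      Nat.add_sub_cancel]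
    field_simp
  ext i
  rw [coeff_map, coeff_zero, residue_eq_zero_iff]
  by_cases hi : i ≤ D.natDegree
  · exact map_residue_eq_zero ha hb hab ha0 _ (fun j => D.coeff j) hsum i hi
  · rw [coeff_eq_zero_of_natDegree_lt (by omega)]
    exact zero_mem _

variable {A : Type u} [CommRing A] [IsLocalRing A] [IsNoetherianRing A] [IsDomain A] (φ : A →+* B) [IsLocalHom φ]

omit [IsDomain B] in
/-- Orders along the first parameter. -/
theorem exists_order_form (x y : A) (hm : maximalIdeal A = Ideal.span {x, y}) {a b d : B}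
    (hx : φ x = d * a) (hy : φ y = d * b) (hz : IsFractionRing B K) (ha0 : algebraMap B K a ≠ 0) {p : A} (hp : p ≠ 0) :
    ∃ (i : ℕ) (P : B[X]), P.map (residue B) ≠ 0 ∧
      algebraMap B K (φ p) = algebraMap B K (φ x) ^ i * P.eval₂ (algebraMap B K) (algebraMap B K b / algebraMap B K a) := by
  classical
  have hex : ∃ i, p ∉ maximalIdeal A ^ i := by
    by_contra hall
    push Not at hall
    refine hp ?_
    have h : p ∈ ⨅ i : ℕ, maximalIdeal A ^ i := Submodule.mem_iInf _ |>.2 hall
    rwa [Ideal.iInf_pow_eq_bot_of_isLocalRing _ (maximalIdeal.isMaximal A).ne_top, Ideal.mem_bot] at h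
  have h0 : Nat.find hex ≠ 0 := fun h => by
    have := Nat.find_spec hex
    rw [h, pow_zero] at this
    exact this (by rw [Ideal.one_eq_top]; trivial)
  obtain ⟨i, hi⟩ := Nat.exists_eq_succ_of_ne_zero h0
  have hmem : p ∈ maximalIdeal A ^ i := by
    by_contra h
    have := Nat.find_min' hex h
    omega
  have hnot : p ∉ maximalIdeal A ^ (i + 1) := by
    have h := Nat.find_spec hex
    rwa [hi] at h
  rw [hm, show ({x, y} : Set A) = Set.range ![x, y] by simp [Matrix.range_cons, Matrix.range_empty, Set.pair_comm]] at hmem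
  obtain ⟨F, hF, hFp⟩ := (Ideal.mem_span_pow_iff_exists_isHomogeneous ![x, y] p).1 hmem
  let P : B[X] := ∑ d ∈ F.support, Polynomial.monomial (d 1) (φ (F.coeff d))
  refine ⟨i, P, fun hP => hnot ?_, ?_⟩
  · rw [← hFp, ← F.support_sum_monomial_coeff, map_sum]
    refine Ideal.sum_mem _ fun d hd => ?_
    rw [MvPolynomial.eval_monomial, pow_succ']
    have hdeg : ∀ e ∈ F.support, e 0 + e 1 = i := fun e he => by
      simpa [Finsupp.weight_apply, Finsupp.sum_fintype, Fin.sum_univ_two] using hF (MvPolynomial.mem_support_iff.1 he)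
    have hc : φ (F.coeff d) ∈ maximalIdeal B := by
      have h1 := congrArg (fun T : (ResidueField B)[X] => T.coeff (d 1)) hP
      simp only [P, Polynomial.map_sum, Polynomial.map_monomial, finsetSum_coeff, coeff_monomial, coeff_zero] at h1
      rw [Finset.sum_eq_single d (fun e he hne => if_neg fun he1 => hne (Finsupp.ext fun j => by
        have := hdeg e he
        have := hdeg d hd
        fin_cases j
        · show e 0 = d 0; omega
        · exact he1)) (fun h => absurd hd h), if_pos rfl, residue_eq_zero_iff] at h1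
      exact h1
    refine Ideal.mul_mem_mul ?_ ?_
    · by_contra hu
      exact (mem_maximalIdeal _).1 hc ((IsLocalRing.notMem_maximalIdeal.1 hu).map φ)
    · rw [Finsupp.prod_fintype _ _ (fun j => pow_zero _), Fin.prod_univ_two, ← hdeg d hd, pow_add]
      exact Ideal.mul_mem_mul (Ideal.pow_mem_pow (by rw [hm]; exact Ideal.subset_span (by simp)) _)
        (Ideal.pow_mem_pow (by rw [hm]; exact Ideal.subset_span (by simp)) _)
  · rw [← hFp]
    conv_lhs => rw [← F.support_sum_monomial_coeff]
    simp only [P, map_sum, eval₂_finsetSum, eval₂_monomial, Finset.mul_sum]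
    refine Finset.sum_congr rfl fun e he => ?_
    have he' : e 0 + e 1 = i := by
      simpa [Finsupp.weight_apply, Finsupp.sum_fintype, Fin.sum_univ_two] using hF (MvPolynomial.mem_support_iff.1 he)
    rw [MvPolynomial.eval_monomial, map_mul, map_mul, Finsupp.prod_fintype _ _ (fun j => pow_zero _), Fin.prod_univ_two]
    simp only [Matrix.cons_val_zero, Matrix.cons_val_one, map_mul, map_pow, hx, hy, div_pow, ← he', pow_add, mul_pow]
    field_simp

variable [IsNoetherianRing B] [UniqueFactorizationMonoid B]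

/-- If a prime other than the closed point lies over the closed point, the ideal of the point becomes principal. -/
theorem isPrincipal_map_maximalIdeal (hinj : Function.Injective φ) (hdim : ringKrullDim B ≤ 2)
    (hfrac : ∀ c : B, ∃ p q : A, q ≠ 0 ∧ c * φ q = φ p) (x y : A) (hm : maximalIdeal A = Ideal.span {x, y})
    (P : Ideal B) [P.IsPrime] (hPm : P ≠ maximalIdeal B) (hP : (maximalIdeal A).map φ ≤ P) :
    ((maximalIdeal A).map φ).IsPrincipal := by
  classical
  have hmap : (maximalIdeal A).map φ = Ideal.span {φ x, φ y} := by rw [hm, Ideal.map_span, Set.image_pair]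
  by_cases hx0 : x = 0
  · exact ⟨⟨φ y, by rw [hmap, hx0, map_zero]; simp⟩⟩
  have hφx : φ x ≠ 0 := fun h => hx0 (hinj (h.trans (map_zero φ).symm))
  obtain ⟨a, b, d, hab, hda, hdb⟩ := UniqueFactorizationMonoid.exists_reduced_factors (φ x) hφx (φ y)
  have hspan : ∀ u : B, u ∈ ({φ x, φ y} : Set B) → u ∈ Ideal.span {d} := by
    rintro u (rfl | rfl)
    · exact Ideal.mem_span_singleton'.2 ⟨a, by rw [mul_comm, hda]⟩
    · exact Ideal.mem_span_singleton'.2 ⟨b, by rw [mul_comm, hdb]⟩
  by_cases hau : IsUnit a
  · refine ⟨⟨d, le_antisymm (hmap ▸ Ideal.span_le.2 hspan) ?_⟩⟩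
    rw [Ideal.submodule_span_eq, Ideal.span_singleton_le_iff_mem, hmap]
    obtain ⟨u, hu⟩ := hau.exists_right_inv
    have h := Ideal.mul_mem_right u _ (Ideal.subset_span (Set.mem_insert (φ x) {φ y}))
    rwa [show φ x * u = d by rw [← hda, mul_assoc, hu, mul_one]] at h
  by_cases hbu : IsUnit b
  · refine ⟨⟨d, le_antisymm (hmap ▸ Ideal.span_le.2 hspan) ?_⟩⟩
    rw [Ideal.submodule_span_eq, Ideal.span_singleton_le_iff_mem, hmap]
    obtain ⟨u, hu⟩ := hbu.exists_right_inv
    have h := Ideal.mul_mem_right u _ (Ideal.subset_span (Set.mem_insert_of_mem (φ x) (Set.mem_singleton (φ y))))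
    rwa [show φ y * u = d by rw [← hdb, mul_assoc, hu, mul_one]] at h
  exfalso
  -- the common factor is not a unit
  have hxP : φ x ∈ P := hP (Ideal.mem_map_of_mem _ (hm ▸ Ideal.subset_span (Set.mem_insert x {y})))
  have hyP : φ y ∈ P := hP (Ideal.mem_map_of_mem _ (hm ▸ Ideal.subset_span (Set.mem_insert_of_mem x (Set.mem_singleton y))))
  have hPbot : P ≠ ⊥ := fun h => hφx (by rwa [h, Ideal.mem_bot] at hxP)
  obtain ⟨π, hπP, hπ⟩ := Ideal.IsPrime.exists_mem_prime_of_ne_bot ‹P.IsPrime› hPbot
  have hπi : (Ideal.span {π}).IsPrime := (Ideal.span_singleton_prime hπ.ne_zero).2 hπ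
  have hPπ : P = Ideal.span {π} := by
    by_contra hne
    have h1 : Ideal.span {π} < P := lt_of_le_of_ne ((Ideal.span_singleton_le_iff_mem _).2 hπP) (Ne.symm hne)
    have h0 : (⊥ : Ideal B) < Ideal.span {π} := bot_lt_iff_ne_bot.2 (by simpa using hπ.ne_zero)
    have h2 : P < maximalIdeal B := lt_of_le_of_ne (le_maximalIdeal ‹P.IsPrime›.ne_top) hPm
    have a1 := Ideal.height_strict_mono_of_isPrime h0
    have a2 := Ideal.height_strict_mono_of_isPrime h1
    have a3 := Ideal.height_strict_mono_of_isPrime h2
    rw [← IsLocalRing.maximalIdeal_height_eq_ringKrullDim] at hdim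
    have hm2 : (maximalIdeal B).height ≤ 2 := by exact WithBot.coe_le_coe.1 hdim
    have b1 := Order.add_one_le_of_lt a1
    have b2 := Order.add_one_le_of_lt a2
    have b3 := Order.add_one_le_of_lt a3
    have b4 : (Ideal.span {π}).height + 1 + 1 ≤ 2 := le_trans (le_trans (add_le_add_left b2 1) b3) hm2
    have b5 : (1 : ℕ∞) ≤ (Ideal.span {π}).height := le_trans (le_add_left le_rfl) b1
    have b6 : ((1 : ℕ) + 1 + 1 : ℕ∞) ≤ 2 := le_trans (add_le_add_left (add_le_add_left (by exact_mod_cast b5) 1) 1) b4
    norm_cast at b6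
  rw [hPπ, Ideal.mem_span_singleton] at hxP hyP
  have hdu : ¬ IsUnit d := fun hu => hπ.not_isUnit <| hab
    ((hu.dvd_mul_left).1 (hda ▸ hxP)) ((hu.dvd_mul_left).1 (hdb ▸ hyP))
  -- orders along the parameters
  let K := FractionRing B
  have ha0 : a ≠ 0 := fun h => hφx (by rw [← hda, h, mul_zero])
  have haK : algebraMap B K a ≠ 0 := fun h => ha0 (IsFractionRing.injective B K (by rw [h, map_zero]))
  set z := algebraMap B K b / algebraMap B K a
  have hxK : algebraMap B K (φ x) ≠ 0 := fun h => hφx (IsFractionRing.injective B K (by rw [h, map_zero]))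
  have key : ∀ c ∈ maximalIdeal B, c ≠ 0 → ∃ T E : B[X], T.map (residue B) ≠ 0 ∧
      algebraMap B K c * T.eval₂ (algebraMap B K) z = algebraMap B K (φ x) * E.eval₂ (algebraMap B K) z := by
    intro c hc hc0
    obtain ⟨p, q, hq, hcq⟩ := hfrac c
    have hp : p ≠ 0 := fun h => by
      rw [h, map_zero] at hcq
      exact (mul_eq_zero.1 hcq).elim hc0 fun h' => hq (hinj (h'.trans (map_zero φ).symm))
    obtain ⟨i, Pp, hPp, hPp'⟩ := exists_order_form K φ x y hm hda.symm hdb.symm inferInstance haK hp
    obtain ⟨j, Pq, hPq, hPq'⟩ := exists_order_form K φ x y hm hda.symm hdb.symm inferInstance haK hq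
    have h1 : algebraMap B K c * (algebraMap B K (φ x) ^ j * Pq.eval₂ (algebraMap B K) z) =
        algebraMap B K (φ x) ^ i * Pp.eval₂ (algebraMap B K) z := by
      rw [← hPp', ← hPq', ← map_mul, hcq]
    rcases le_or_gt i j with hij | hij
    · exfalso
      obtain ⟨l, rfl⟩ := Nat.exists_eq_add_of_le hij
      have h2 : (Polynomial.C c * Polynomial.C (φ x) ^ l * Pq).eval₂ (algebraMap B K) z =
          Pp.eval₂ (algebraMap B K) z := by
        refine mul_left_cancel₀ (pow_ne_zero i hxK) ?_
        rw [← h1, eval₂_mul, eval₂_mul, eval₂_C, eval₂_pow, eval₂_C, pow_add]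
        ring
      have h3 := residue_eq_of_eval K hau hbu hab ha0 h2
      rw [Polynomial.map_mul, Polynomial.map_mul, Polynomial.map_C, (residue_eq_zero_iff c).2 hc, map_zero, zero_mul,
        zero_mul] at h3
      exact hPp h3.symm
    · obtain ⟨l, rfl⟩ := Nat.exists_eq_add_of_lt hij
      refine ⟨Pq, Polynomial.C (φ x) ^ l * Pp, hPq, mul_left_cancel₀ (pow_ne_zero j hxK) ?_⟩
      rw [eval₂_mul, eval₂_pow, eval₂_C]
      linear_combination h1
  have hd0 : d ≠ 0 := fun h => hφx (by rw [← hda, h, zero_mul])
  obtain ⟨T, E, hT, hTE⟩ := key d ((mem_maximalIdeal d).2 hdu) hd0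
  obtain ⟨T', E', hT', hTE'⟩ := key a ((mem_maximalIdeal a).2 hau) ha0
  have h2 : (T * T').eval₂ (algebraMap B K) z = (Polynomial.C (φ x) * (E * E')).eval₂ (algebraMap B K) z := by
    refine mul_left_cancel₀ hxK ?_
    rw [eval₂_mul, eval₂_mul, eval₂_C, eval₂_mul]
    have e : algebraMap B K (φ x) = algebraMap B K d * algebraMap B K a := by rw [← map_mul, hda]
    linear_combination (T'.eval₂ (algebraMap B K) z * T.eval₂ (algebraMap B K) z) * e +
      (algebraMap B K a * T'.eval₂ (algebraMap B K) z) * hTE + (algebraMap B K (φ x) * E.eval₂ (algebraMap B K) z) * hTE'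
  have h3 := residue_eq_of_eval K hau hbu hab ha0 h2
  rw [Polynomial.map_mul, Polynomial.map_mul, Polynomial.map_C,
    (residue_eq_zero_iff (φ x)).2 (by rw [← hda]; exact Ideal.mul_mem_left _ _ ((mem_maximalIdeal a).2 hau)), map_zero,
    zero_mul] at h3
  exact (mul_ne_zero hT hT') h3

end Groth.L03.Dominate
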