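import Groth.Agent.L03.BlowPt.TwoGen
import Groth.Agent.L03.BlowPt.Rules
import Groth.Agent.S2422

/-!
# Euler characteristics are invariant under blowing up two-generated ideals
-/

set_option autoImplicit false
set_option linter.style.haveILetI false
set_option backward.isDefEq.respectTransparency false
set_option linter.unusedSectionVars false

universe u

open CategoryTheory CategoryTheory.Limits AlgebraicGeometry TopologicalSpace
open Groth.L11.BlowSmooth
open Groth.L03.Euler Groth.L22.Inter
open Groth.L00.Tensor (tensorIso tensorUnitLeft tensorPowOne)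

noncomputable section

namespace Groth.L03.BlowPt

variable {X X' : Scheme.{u}} [IsIntegral X] [IsIntegral X'] [IsLocallyNoetherian X] [IsLocallyNoetherian X']
  {b : X' ⟶ X} {J : X.IdealSheafData}

/-- A birational proper morphism to a normal scheme has trivial direct image. -/
theorem nonempty_push_structure_of_birational (hX : Pi1.IsNormalScheme X) [IsProper b]
    (he : b (genericPoint X') = genericPoint X) [IsIso (b.stalkMap (genericPoint X'))] :
    Nonempty ((Scheme.Modules.pushforward b).obj (Coh.structureModule X') ≅ Coh.structureModule X) := by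
  have hdom : b.base (genericPoint X') ⤳ genericPoint X := specializes_of_eq he
  have hsurj : Function.Surjective (CohIII.stalkToFunctionField b (genericPoint X) hdom) := by
    intro z
    obtain ⟨w, hw⟩ := (ConcreteCategory.bijective_of_isIso (b.stalkMap (genericPoint X'))).2 z
    have h : Inseparable (b.base (genericPoint X')) (genericPoint X) := Inseparable.of_eq he
    have hiso : IsIso (X.presheaf.stalkSpecializes hdom) :=
      ⟨X.presheaf.stalkSpecializes h.specializes', by simp, by simp⟩
    obtain ⟨v, hv⟩ := (ConcreteCategory.bijective_of_isIso (X.presheaf.stalkSpecializes hdom)).2 w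
    refine ⟨v, ?_⟩
    show b.stalkMap (genericPoint X') (X.presheaf.stalkSpecializes hdom v) = z
    rw [hv, hw]
  have hiso := Groth.Agent.S2422.result hX b hdom fun z _ => hsurj z
  let u : Coh.structureModule X ⟶ (Scheme.Modules.pushforward b).obj (Coh.structureModule X') :=
    SheafOfModules.unitToPushforwardObjUnit b.toRingCatSheafHom
  haveI : IsIso u := Scheme.Modules.Hom.isIso_iff_isIso_app.2 fun U =>
    (ConcreteCategory.isIso_iff_bijective _).2
      (haveI := hiso U; ConcreteCategory.bijective_of_isIso (b.app U))
  exact ⟨(asIso u).symm⟩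

variable (k : Type u) [Field k] [X.Over (Spec (CommRingCat.of k))] [IsProper (X ↘ Spec (CommRingCat.of k))]
  [X'.Over (Spec (CommRingCat.of k))] [IsProper (X' ↘ Spec (CommRingCat.of k))]

/-- Euler characteristics of pullbacks along blow-ups of two-generated ideals of normal schemes. -/
theorem euler_pullback (hbo : b ≫ (X ↘ Spec (CommRingCat.of k)) = X' ↘ Spec (CommRingCat.of k))
    (hX : Pi1.IsNormalScheme X) (hb : BlowUp.IsBlowUp b J) (hJ : J ≠ ⊥)
    (hgen : ∀ y : X, ∃ (U : X.affineOpens) (f : Fin 2 → Γ(X, U.1)), y ∈ U.1 ∧ J.ideal U = sI f)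
    {A : X.Modules} (hA : PicF.IsInvertible A) :
    Curv2.euler k X' ((Scheme.Modules.pullback b).obj A) = Curv2.euler k X A := by
  haveI : X.IsSeparated := ⟨by rw [← terminal.comp_from (X ↘ Spec (CommRingCat.of k))]; infer_instance⟩
  haveI : IsProper b := by
    haveI : IsProper (b ≫ (X ↘ Spec (CommRingCat.of k))) := by rw [hbo]; infer_instance
    exact IsProper.of_comp b (X ↘ Spec (CommRingCat.of k))
  haveI := Groth.L21.RR.isNoetherian_of_proper (X := X') k
  haveI := Groth.L17.PushQCoh.hasInjectiveResolutions X'
  haveI : Coh.IsQCoh (Coh.structureModule X') := Groth.L19.Conormal.isQCoh_structureModule _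
  obtain ⟨_, he, hiso⟩ := Groth.L16.Blow.isIntegral_and_birational hb hJ
  haveI := hiso
  obtain ⟨e⟩ := nonempty_push_structure_of_birational hX he
  have h := twEuler_push_of_acyclic k b hbo (L := ![A]) (fun i => by fin_cases i; exact hA)
    (Coh.structureModule X') (fun q => isZero_Rpush_of_two_gen hb hgen q) ![1]
  unfold twEuler at h
  have e0 : ∀ {Z : Scheme.{u}} (B : Z.Modules), Curv2.tensorPows (Coh.structureModule Z) 1 (fun _ => B) ![1] ≅ B :=
    fun B => tensorUnitLeft _ ≪≫ tensorPowOne B
  have e1 : CohB1.tensorMod ((Scheme.Modules.pushforward b).obj (Coh.structureModule X'))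
      (Curv2.tensorPows (Coh.structureModule X) 1 ![A] ![1]) ≅ A :=
    tensorIso e (e0 A) ≪≫ tensorUnitLeft A
  have e2 : CohB1.tensorMod (Coh.structureModule X')
      (Curv2.tensorPows (Coh.structureModule X') 1 (fun i => (Scheme.Modules.pullback b).obj (![A] i)) ![1]) ≅
      (Scheme.Modules.pullback b).obj A :=
    tensorUnitLeft _ ≪≫ e0 _
  have h' : Curv2.euler k X (CohB1.tensorMod ((Scheme.Modules.pushforward b).obj (Coh.structureModule X'))
      (Curv2.tensorPows (Coh.structureModule X) 1 ![A] ![1])) =
      Curv2.euler k X' (CohB1.tensorMod (Coh.structureModule X')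
      (Curv2.tensorPows (Coh.structureModule X') 1 (fun i => (Scheme.Modules.pullback b).obj (![A] i)) ![1])) := by
    exact_mod_cast h
  rw [euler_iso e1, euler_iso e2] at h'
  exact h'.symm

/-- The Euler characteristic of the structure sheaf is unchanged. -/
theorem euler_structure (hbo : b ≫ (X ↘ Spec (CommRingCat.of k)) = X' ↘ Spec (CommRingCat.of k))
    (hX : Pi1.IsNormalScheme X) (hb : BlowUp.IsBlowUp b J) (hJ : J ≠ ⊥)
    (hgen : ∀ y : X, ∃ (U : X.affineOpens) (f : Fin 2 → Γ(X, U.1)), y ∈ U.1 ∧ J.ideal U = sI f) :
    Curv2.euler k X' (Coh.structureModule X') = Curv2.euler k X (Coh.structureModule X) := by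
  rw [← euler_pullback k hbo hX hb hJ hgen (Groth.L18.Ample.isInvertible_structureModule X)]
  exact (euler_iso (Groth.L29.LocFree.pullbackUnitIso b)).symm

end Groth.L03.BlowPt
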