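import Groth.Agent.L19.IdealInvertible
import Groth.Agent.L18.GenLocus
import Groth.Agent.L22.Ideal

/-!
# Frames of ideal modules given by generators, and pullbacks of their sections
-/

set_option autoImplicit false
set_option linter.style.haveILetI false
set_option backward.isDefEq.respectTransparency false

universe u

open CategoryTheory AlgebraicGeometry TopologicalSpace

noncomputable section

namespace Groth.L03.BlowPt

open Groth.L18.Frame (rs ro rs_rs rs_self rs_smul ro_ro ro_self ro_mul IsFrame pull pull_rs pull_smul)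
open Groth.Agent.L19.IdealInvertible (io io_rs io_smul io_inj)

variable {X : Scheme.{u}} (I : X.IdealSheafData)

/-- A nonzerodivisor generating the ideal on an affine open gives a frame of the ideal module. -/
theorem isFrame_of_span (hI : PicF.IsInvertible (ClSub.idealMod I)) {W : X.Opens} (hW : IsAffineOpen W)
    (g : Γ(X, W)) (hg : g ∈ nonZeroDivisors Γ(X, W)) (hgI : I.ideal ⟨W, hW⟩ = Ideal.span {g})
    (m : Γ(ClSub.idealMod I, W)) (hm : (io I W m : Γ(X, W)) = g) : IsFrame (ClSub.idealMod I) W m := by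
  have hloc : ∀ y : W, ∃ (B : X.Opens) (hBW : B ≤ W), y.1 ∈ B ∧ IsFrame (ClSub.idealMod I) B (rs _ hBW m) := by
    rintro ⟨y, hy⟩
    obtain ⟨O, e, hyO, he⟩ := Groth.L18.Frame.exists_frame hI y
    obtain ⟨B, hB, hyB, hBle⟩ := exists_isAffineOpen_mem_and_subset (x := y) (U := O ⊓ W) ⟨hyO, hy⟩
    have hBO : B ≤ O := fun z hz => (hBle hz).1
    have hBW : B ≤ W := fun z hz => (hBle hz).2
    have heB := he.mono hBO
    set e' := rs (ClSub.idealMod I) hBO e
    set g' : Γ(X, B) := ro hBW g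
    have hg' : g' ∈ nonZeroDivisors Γ(X, B) := Groth.L22.Ideals.map_mem_nonZeroDivisors (U := ⟨W, hW⟩) (V := ⟨B, hB⟩) hBW hg
    have hI' : I.ideal ⟨B, hB⟩ = Ideal.span {g'} := by
      rw [← Scheme.IdealSheafData.map_ideal I (U := ⟨B, hB⟩) (V := ⟨W, hW⟩) hBW, hgI, Ideal.map_span,
        Set.image_singleton]
      rfl
    have hm' : (io I B (rs _ hBW m) : Γ(X, B)) = g' := by rw [io_rs, hm]
    obtain ⟨u, hu⟩ := heB.exists_coeff le_rfl (rs _ hBW m)
    rw [rs_self] at hu
    have h1 : g' = u * io I B e' := by rw [← hm', ← hu, io_smul]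
    have h2 : (io I B e' : Γ(X, B)) ∈ I.ideal ⟨B, hB⟩ := (Groth.L18.IdealModule.mem_ideal_iff I hB _).2 ⟨e', rfl⟩
    rw [hI', Ideal.mem_span_singleton'] at h2
    obtain ⟨v, hv⟩ := h2
    have hu1 : IsUnit u := by
      refine IsUnit.of_mul_eq_one v ((mul_cancel_right_mem_nonZeroDivisors hg').1 ?_)
      rw [one_mul, mul_assoc, hv, ← h1]
    exact ⟨B, hBW, hyB, hu ▸ heB.smul_unit hu1⟩
  choose B hBW hyB hB using hloc
  exact IsFrame.of_cover B hBW (fun y hy => Opens.mem_iSup.2 ⟨⟨y, hy⟩, hyB _⟩) hB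

/-- Coefficients of sections of ideal modules are quotients. -/
theorem eq_smul_of_io {W : X.Opens} (c : Γ(X, W)) (m μ : Γ(ClSub.idealMod I, W))
    (h : (io I W m : Γ(X, W)) = c * io I W μ) : m = c • μ :=
  io_inj I W (by rw [h, io_smul])

end Groth.L03.BlowPt
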