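import Groth.Agent.L03.BlowPt.EulerInv
import Groth.Agent.L03.SurfAdj.Tools
import Groth.Agent.L03.RefRegSch
import Groth.Agent.L03.SurfNum.NegDef
import Groth.Agent.L22.Reg.Chi
import Groth.Agent.L18.ProjSpaceUP
import Groth.Agent.L16.ProjSpace.Dim
import Groth.Agent.L22.Reg.Pn
import Groth.Agent.L22.Adjunction.DetLine

/-!
# Blow-ups of the plane at finitely many points
-/

set_option autoImplicit false
set_option linter.style.haveILetI false
set_option backward.isDefEq.respectTransparency false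
set_option linter.unusedSectionVars false

universe u

open CategoryTheory CategoryTheory.Limits AlgebraicGeometry TopologicalSpace
open Groth.L11.BlowSmooth
open Groth.L22.Inter Groth.L22.Big Groth.L03.Euler Groth.L03.SurfNum
open Groth.L18.Frame (rs IsFrame)
open Groth.L00.Tensor (tensorIso tensorComm tensorUnitLeft tensorUnitRight)

noncomputable section

namespace Groth.L03.BlowPt

theorem isClosed_diff_singleton {Y : Type*} [TopologicalSpace Y] {r : ℕ} (P : Fin r → Y)
    (hPc : ∀ i, IsClosed ({P i} : Set Y)) (i : Fin r) : IsClosed (Set.range P \ {P i}) := by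
  have h : Set.range P \ {P i} = ⋃ j ∈ {j | P j ≠ P i}, ({P j} : Set Y) := by
    ext z
    simp only [Set.mem_sdiff, Set.mem_range, Set.mem_singleton_iff, Set.mem_iUnion, Set.mem_setOf_eq, exists_prop]
    constructor
    · rintro ⟨⟨j, rfl⟩, hj⟩
      exact ⟨j, hj, rfl⟩
    · rintro ⟨j, hj, rfl⟩
      exact ⟨⟨j, rfl⟩, hj⟩
  rw [h]
  exact Set.Finite.isClosed_biUnion (Set.toFinite _) fun j _ => hPc j

/-- The ideal of finitely many closed points of a regular surface is locally two-generated. -/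
theorem exists_two_gen_points {Y : Scheme.{u}} [IsLocallyNoetherian Y] {r : ℕ} (P : Fin r → Y)
    (hPc : ∀ i, IsClosed ({P i} : Set Y)) (hZ : IsClosed (Set.range P))
    (hreg : ∀ i, IsRegularLocalRing (Y.presheaf.stalk (P i)))
    (hd : ∀ i, ringKrullDim (Y.presheaf.stalk (P i)) = (2 : ℕ)) (y : Y) :
    ∃ (U : Y.affineOpens) (f : Fin 2 → Γ(Y, U.1)), y ∈ U.1 ∧
      (Scheme.IdealSheafData.vanishingIdeal ⟨Set.range P, hZ⟩).ideal U = sI f := by
  classical
  set I := Scheme.IdealSheafData.vanishingIdeal ⟨Set.range P, hZ⟩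
  by_cases hy : y ∈ Set.range P
  · obtain ⟨i, rfl⟩ := hy
    obtain ⟨U, f, hxU, -, hU⟩ := exists_pair (hPc i) (hreg i) (hd i)
    let O : Y.Opens := ⟨(Set.range P \ {P i})ᶜ,
      (isClosed_diff_singleton P hPc i).isOpen_compl⟩
    obtain ⟨V, hV, hxV, hVle⟩ := exists_isAffineOpen_mem_and_subset (x := P i) (U := U.1 ⊓ O)
      ⟨hxU, fun h => h.2 rfl⟩
    have hle : V ≤ U.1 := fun z hz => (hVle hz).1
    refine ⟨⟨V, hV⟩, fun l => Y.presheaf.map (homOfLE hle).op (f l), hxV, ?_⟩
    have h1 : I.ideal ⟨V, hV⟩ = (ptI (hPc i)).ideal ⟨V, hV⟩ := by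
      rw [Scheme.IdealSheafData.vanishingIdeal_ideal, Scheme.IdealSheafData.vanishingIdeal_ideal]
      congr 1
      ext z
      have hzV : hV.fromSpec z ∈ V := hV.range_fromSpec.le ⟨z, rfl⟩
      constructor
      · intro hz
        by_contra hne
        exact (hVle hzV).2 ⟨hz, hne⟩
      · intro hz
        exact ⟨i, (Set.mem_singleton_iff.1 hz).symm⟩
    rw [h1, ← (ptI (hPc i)).map_ideal (U := ⟨V, hV⟩) (V := U) hle, hU, Ideal.map_span, ← Set.range_comp]
    rfl
  · obtain ⟨V, hV, hxV, hVle⟩ := exists_isAffineOpen_mem_and_subset (x := y)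
      (U := ⟨(Set.range P)ᶜ, hZ.isOpen_compl⟩) hy
    refine ⟨⟨V, hV⟩, ![1, 0], hxV, ?_⟩
    have h1 : I.ideal ⟨V, hV⟩ = ⊤ := Groth.L22.CartierDecomp.ideal_eq_top fun z hz hzI => by
      have : z ∈ closure (Set.range P) := by
        simpa [I] using hzI
      exact hVle hz (hZ.closure_eq ▸ this)
    rw [h1, eq_comm, Ideal.eq_top_iff_one]
    exact Ideal.subset_span ⟨0, rfl⟩

variable (k : Type u) [Field k]


theorem exists_section_plane (y : (CohB1.ProjSpace 2 k)) :
    ∃ s : Coh.structureModule (CohB1.ProjSpace 2 k) ⟶ (Twist.twistProjSpace 2 k 1), y ∈ CohB1.genLocus (Twist.twistProjSpace 2 k 1) s := by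
  obtain ⟨i, hi⟩ := Opens.mem_iSup.1 ((Groth.L18.PS.iSup_chart (n := 2) (R := k)).ge
    (trivial : y ∈ (⊤ : (Groth.L18.PUP.P 2 k).Opens)))
  refine ⟨Groth.L16.homOfSection (Twist.twistProjSpace 2 k 1) (Groth.L18.PUP.T i), Groth.L18.GenLoc.le_genLocus (U := Groth.L18.PUP.D i) _ ?_ hi⟩
  rw [Groth.L18.GenLoc.secOf_homOfSection]
  exact Groth.L18.PUP.T_frame i

variable {X : Scheme.{u}} [X.Over (Spec (CommRingCat.of k))] [IsIntegral X]
  [IsProper (X ↘ (Spec (CommRingCat.of k)))] {σ : X ⟶ (CohB1.ProjSpace 2 k)}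

/-- The pullback of a line has nonnegative degree on every effective divisor. -/
theorem ii_line_nonneg (hdim : topologicalKrullDim X ≤ (2 : ℕ)) {L : X.Modules} (hL : PicF.IsInvertible L)
    (h0 : Nontrivial (Coh.HH X L 0)) : 0 ≤ ii k L ((Scheme.Modules.pullback σ).obj (Twist.twistProjSpace 2 k 1)) := by
  haveI := Groth.L21.RR.isNoetherian_of_proper (X := X) k
  haveI := h0
  obtain ⟨s, hs⟩ := Groth.L21.RR.exists_hom_ne_zero (L := L)
  have hO1 : PicF.IsInvertible (Twist.twistProjSpace 2 k 1) := Groth.L16.ProjTwist.isInvertible_twistProjSpace 2 k 1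
  have hH := Groth.L18.Ample.isInvertible_pullback σ hO1
  obtain ⟨T, hT1, hT⟩ := ii_eq_sum_len k hdim hL s (Groth.L22.CurveAmple.genericPoint_mem_genLocus hL hs)
  rw [hT T subset_rfl hT1 _ hH]
  refine Finset.sum_nonneg fun y hy => mul_nonneg (Nat.cast_nonneg _) ?_
  obtain ⟨t, ht⟩ := exists_section_plane k (σ y)
  let t' : Coh.structureModule X ⟶ (Scheme.Modules.pullback σ).obj (Twist.twistProjSpace 2 k 1) :=
    (Groth.L29.LocFree.pullbackUnitIso σ).inv ≫ (Scheme.Modules.pullback σ).map t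
  refine altT_pt_nonneg k hdim hH t' ?_ (hT1 y hy)
  show _ ∈ CohB1.genLocus _ ((Groth.L29.LocFree.pullbackUnitIso σ).symm.hom ≫ (Scheme.Modules.pullback σ).map t)
  rw [Groth.L18.Ample.genLocus_iso_pullback (u := σ) hO1 t (Groth.L29.LocFree.pullbackUnitIso σ).symm]
  exact ht

variable [IsAlgClosed k] [Smooth (X ↘ (Spec (CommRingCat.of k)))]
  {r : ℕ} {P : Fin r → (CohB1.ProjSpace 2 k)} (hPc : ∀ i, IsClosed ({P i} : Set (CohB1.ProjSpace 2 k))) {hZ : IsClosed (Set.range P)}
  (hσk : σ ≫ CohB1.ProjSpace.toSpec 2 k = X ↘ (Spec (CommRingCat.of k)))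
  (hσ : BlowUp.IsBlowUp σ (Scheme.IdealSheafData.vanishingIdeal ⟨Set.range P, hZ⟩))
  (hdim : topologicalKrullDim X = 2)

include hPc hσk hσ in
/-- Euler characteristics of multiples of the pullback of a line. -/
theorem euler_line (t : ℕ) :
    Curv2.euler k X ((Scheme.Modules.pullback σ).obj (Twist.twistProjSpace 2 k (t : ℤ))) = (t + 2).choose 2 := by
  letI : ((CohB1.ProjSpace 2 k)).Over (Spec (CommRingCat.of k)) := ⟨CohB1.ProjSpace.toSpec 2 k⟩
  haveI : IsProper ((CohB1.ProjSpace 2 k) ↘ Spec (CommRingCat.of k)) := Groth.L16.ProjSpace.isProper_toSpec 2 k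
  haveI : Smooth ((CohB1.ProjSpace 2 k) ↘ Spec (CommRingCat.of k)) := Groth.L16.ProjSpace.smooth_toSpec 2 k
  haveI := Groth.L21.RR.isNoetherian_of_proper (X := X) k
  have hd : topologicalKrullDim (CohB1.ProjSpace 2 k) = (2 : ℕ) := Groth.L16.ProjSpace.topologicalKrullDim_eq_of_field 2 k
  have hreg := Groth.L03.SurfAdj.reg_of_smooth k (X := (CohB1.ProjSpace 2 k))
  have hne : Scheme.IdealSheafData.vanishingIdeal (⟨Set.range P, hZ⟩ : Closeds (CohB1.ProjSpace 2 k)) ≠ ⊥ := by
    intro h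
    have h1 : (Set.range P : Set (CohB1.ProjSpace 2 k)) = Set.univ := by
      have := congrArg (fun I : ((CohB1.ProjSpace 2 k)).IdealSheafData => (I.support : Set (CohB1.ProjSpace 2 k))) h
      simpa [hZ.closure_eq] using this
    haveI : Finite (CohB1.ProjSpace 2 k) := Set.finite_univ_iff.1 (h1 ▸ Set.finite_range P)
    have hdisc : DiscreteTopology (CohB1.ProjSpace 2 k) := discreteTopology_iff_isOpen_singleton.2 fun z => by
      haveI : T1Space (CohB1.ProjSpace 2 k) := ⟨fun w => by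
        obtain ⟨i, rfl⟩ := h1.ge (Set.mem_univ w)
        exact hPc i⟩
      exact isOpen_discrete _
    have h2 := topologicalKrullDim_zero_of_discreteTopology (CohB1.ProjSpace 2 k)
    rw [hd] at h2
    norm_num at h2
  have h := euler_pullback k (b := σ) hσk (Groth.L03.RefRegSch.isNormalScheme hreg) hσ hne
    (exists_two_gen_points P hPc hZ (fun i => hreg _) fun i => ringKrullDim_stalk_closed k hd (hPc i))
    (A := Twist.twistProjSpace 2 k (t : ℤ)) (Groth.L16.ProjTwist.isInvertible_twistProjSpace 2 k t)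
  rw [h]
  refine (Groth.L22.Reg.euler_O (k := k) (n := 2) (by norm_num) t).trans ?_
  rw [show ((t : ℤ) + ((2 : ℕ) : ℤ)) = ((t + 2 : ℕ) : ℤ) by push_cast; ring, Ring.choose_natCast]

include hPc hσk hσ hdim in
/-- The basic numerical invariants. -/
theorem plane_invariants {W : X.Modules} (hW : ExtPow.IsExtPow 2 (Omega.sheaf (X ↘ (Spec (CommRingCat.of k)))) W) :
    Curv2.euler k X (Coh.structureModule X) = 1 ∧
      ii k W ((Scheme.Modules.pullback σ).obj (Twist.twistProjSpace 2 k 1)) = -3 := by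
  haveI := Groth.L21.RR.isNoetherian_of_proper (X := X) k
  have hreg := Groth.L03.SurfAdj.reg_of_smooth k (X := X)
  obtain ⟨hWi, -, -, hRR⟩ := Groth.L03.SurfAdj.canonical k hdim hreg hW
  set H := (Scheme.Modules.pullback σ).obj (Twist.twistProjSpace 2 k 1)
  have hH : PicF.IsInvertible H := Groth.L18.Ample.isInvertible_pullback σ (Groth.L16.ProjTwist.isInvertible_twistProjSpace 2 k 1)
  have h0 : Curv2.euler k X (Coh.structureModule X) = 1 := by
    obtain ⟨e⟩ := Groth.L16.ProjTwist.nonempty_twist_zero_iso (CohB1.polyGrading 2 k)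
    have e' : (Scheme.Modules.pullback σ).obj (Twist.twistProjSpace 2 k ((0 : ℕ) : ℤ)) ≅ Coh.structureModule X :=
      (Scheme.Modules.pullback σ).mapIso e ≪≫ Groth.L29.LocFree.pullbackUnitIso σ
    rw [← euler_iso e', euler_line k hPc hσk hσ 0]
    rfl
  have h1 : Curv2.euler k X H = 3 := euler_line k hPc hσk hσ 1
  obtain ⟨a⟩ := Groth.L22.Reg.nonempty_O_add (n := 2) (R := k) (show (1 : ℤ) + 1 = ((2 : ℕ) : ℤ) by norm_num)
  have h2 : Curv2.euler k X (CohB1.tensorMod H H) = 6 := by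
    rw [euler_iso (Groth.L29.DC.PullTensor.pullTensor σ (Twist.twistProjSpace 2 k 1) (Twist.twistProjSpace 2 k 1) ≪≫ (Scheme.Modules.pullback σ).mapIso a),
      euler_line k hPc hσk hσ 2]
    rfl
  have r1 := hRR H hH
  have r2 := hRR _ (Groth.L18.GenLoc.isInvertible_tensor hH hH)
  have hd : topologicalKrullDim X ≤ (2 : ℕ) := hdim.le.trans Nat.cast_ofNat.symm.le
  rw [ii_tensor k hd hH hH (Groth.L18.GenLoc.isInvertible_tensor hH hH), ii_tensor_right k hd hH hH hH,
    ii_tensor k hd hH hH hWi, h0, h2] at r2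
  rw [h0, h1] at r1
  refine ⟨h0, ?_⟩
  rw [ii_comm]
  push_cast at r1 r2
  linarith

include hPc hσk hσ hdim in
/-- Sufficiently positive degree on lines kills the top cohomology. -/
theorem h2_zero {L : X.Modules} (hL : PicF.IsInvertible L)
    (hLH : -3 < ii k L ((Scheme.Modules.pullback σ).obj (Twist.twistProjSpace 2 k 1))) : Subsingleton (Coh.HH X L 2) := by
  haveI := Groth.L21.RR.isNoetherian_of_proper (X := X) k
  have hd2 : topologicalKrullDim X = (2 : ℕ) := hdim.trans Nat.cast_ofNat.symm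
  haveI : SmoothOfRelativeDimension 2 (X ↘ Spec (CommRingCat.of k)) :=
    Groth.L16.SmoothSection.smoothOfRelativeDimension_dim _ 2 hd2
  obtain ⟨W, hW, -⟩ := Groth.L22.Adjunction.exists_isExtPow
    (Groth.L02.Canon.isFinLocFreeOfRank_omega (f := X ↘ Spec (CommRingCat.of k)) 2)
  obtain ⟨-, hWH⟩ := plane_invariants k hPc hσk hσ hdim hW
  obtain ⟨hWi, hflip, -, -⟩ := Groth.L03.SurfAdj.canonical k hdim (Groth.L03.SurfAdj.reg_of_smooth k (X := X)) hW
  obtain ⟨L', hL', ⟨e⟩⟩ := Groth.L08.Cube.exists_inverse hL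
  have hT := Groth.L18.GenLoc.isInvertible_tensor hWi hL'
  haveI := Groth.L16.ProperFinite.finite_HH k (Groth.L18.Ample.isCoh_of_isInvertible hL) 2
  have h0 : Subsingleton (Coh.HH X (CohB1.tensorMod W L') 0) := by
    refine not_nontrivial_iff_subsingleton.1 fun hn => ?_
    have h := ii_line_nonneg k (σ := σ) hd2.le hT hn
    have hH : PicF.IsInvertible ((Scheme.Modules.pullback σ).obj (Twist.twistProjSpace 2 k 1)) :=
      Groth.L18.Ample.isInvertible_pullback σ (Groth.L16.ProjTwist.isInvertible_twistProjSpace 2 k 1)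
    rw [ii_tensor k hd2.le hWi hL' hH, hWH, Groth.L03.SurfNum.Gram.ii_inverse k hd2.le hL hL' hH e] at h
    linarith
  rw [← Module.finrank_zero_iff (R := k), ← hflip L L' hL ⟨e⟩ 0 (by omega)]
  exact Module.finrank_zero_of_subsingleton

end Groth.L03.BlowPt
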