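import Groth.Agent.L03.BlowPt.Strict
import Groth.Agent.L03.BlowPt.EulerInv
import Groth.Agent.L03.BlowPt.Genus
import Groth.Agent.L03.BlowPt.OffExc
import Groth.Agent.L03.BlowPt.PlaneBlow
import Groth.Agent.L03.SurfAdj.Tools

/-!
# The genus of a strict transform
-/

set_option autoImplicit false
set_option linter.style.haveILetI false
set_option backward.isDefEq.respectTransparency false
set_option linter.unusedSectionVars false

universe u

open CategoryTheory CategoryTheory.Limits AlgebraicGeometry TopologicalSpace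
open Groth.L22.Inter Groth.L22.Nef Groth.L22.Big Groth.L03.Euler Groth.L03.SurfNum
open Groth.L00.Tensor (tensorIso tensorUnitLeft)

noncomputable section

namespace Groth.L03.BlowPt

variable (k : Type u) [Field k] [IsAlgClosed k]

/-- The Euler characteristic of the structure module of an embedded integral curve. -/
theorem euler_ker {S : Scheme.{u}} [S.Over (Spec (CommRingCat.of k))] [IsProper (S ↘ Spec (CommRingCat.of k))]
    [IsIntegral S] {C : Scheme.{u}} [C.Over (Spec (CommRingCat.of k))] [IsIntegral C]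
    (hC : topologicalKrullDim C = 1) (j : C ⟶ S) [IsClosedImmersion j]
    (hj : j ≫ (S ↘ Spec (CommRingCat.of k)) = C ↘ Spec (CommRingCat.of k)) :
    ∃ _ : IsIntegral j.ker.subscheme, topologicalKrullDim (j.ker.support : Set S) = 1 ∧
      j.ker.subschemeι (genericPoint j.ker.subscheme) = j (genericPoint C) ∧
      Curv2.euler k S (ClSub.quotMod j.ker) = 1 - (Curv2.genus k C : ℤ) := by
  haveI : Nonempty j.ker.subscheme := ⟨j.toImage (genericPoint C)⟩
  haveI hint : IsIntegral j.ker.subscheme := isIntegral_of_isOpenImmersion (inv j.toImage)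
  have hr : Set.range j.ker.subschemeι = Set.range j := by
    rw [j.ker.range_subschemeι]
    exact (Scheme.Hom.support_ker j).trans (j.isClosedEmbedding.isClosed_range.closure_eq)
  have hsupp : (j.ker.support : Set S) = closure {j (genericPoint C)} := by
    rw [← j.ker.range_subschemeι, hr, Groth.L22.Nef.range_eq_closure]
  have hd : topologicalKrullDim (j.ker.support : Set S) = 1 := by
    rw [hsupp, dim_closure_image j, hC]
  refine ⟨hint, hd, IsGenericPoint.eq (isGenericPoint_ι j.ker) hsupp.symm, ?_⟩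
  letI : j.ker.subscheme.Over (Spec (CommRingCat.of k)) := ⟨j.ker.subschemeι ≫ (S ↘ Spec (CommRingCat.of k))⟩
  haveI : IsProper (C ↘ Spec (CommRingCat.of k)) := by
    rw [← hj]; infer_instance
  haveI : IsProper (j.ker.subscheme ↘ Spec (CommRingCat.of k)) :=
    inferInstanceAs (IsProper (j.ker.subschemeι ≫ (S ↘ Spec (CommRingCat.of k))))
  haveI : C.IsSeparated :=
    ⟨by rw [← terminal.comp_from (C ↘ Spec (CommRingCat.of k))]; infer_instance⟩
  haveI : j.ker.subscheme.IsSeparated :=
    ⟨by rw [← terminal.comp_from (j.ker.subscheme ↘ Spec (CommRingCat.of k))]; infer_instance⟩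
  haveI := Groth.L21.RR.isNoetherian_of_proper (X := C) k
  have he : j.toImage ≫ (j.ker.subscheme ↘ Spec (CommRingCat.of k)) = C ↘ Spec (CommRingCat.of k) := by
    show j.toImage ≫ j.ker.subschemeι ≫ (S ↘ Spec (CommRingCat.of k)) = _
    rw [← Category.assoc]
    erw [Scheme.Hom.toImage_imageι]
    exact hj
  rw [Groth.L03.SurfAdj.euler_subscheme k j.ker]
  have h := euler_push (k := k) j.toImage (Coh.structureModule C)
    (Groth.L19.Conormal.isQCoh_structureModule _) he
  obtain ⟨i⟩ := nonempty_push_structure j.toImage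
  rw [← euler_iso i]
  refine h.trans ?_
  rw [Groth.L21.RR.euler_eq k hC.le, Groth.L22.CurveDeg.h0_structure_eq_one k]
  rfl

variable {X X' : Scheme.{u}} {x : X} {hx : IsClosed ({x} : Set X)} {b : X' ⟶ X}
  [X.Over (Spec (CommRingCat.of k))] [IsProper (X ↘ Spec (CommRingCat.of k))]
  [X'.Over (Spec (CommRingCat.of k))] [IsProper (X' ↘ Spec (CommRingCat.of k))] [IsIntegral X] [IsIntegral X']

/-- Blowing up a point of multiplicity `m` raises the Euler characteristic of a curve by `m(m-1)/2`. -/
theorem euler_strict (hbo : b ≫ (X ↘ Spec (CommRingCat.of k)) = X' ↘ Spec (CommRingCat.of k))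
    (hdim : topologicalKrullDim X = 2) (hreg : ∀ y : X, IsRegularLocalRing (X.presheaf.stalk y))
    (hb : BlowUp.IsBlowUp b (ptI hx))
    {C : X.IdealSheafData} [IsIntegral C.subscheme] (hC : topologicalKrullDim (C.support : Set X) = 1)
    {C' : X'.IdealSheafData} [IsIntegral C'.subscheme] (hC' : topologicalKrullDim (C'.support : Set X') = 1)
    (hgen : b (C'.subschemeι (genericPoint C'.subscheme)) = C.subschemeι (genericPoint C.subscheme))
    (m : ℕ) (hm : C ≤ ptI hx ^ m) (hm' : ¬ C ≤ ptI hx ^ (m + 1)) :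
    2 * (Curv2.euler k X' (ClSub.quotMod C') : ℚ) =
      2 * (Curv2.euler k X (ClSub.quotMod C) : ℚ) + m * ((m : ℚ) - 1) := by
  have hd : topologicalKrullDim X = (2 : ℕ) := hdim.trans Nat.cast_ofNat.symm
  haveI := Groth.L21.RR.isNoetherian_of_proper (X := X) k
  haveI := Groth.L21.RR.isNoetherian_of_proper (X := X') k
  obtain ⟨D⟩ := exists_echart hb (hreg x) (ringKrullDim_stalk_closed k hd hx)
  have hreg' := regular_up D hb hreg
  have hd' := dim_up k hd hb
  have hfac := comap_eq_strict k hdim hreg hb hC hC' hgen m hm hm'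
  have hCi := isInvertible_idealMod k hd hreg C hC
  have hC'i := isInvertible_idealMod k hd' hreg' C' hC'
  have hCe := (Groth.Agent.L19.IdealInvertible.isEffCartier_iff C).1 hCi
  have hC'e := (Groth.Agent.L19.IdealInvertible.isEffCartier_iff C').1 hC'i
  obtain ⟨hI, -, -, hII⟩ := rules k hbo hd (hreg x) hd' hb
  rw [ptDeg_eq_one] at hII
  push_cast at hII
  have hE : BlowUp.IsEffCartierIdeal (exc hx b) := hb.1
  have hJ : BlowUp.IsEffCartierIdeal (C.comap b) := hfac ▸ Groth.L22.Ideals.isEffCartier_mul hC'e (isEffCartier_pow hE m)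
  have hinv : ∀ {Z : X'.IdealSheafData}, BlowUp.IsEffCartierIdeal Z → PicF.IsInvertible (ClSub.idealMod Z) :=
    fun h => (Groth.Agent.L19.IdealInvertible.isEffCartier_iff _).2 h
  -- Euler characteristics of products
  have hmul : ∀ {I J : X'.IdealSheafData}, BlowUp.IsEffCartierIdeal I → BlowUp.IsEffCartierIdeal J →
      (Curv2.euler k X' (ClSub.quotMod (I * J)) : ℚ) = Curv2.euler k X' (ClSub.quotMod I) +
        Curv2.euler k X' (ClSub.quotMod J) - ii k (ClSub.idealMod I) (ClSub.idealMod J) := by
    intro I J hI hJ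
    obtain ⟨e⟩ := nonempty_idealMod_mul hI hJ
    have a := Groth.L03.SurfAdj.euler_quotMod k I (hinv hI)
    have c := Groth.L03.SurfAdj.euler_quotMod k J (hinv hJ)
    have d := Groth.L03.SurfAdj.euler_quotMod k (I * J) (hinv (Groth.L22.Ideals.isEffCartier_mul hI hJ))
    rw [euler_iso e] at d
    have f : ii k (ClSub.idealMod I) (ClSub.idealMod J) =
        (Curv2.euler k X' (CohB1.tensorMod (ClSub.idealMod I) (ClSub.idealMod J)) : ℚ) -
          Curv2.euler k X' (ClSub.idealMod I) - Curv2.euler k X' (ClSub.idealMod J) +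
          Curv2.euler k X' (Coh.structureModule X') := by
      rw [ii_eq_sub, altT_one, altT_one, euler_iso (tensorUnitLeft (ClSub.idealMod J))]
      push_cast
      ring
    rw [f]
    have a' : (Curv2.euler k X' (Coh.structureModule X') : ℚ) = (Curv2.euler k X' (ClSub.idealMod I) : ℚ) +
        Curv2.euler k X' (ClSub.quotMod I) := by exact_mod_cast Groth.L03.SurfAdj.euler_quotMod k I (hinv hI)
    have c' : (Curv2.euler k X' (Coh.structureModule X') : ℚ) = (Curv2.euler k X' (ClSub.idealMod J) : ℚ) +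
        Curv2.euler k X' (ClSub.quotMod J) := by exact_mod_cast c
    have d' : (Curv2.euler k X' (Coh.structureModule X') : ℚ) =
        (Curv2.euler k X' (CohB1.tensorMod (ClSub.idealMod I) (ClSub.idealMod J)) : ℚ) +
          Curv2.euler k X' (ClSub.quotMod (I * J)) := by exact_mod_cast d
    push_cast
    linarith
  have hEj : ∀ j : ℕ, 2 * (Curv2.euler k X' (ClSub.quotMod (exc hx b ^ j)) : ℚ) = j * ((j : ℚ) + 1) := by
    intro j
    induction j with
    | zero =>
      obtain ⟨e⟩ := nonempty_idealMod_one (X := X')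
      have h := Groth.L03.SurfAdj.euler_quotMod k (1 : X'.IdealSheafData) (hinv Groth.L22.Ideals.isEffCartier_top)
      rw [euler_iso e] at h
      have : Curv2.euler k X' (ClSub.quotMod (1 : X'.IdealSheafData)) = 0 := by omega
      rw [pow_zero, this]
      simp
    | succ j ih =>
      rw [pow_succ, hmul (isEffCartier_pow hE j) hE, ii_idealMod_pow k hd'.le hE hI j, hII, D.euler_exc k hbo hI]
      push_cast
      linarith
  have hstr := (strict_num k hbo hdim hreg (hd'.trans Nat.cast_ofNat) hb hCe hC'e m hfac).1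
  have hCE : ii k (ClSub.idealMod C') (ClSub.idealMod (exc hx b ^ m)) = (m : ℚ) ^ 2 := by
    rw [ii_comm, ii_idealMod_pow k hd'.le hE hC'i m, ii_comm, hstr]
    ring
  have h1 := hmul hC'e (isEffCartier_pow hE m)
  rw [← hfac, hCE] at h1
  have hη : b (genericPoint X') ∉ C.support := by
    obtain ⟨_, he, -⟩ := Groth.L16.Blow.isIntegral_and_birational hb (ptI_ne_bot (hx := hx) hd)
    rw [he]
    exact Groth.L03.SurfAmple.genericPoint_mem_of_isEffCartier hCe
  obtain ⟨-, ⟨e⟩⟩ := nonempty_pullback_idealMod b hCe hη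
  have hnorm := Groth.L03.RefRegSch.isNormalScheme hreg
  have hgen2 : ∀ y : X, ∃ (U : X.affineOpens) (f : Fin 2 → Γ(X, U.1)), y ∈ U.1 ∧
      (ptI hx).ideal U = Groth.L11.BlowSmooth.sI f := fun y => by
    by_cases hy : y = x
    · exact ⟨D.U, D.f, hy ▸ D.mem, D.ideal_eq⟩
    · obtain ⟨_, ⟨V, hV, rfl⟩, hyV, hle⟩ := X.isBasis_affineOpens.exists_subset_of_mem_open
        (show y ∈ ({x} : Set X)ᶜ from hy) hx.isOpen_compl
      refine ⟨⟨V, hV⟩, ![1, 0], hyV, ?_⟩
      have h1 := ptI_pow_ideal_eq_top (hx := hx) 1 ⟨V, hV⟩ (fun h => hle h rfl)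
      rw [pow_one] at h1
      rw [h1, eq_comm, Ideal.eq_top_iff_one]
      exact Ideal.subset_span ⟨0, rfl⟩
  have hne := ptI_ne_bot (hx := hx) hd
  have p1 := euler_pullback k hbo hnorm hb hne hgen2 hCi
  rw [euler_iso e] at p1
  have p2 := euler_structure k hbo hnorm hb hne hgen2
  have q1 := Groth.L03.SurfAdj.euler_quotMod k C hCi
  have q2 := Groth.L03.SurfAdj.euler_quotMod k (C.comap b) (hinv hJ)
  have key : Curv2.euler k X' (ClSub.quotMod (C.comap b)) = Curv2.euler k X (ClSub.quotMod C) := by omega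
  rw [key] at h1
  have := hEj m
  linarith

end Groth.L03.BlowPt
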