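import Groth.Agent.L17.MayerVietoris

/-!
# A surjectivity criterion for gluing vanishing cohomology
-/

universe u
open CategoryTheory CategoryTheory.Limits TopologicalSpace Opposite Abelian
open Groth.L17
noncomputable section

namespace Groth.L03.BlowPt

variable {X : TopCat.{u}}

theorem huRes_left_eq {U V : Opens X} {F : AbSheaf X} {n : ℕ} (a : HU U F n) :
    huRes (inf_le_left : U ⊓ V ≤ U) a =
      (Ext.mk₀ (Opens.mayerVietorisSquare U V).shortComplex.f).comp ((Ext.mk₀ biprod.fst).comp a (zero_add n))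
        (zero_add n) := by
  refine Eq.trans ?_ (Ext.mk₀_comp_mk₀_assoc _ _ _).symm
  exact congrArg (fun g => (Ext.mk₀ g).comp a (zero_add n)) (biprod.lift_fst _ _).symm

theorem mk₀_neg_comp_neg {U V : Opens X} (g : zFree U ⟶ zFree V) {F : AbSheaf X} {n : ℕ} (c : HU V F n) :
    (Ext.mk₀ (-g)).comp (-c) (zero_add n) = (Ext.mk₀ g).comp c (zero_add n) := by
  simp

theorem huRes_right_eq {U V : Opens X} {F : AbSheaf X} {n : ℕ} (c : HU V F n) :
    huRes (inf_le_right : U ⊓ V ≤ V) c =
      (Ext.mk₀ (Opens.mayerVietorisSquare U V).shortComplex.f).comp ((Ext.mk₀ biprod.snd).comp (-c) (zero_add n))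
        (zero_add n) := by
  refine Eq.trans ?_ (Ext.mk₀_comp_mk₀_assoc _ _ _).symm
  exact ((mk₀_neg_comp_neg (zMap (inf_le_right : U ⊓ V ≤ V)) c).symm).trans
    (congrArg (fun g => (Ext.mk₀ g).comp (-c) (zero_add n)) (biprod.lift_snd _ _).symm)

/-- Classes on a union vanish when the classes on the overlap are differences. -/
theorem hu_sup_vanish_of_surjective {U V : Opens X} {F : AbSheaf X} {n : ℕ}
    (h : ∀ y : HU (U ⊓ V) F n, ∃ (a : HU U F n) (c : HU V F n),
      y = huRes (inf_le_left : U ⊓ V ≤ U) a + huRes (inf_le_right : U ⊓ V ≤ V) c)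
    (hU : ∀ y : HU U F (n + 1), y = 0) (hV : ∀ y : HU V F (n + 1), y = 0) (x : HU (U ⊔ V) F (n + 1)) : x = 0 := by
  let S := Opens.mayerVietorisSquare U V
  obtain ⟨y, hy⟩ := Ext.contravariant_sequence_exact₃ (hS := S.shortComplex_shortExact) (Y := F) x (by
    apply Ext.biprod_ext
    · refine (Ext.mk₀_comp_mk₀_assoc _ _ _).trans (Eq.trans ?_ (Ext.comp_zero _ _ _ _ _).symm)
      refine Eq.trans ?_ (hU (huRes (le_sup_left : U ≤ U ⊔ V) x))
      congr 2
      exact biprod.inl_desc _ _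
    · refine (Ext.mk₀_comp_mk₀_assoc _ _ _).trans (Eq.trans ?_ (Ext.comp_zero _ _ _ _ _).symm)
      refine Eq.trans ?_ (hV (huRes (le_sup_right : V ≤ U ⊔ V) x))
      congr 2
      exact biprod.inr_desc _ _) (Nat.add_comm 1 n)
  obtain ⟨a, c, hac⟩ := h y
  rw [← hy]
  have h' : y = (Ext.mk₀ S.shortComplex.f).comp ((Ext.mk₀ biprod.fst).comp a (zero_add n) +
      (Ext.mk₀ biprod.snd).comp (-c) (zero_add n)) (zero_add n) := by
    exact (hac.trans (congrArg₂ (· + ·) (huRes_left_eq a) (huRes_right_eq c))).trans (Ext.comp_add _ _ _ _).symm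
  exact (congrArg (fun z => S.shortComplex_shortExact.extClass.comp z (Nat.add_comm 1 n)) h').trans
    (ShortComplex.ShortExact.extClass_comp_assoc _ _)

end Groth.L03.BlowPt
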