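import Groth.Agent.L03.BlowPt.Except
import Groth.Agent.L03.BlowPt.Pair
import Groth.Agent.L22.CartierDecomp
import Groth.Agent.L17.ThickBasic
import Mathlib.RingTheory.MvPolynomial.Homogeneous

/-!
# Multiplicity at the centre of a point blow-up
-/

set_option autoImplicit false
set_option linter.style.haveILetI false
set_option backward.isDefEq.respectTransparency false
set_option backward.isDefEq.respectTransparency.types false

universe u

open CategoryTheory AlgebraicGeometry TopologicalSpace MvPolynomial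
open Groth.L11.BlowSmooth Groth.L13.BU

noncomputable section

namespace Groth.L03.BlowPt

/-- For a quasi-regular sequence divisibility in a chart detects powers of the ideal. -/
theorem mem_pow_of_sh_mem {A : Type u} [CommRing A] {c : ℕ} {f : Fin c → A} (hf : CAlgX.IsQuasiRegular f)
    (i : Fin c) : ∀ (n : ℕ) (a : A), sh f i a ∈ ((sI f).map (sh f i)) ^ n → a ∈ sI f ^ n
  | 0, a, _ => by simp
  | n + 1, a, ha => by
    have hn : a ∈ sI f ^ n := mem_pow_of_sh_mem hf i n a (Ideal.pow_le_pow_right n.le_succ ha)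
    rw [map_ideal, Ideal.span_singleton_pow, Ideal.mem_span_singleton'] at ha
    obtain ⟨z, hz⟩ := ha
    obtain ⟨m, w, hw, rfl⟩ := frac_surjective (sI f) (f i) (mem_pow_one f i) z
    obtain ⟨F, hF, hFa⟩ := (Ideal.mem_span_pow_iff_exists_isHomogeneous f a).1 hn
    have key : sh f i ((f i) ^ m * a) = sh f i ((f i) ^ (n + 1) * w) := by
      rw [map_mul, map_mul, map_pow, map_pow, ← hz, ← pow_mul_frac (sI f) (f i) (mem_pow_one f i) m w hw]
      ring
    replace key : sh f i ((f i) ^ m * a - (f i) ^ (n + 1) * w) = 0 :=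
      (map_sub (sh f i) _ _).trans (sub_eq_zero.2 key)
    rw [sh, chartHom_apply] at key
    obtain ⟨k, hk⟩ := of_frac_eq_zero _ _ _ _ key
    rw [mul_sub, sub_eq_zero] at hk
    let G : MvPolynomial (Fin c) A := monomial (Finsupp.single i (k + m)) 1 * F
    have hG : G.IsHomogeneous (k + m + n) :=
      (isHomogeneous_monomial (d := Finsupp.single i (k + m)) (1 : A) (by simp)).mul hF
    have hGe : eval f G ∈ sI f ^ (k + m + n + 1) := by
      have he : eval f G = f i ^ (k + (n + 1)) * w := by
        simp only [G, map_mul, eval_monomial, hFa, one_mul, Finsupp.prod_single_index, pow_zero, pow_add, mul_assoc]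
        rw [hk]; ring
      rw [he, show k + m + n + 1 = (k + (n + 1)) + m by ring, pow_add (sI f)]
      exact Ideal.mul_mem_mul (Ideal.pow_mem_pow (Ideal.subset_span ⟨i, rfl⟩ : f i ∈ sI f) _) hw
    rw [← hFa, ← F.support_sum_monomial_coeff, map_sum]
    refine Ideal.sum_mem _ fun d hd => ?_
    rw [eval_monomial]
    have hc : F.coeff d ∈ sI f := by
      have h := hf _ G hG hGe (Finsupp.single i (k + m) + d)
      rwa [show G.coeff (Finsupp.single i (k + m) + d) = F.coeff d by
        simp only [G, coeff_monomial_mul, one_mul]] at h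
    rw [pow_succ']
    refine Ideal.mul_mem_mul hc ?_
    have hdeg : ∑ j, d j = n := by
      simpa [Finsupp.weight_apply, Finsupp.sum_fintype] using hF (mem_support_iff.1 hd)
    rw [Finsupp.prod_fintype _ _ (fun j => pow_zero _), ← hdeg, ← Finset.prod_pow_eq_pow_sum]
    exact Ideal.prod_mem_prod fun j _ => Ideal.pow_mem_pow (Ideal.subset_span ⟨j, rfl⟩ : f j ∈ sI f) _

/-- Comparison of extended ideals through their ideal sheaves. -/
theorem map_le_map_of_comap_le {A B : Type u} [CommRing A] [CommRing B] (φ : A →+* B) (I J : Ideal A)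
    (h : (idealOf I).comap (Spec.map (CommRingCat.ofHom φ)) ≤ (idealOf J).comap (Spec.map (CommRingCat.ofHom φ))) :
    I.map φ ≤ J.map φ := by
  have h2 := h ⟨⊤, isAffineOpen_top _⟩
  rw [comap_SpecMap, comap_SpecMap] at h2
  have he : Function.Bijective (Scheme.ΓSpecIso (CommRingCat.of B)).inv.hom :=
    ConcreteCategory.bijective_of_isIso (Scheme.ΓSpecIso (CommRingCat.of B)).inv
  intro a ha
  obtain ⟨v, hv, hv'⟩ := (Ideal.mem_map_iff_of_surjective _ he.2).1 (h2 (Ideal.mem_map_of_mem _ ha))
  exact he.1 hv' ▸ hv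

variable {X X' : Scheme.{u}} {x : X} {hx : IsClosed ({x} : Set X)} {b : X' ⟶ X}

/-- Powers of the ideal of a point are trivial away from it. -/
theorem ptI_pow_ideal_eq_top (n : ℕ) (V : X.affineOpens) (hV : x ∉ V.1) : ((ptI hx) ^ n).ideal V = ⊤ := by
  rw [Scheme.IdealSheafData.ideal_pow, Pi.pow_apply, Groth.L22.CartierDecomp.ideal_eq_top (D := ptI hx) fun z hz h => ?_]
  · simp
  · have : z = x := by simpa [ptI] using h
    exact hV (this ▸ hz)

/-- A pullback vanishes to order `n` along the exceptional divisor only for members of the `n`th power. -/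
theorem le_pow_of_comap_le (D : EChart hx b) (C : X.IdealSheafData) (n : ℕ) (h : C.comap b ≤ exc hx b ^ n) :
    C ≤ ptI hx ^ n := by
  classical
  choose V hyV hV using fun y : X => show ∃ V : X.affineOpens, y ∈ V.1 ∧ (x ∈ V.1 → V = D.U) from by
    by_cases hy : y = x
    · exact ⟨D.U, hy ▸ D.mem, fun _ => rfl⟩
    · obtain ⟨_, ⟨W, hW, rfl⟩, hyW, hle⟩ := X.isBasis_affineOpens.exists_subset_of_mem_open
        (show y ∈ ({x} : Set X)ᶜ from hy) hx.isOpen_compl
      exact ⟨⟨W, hW⟩, hyW, fun hxW => absurd rfl (hle hxW)⟩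
  refine Scheme.IdealSheafData.le_of_iSup_eq_top V (eq_top_iff.2 fun y _ => Opens.mem_iSup.2 ⟨y, hyV y⟩) fun y => ?_
  by_cases hxV : x ∈ (V y).1
  swap
  · rw [ptI_pow_ideal_eq_top n _ hxV]; exact le_top
  rw [hV y hxV, Scheme.IdealSheafData.ideal_pow, Pi.pow_apply, D.ideal_eq]
  intro a ha
  refine mem_pow_of_sh_mem D.qreg 0 n a ?_
  haveI := D.C_open 0
  have h1 : C.comap (D.C 0 ≫ b) ≤ (ptI hx ^ n).comap (D.C 0 ≫ b) := by
    rw [Scheme.IdealSheafData.comap_comp, Scheme.IdealSheafData.comap_comp, Groth.L17.Thick.comap_pow b]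
    exact (Scheme.IdealSheafData.map_gc (D.C 0)).monotone_l h
  rw [D.C_comp 0, Scheme.IdealSheafData.comap_comp, Scheme.IdealSheafData.comap_comp, comap_fromSpec, comap_fromSpec] at h1
  have e : (ptI hx ^ n).ideal D.U = sI D.f ^ n :=
    (congrFun (Scheme.IdealSheafData.ideal_pow (I := ptI hx) n) D.U).trans (congrArg (· ^ n) D.ideal_eq)
  rw [e] at h1
  have h2 := map_le_map_of_comap_le (sh D.f 0) _ _ h1
  rw [Ideal.map_pow (sh D.f 0)] at h2
  exact h2 (Ideal.mem_map_of_mem _ ha)

end Groth.L03.BlowPt
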