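import Groth.Agent.L03.BlowPt.Except
import Groth.Agent.L22.Inter.PullNum

/-!
# Exceptional charts over one point of a larger centre
-/

set_option autoImplicit false
set_option linter.style.haveILetI false
set_option backward.isDefEq.respectTransparency false
set_option backward.isDefEq.respectTransparency.types false

universe u

open CategoryTheory AlgebraicGeometry TopologicalSpace
open Groth.L11.BlowSmooth Groth.L13.BU

noncomputable section

namespace Groth.L03.BlowPt

variable {X X' : Scheme.{u}} {x : X} (hx : IsClosed ({x} : Set X)) (b : X' ⟶ X)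

/-- Charts exist over a point of the centre near which the centre is the reduced point. -/
theorem exists_echart_of_chart {I : X.IdealSheafData} (hb : BlowUp.IsBlowUp b I) (U : X.affineOpens)
    (f : Fin 2 → Γ(X, U.1)) (hxU : x ∈ U.1) (hq : CAlgX.IsQuasiRegular f) (hI : I.ideal U = sI f)
    (hI' : (ptI hx).ideal U = sI f) : Nonempty (EChart hx b) := by
  obtain ⟨C, hCo, hCb, hCc⟩ := Groth.L11.BlowProj.exists_charts hb U f hI
  have hk : ∀ i, (eι hx b).ker.comap (C i) = idealOf ((sI f).map (sh f i)) := by
    intro i
    haveI := hCo i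
    rw [Scheme.IdealSheafData.ker_subschemeι, exc, BlowUp.exceptional, ← Scheme.IdealSheafData.comap_comp, hCb,
      Scheme.IdealSheafData.comap_comp, comap_fromSpec, hI']
    refine Scheme.IdealSheafData.ext_of_isAffine ?_
    rw [comap_SpecMap, idealOf_top]
  choose q hqo hqι hqc using fun i => haveI := hCo i; exists_closed_chart (eι hx b) (C i) _ (hk i)
  refine ⟨⟨U, f, hxU, hq, hI', C, hCo, hCb, q, hqo, hqι, fun z => ?_, hqc, fun i z hz => ?_⟩⟩
  · obtain ⟨i, hi⟩ := hCc (eι hx b z) (by rw [eι_apply]; exact hxU)
    exact ⟨i, hqc i z hi⟩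
  · refine hqc (oth i) _ ?_
    haveI := hCo i
    rw [← Scheme.Hom.comp_apply, hqι, Scheme.Hom.comp_apply]
    exact Groth.L11.BlowProj.mem_range_chart hb f U.2.fromSpec i (oth i) (C i) (hCb i) (C (oth i)) (hCb (oth i))
      _ hz

end Groth.L03.BlowPt
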