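import Groth.Agent.L03.BlowPt.MultiExc
import Groth.Agent.L03.BlowPt.OffExc
import Groth.Agent.L03.BlowPt.Rational
import Groth.Agent.L03.LinForm
import Groth.Agent.L03.SurfNum.Decomp
import Groth.Agent.L22.Nakai.Main
import Groth.Agent.L22.Big.SurfaceMain
import Groth.Agent.L22.CurveDeg.NonSpecial
import Groth.Agent.L18.AmplePull
import Groth.Agent.L16.ProjSpace.AmpleIff
import Groth.Agent.L21.RefK.Alt
import Mathlib.AlgebraicGeometry.AlgClosed.Basic

/-!
# Ample classes on blow-ups of embedded surfaces at finitely many points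
-/

set_option autoImplicit false
set_option linter.style.haveILetI false
set_option backward.isDefEq.respectTransparency false
set_option linter.unusedSectionVars false

universe u

open CategoryTheory CategoryTheory.Limits AlgebraicGeometry TopologicalSpace
open Groth.L22.Inter Groth.L22.Nef Groth.L22.Big Groth.L03.Euler Groth.L03.SurfNum

noncomputable section

namespace Groth.L03.BlowPt.MultiExc

open Groth.L03.BlowPt

variable (k : Type u) [Field k] [IsAlgClosed k] {X X' : Scheme.{u}} [X.Over (Spec (CommRingCat.of k))]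
  [IsIntegral X] [IsProper (X ↘ (Spec (CommRingCat.of k)))]
  (hd : topologicalKrullDim X = (2 : ℕ)) (hreg : ∀ x : X, IsRegularLocalRing (X.presheaf.stalk x))
  {n : ℕ} (ι : X ⟶ CohB1.ProjSpace n k) [IsClosedImmersion ι]
  (hι : ι ≫ CohB1.ProjSpace.toSpec n k = X ↘ Spec (CommRingCat.of k))
  {σ : X' ⟶ X} {r : ℕ} {P : Fin r → X}
  (hP : Function.Injective P) (hPc : ∀ i, IsClosed ({P i} : Set X)) {hZ : IsClosed (Set.range P)}
  (hσ : BlowUp.IsBlowUp σ (Scheme.IdealSheafData.vanishingIdeal ⟨Set.range P, hZ⟩))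
  [X'.Over (Spec (CommRingCat.of k))] [IsProper (X' ↘ (Spec (CommRingCat.of k)))] [IsIntegral X']
  (hσk : σ ≫ (X ↘ Spec (CommRingCat.of k)) = X' ↘ (Spec (CommRingCat.of k)))

/-- The pullback of a hyperplane class. -/
abbrev hyp : X'.Modules :=
  (Scheme.Modules.pullback σ).obj ((Scheme.Modules.pullback ι).obj (Twist.twistProjSpace n k 1))

include hd hσk hι hPc hσ in
/-- On a curve that is not contracted the hyperplane class has positive degree. -/
theorem ii_hyp_neg {y : X'} (hy : topologicalKrullDim (closure ({y} : Set X')) = (1 : ℕ))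
    (hreg' : ∀ z : X', IsRegularLocalRing (X'.presheaf.stalk z))
    (hc : ¬ IsClosed ({σ y} : Set X)) :
    ii k (ClSub.idealMod (pt y)) (hyp k ι (σ := σ)) < 0 := by
  haveI := Groth.L21.RR.isNoetherian_of_proper (X := X) k
  haveI := Groth.L21.RR.isNoetherian_of_proper (X := X') k
  have hd' := dim_up k hd hPc hσ
  have hyI := Groth.L03.BlowPt.inv_curve (k := k) hd' hreg' hy
  haveI := (integral_proper k hd hPc hσ).2
  letI : (CohB1.ProjSpace n k).Over (Spec (CommRingCat.of k)) := ⟨CohB1.ProjSpace.toSpec n k⟩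
  have hn : 1 ≤ n := by
    by_contra h
    obtain rfl : n = 0 := by omega
    have h1 := ι.isClosedEmbedding.isInducing.topologicalKrullDim_le
    rw [hd, Groth.L16.ProjSpace.topologicalKrullDim_eq_of_field 0 k] at h1
    norm_num at h1
  have hA : CohB1.IsAmple ((Scheme.Modules.pullback ι).obj (Twist.twistProjSpace n k 1)) :=
    Groth.L18.Ample.isAmple_pullback_of_isAffineHom ι
      ((Groth.L16.ProjSpace.isAmple_twistProjSpace_iff (n := n) (R := k) hn 1).2 one_pos)
  obtain ⟨m, s, hs, hsA⟩ := hA.2.2 (σ y)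
  obtain ⟨w, hw, hws⟩ : ∃ w ∈ closure ({σ y} : Set X), w ∉ CohB1.genLocus _ s := by
    by_contra h
    push Not at h
    let g := (pt (σ y)).subschemeι
    haveI := isIntegral_pt (σ y)
    haveI : IsAffineHom g := inferInstance
    have htop : g ⁻¹ᵁ (CohB1.genLocus _ s) = ⊤ := top_le_iff.1 fun z _ => h _ ((range_pt (σ y)).le ⟨z, rfl⟩)
    haveI : IsAffine (pt (σ y)).subscheme := by
      have h1 := hsA.preimage g
      rw [htop] at h1
      haveI : IsAffine ((⊤ : (pt (σ y)).subscheme.Opens) : Scheme.{u}) := h1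
      exact IsAffine.of_isIso (pt (σ y)).subscheme.topIso.inv
    let q := g ≫ (X ↘ Spec (CommRingCat.of k))
    haveI : IsFinite q := IsFinite.iff_isProper_and_isAffineHom.2 ⟨inferInstance, inferInstance⟩
    haveI : Finite (pt (σ y)).subscheme := Set.finite_univ_iff.1 ((q.finite_preimage_singleton
      (Classical.arbitrary _)).subset fun z _ => Set.mem_singleton_iff.2 (Subsingleton.elim _ _))
    haveI : JacobsonSpace (pt (σ y)).subscheme := LocallyOfFiniteType.jacobsonSpace q
    have hpt : IsClosed ({genericPoint (pt (σ y)).subscheme} : Set (pt (σ y)).subscheme) := isClosed_discrete _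
    have h2 := g.isClosedEmbedding.isClosedMap _ hpt
    rw [Set.image_singleton, genericPoint_pt] at h2
    exact hc h2
  have hcl : σ '' closure ({y} : Set X') = closure {σ y} := by
    rw [← Set.image_singleton]
    exact (σ.isClosedMap.closure_image_eq_of_continuous σ.continuous _).symm
  obtain ⟨z, hz, rfl⟩ := hcl.ge hw
  have hT := Groth.L18.Ample.isInvertible_tensorPow hA.1 (m + 1)
  let N := (Scheme.Modules.pullback σ).obj
    (CohB1.tensorPow ((Scheme.Modules.pullback ι).obj (Twist.twistProjSpace n k 1)) (m + 1))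
  have hN : PicF.IsInvertible N := Groth.L18.Ample.isInvertible_pullback σ hT
  let t : Coh.structureModule X' ⟶ N :=
    (Groth.L29.LocFree.pullbackUnitIso σ).symm.hom ≫ (Scheme.Modules.pullback σ).map s
  have ht : ∀ v, v ∈ CohB1.genLocus N t ↔ σ v ∈ CohB1.genLocus _ s := fun v => by
    rw [Groth.L18.Ample.genLocus_iso_pullback (u := σ) hT s (Groth.L29.LocFree.pullbackUnitIso σ).symm]
    exact Iff.rfl
  have h := Groth.L03.SurfAmple.altT_pt_pos k hd' hN t hy ((ht y).2 hs) hz (fun hv => hws ((ht z).1 hv))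
  rw [altT_quotMod_eq k hN (pt y) hyI, ii_comm, ii_congr k (Groth.L18.Ample.pullPow σ _ (m + 1))] at h
  rw [ii_comm]
  rw [ii_pow k hd'.le (Groth.L18.Ample.isInvertible_pullback σ hA.1) hyI] at h
  push_cast at h
  nlinarith

include hd hreg hP hPc hσ hσk hι in
/-- A hyperplane through a centre bounds the degree on that exceptional curve. -/
theorem ii_hyp_le {y : X'} (hy : topologicalKrullDim (closure ({y} : Set X')) = (1 : ℕ))
    (hc : ¬ IsClosed ({σ y} : Set X)) (i : Fin r) :
    ii k (ClSub.idealMod (pt y)) (hyp k ι (σ := σ)) + ii k (ClSub.idealMod (pt y)) (ClSub.idealMod (exc (hPc i) σ))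
      ≤ 0 := by
  haveI := Groth.L21.RR.isNoetherian_of_proper (X := X) k
  haveI := Groth.L21.RR.isNoetherian_of_proper (X := X') k
  have hd' := dim_up k hd hPc hσ
  have hreg' := regular_up k hd hreg hP hPc hσ
  have hyI := Groth.L03.BlowPt.inv_curve (k := k) hd' hreg' hy
  haveI := (integral_proper k hd hPc hσ).2
  letI : (CohB1.ProjSpace n k).Over (Spec (CommRingCat.of k)) := ⟨CohB1.ProjSpace.toSpec n k⟩
  haveI : JacobsonSpace X := LocallyOfFiniteType.jacobsonSpace (X ↘ Spec (CommRingCat.of k))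
  obtain ⟨w, hwy, hwP, hwc⟩ : ∃ w, w ∈ closure ({σ y} : Set X) ∧ w ≠ P i ∧ IsClosed ({w} : Set X) := by
    have hne : (closure ({σ y} : Set X) ∩ ({P i}ᶜ : Set X)).Nonempty :=
      ⟨σ y, subset_closure (Set.mem_singleton _), fun h => hc (h ▸ hPc i)⟩
    obtain ⟨w, hw, hwc⟩ := nonempty_inter_closedPoints hne
      (isClosed_closure.isLocallyClosed.inter (hPc i).isOpen_compl.isLocallyClosed)
    exact ⟨w, hw.1, hw.2, mem_closedPoints_iff.1 hwc⟩
  let a : Spec (CommRingCat.of k) ⟶ CohB1.ProjSpace n k :=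
    pointOfClosedPoint (X ↘ Spec (CommRingCat.of k)) (P i) (hPc i) ≫ ι
  let b : Spec (CommRingCat.of k) ⟶ CohB1.ProjSpace n k :=
    pointOfClosedPoint (X ↘ Spec (CommRingCat.of k)) w hwc ≫ ι
  have hapt : a (IsLocalRing.closedPoint k) = ι (P i) := by
    rw [Scheme.Hom.comp_apply, pointOfClosedPoint_apply]
  have hbpt : b (IsLocalRing.closedPoint k) = ι w := by
    rw [Scheme.Hom.comp_apply, pointOfClosedPoint_apply]
  obtain ⟨s, hs0, hs1⟩ := Groth.L03.LinForm.exists_section_sep a b
    (show (pointOfClosedPoint _ _ _ ≫ ι) ≫ CohB1.ProjSpace.toSpec n k = _ by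
      rw [Category.assoc, hι, pointOfClosedPoint_comp])
    (show (pointOfClosedPoint _ _ _ ≫ ι) ≫ CohB1.ProjSpace.toSpec n k = _ by
      rw [Category.assoc, hι, pointOfClosedPoint_comp])
    (fun hab => hwP (ι.isClosedEmbedding.injective (by rw [← hapt, ← hbpt, hab])))
  replace hs0 : ι (P i) ∉ CohB1.genLocus (Twist.twistProjSpace n k 1) s := hapt ▸ hs0
  replace hs1 : ι w ∈ CohB1.genLocus (Twist.twistProjSpace n k 1) s := hbpt ▸ hs1
  have hO1 : PicF.IsInvertible (Twist.twistProjSpace n k 1) := Groth.L16.ProjTwist.isInvertible_twistProjSpace n k 1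
  have hL := Groth.L18.Ample.isInvertible_pullback (σ ≫ ι) hO1
  let t : Coh.structureModule X' ⟶ (Scheme.Modules.pullback (σ ≫ ι)).obj (Twist.twistProjSpace n k 1) :=
    (Groth.L29.LocFree.pullbackUnitIso (σ ≫ ι)).symm.hom ≫ (Scheme.Modules.pullback (σ ≫ ι)).map s
  have ht : ∀ v : X', v ∈ CohB1.genLocus _ t ↔ ι (σ v) ∈ CohB1.genLocus (Twist.twistProjSpace n k 1) s := fun v => by
    rw [Groth.L18.Ample.genLocus_iso_pullback (u := σ ≫ ι) hO1 s (Groth.L29.LocFree.pullbackUnitIso (σ ≫ ι)).symm]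
    rfl
  have hcl : σ '' closure ({y} : Set X') = closure {σ y} := by
    rw [← Set.image_singleton]
    exact (σ.isClosedMap.closure_image_eq_of_continuous σ.continuous _).symm
  obtain ⟨z, hz, rfl⟩ := hcl.ge hwy
  have hys : y ∈ CohB1.genLocus _ t :=
    (specializes_iff_mem_closure.2 hz).mem_open (CohB1.genLocus _ t).2 ((ht z).2 hs1)
  have hη : genericPoint X' ∈ CohB1.genLocus _ t :=
    (genericPoint_specializes y).mem_open (CohB1.genLocus _ t).2 hys
  obtain ⟨v, hv, ev, hmv, hvI, -⟩ := exc_facts k hd hreg hP hPc hσ hσk i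
  have hvs : v ∉ CohB1.genLocus _ t := fun h => hs0 (by
    have h1 := (ht v).1 h
    rwa [(hmv v).1 (subset_closure (Set.mem_singleton v))] at h1)
  obtain ⟨T, m, hT, hTm, hsum⟩ := exists_sum_curves k hd'.le hL t hη
  obtain ⟨hvT, hmpos⟩ := hTm v hv hvs
  have hIle : ∀ x ∈ T, 0 ≤ ii k (ClSub.idealMod (pt x)) (ClSub.idealMod (pt y)) := fun x hx => by
    haveI := isIntegral_pt x
    haveI := isIntegral_pt y
    refine Gram.curve_pair_nonneg k hd'.le (pt x) (pt y) ?_ ?_
      (Groth.L03.BlowPt.inv_curve (k := k) hd' hreg' (hT x hx).1) hyI fun h => (hT x hx).2 ?_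
    · rw [Groth.L18.support_vanishingIdeal]; exact (hT x hx).1.trans Nat.cast_one
    · rw [Groth.L18.support_vanishingIdeal]; exact hy.trans Nat.cast_one
    · rw [Groth.L03.BlowPt.Rational.pt_inj k hd' hreg' h]; exact hys
  have h0 := hsum _ hyI
  rw [ii_congr k ((Scheme.Modules.pullbackComp σ ι).app (Twist.twistProjSpace n k 1)).symm] at h0
  have h1 : (m v : ℚ) * ii k (ClSub.idealMod (pt v)) (ClSub.idealMod (pt y)) ≤
      -ii k (hyp k ι (σ := σ)) (ClSub.idealMod (pt y)) := by
    rw [show ii k (hyp k ι (σ := σ)) (ClSub.idealMod (pt y)) = _ from h0, ← Finset.sum_neg_distrib]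
    refine le_trans (le_of_eq ?_) (Finset.single_le_sum (fun x hx => ?_) hvT)
    · rw [altT_quotMod_eq k hyI (pt v) hvI, mul_neg, neg_neg]
    · rw [altT_quotMod_eq k hyI (pt x) (Groth.L03.BlowPt.inv_curve (k := k) hd' hreg' (hT x hx).1), mul_neg, neg_neg]
      exact mul_nonneg (Nat.cast_nonneg _) (hIle x hx)
  have h2 : ii k (ClSub.idealMod (pt v)) (ClSub.idealMod (pt y)) ≤
      (m v : ℚ) * ii k (ClSub.idealMod (pt v)) (ClSub.idealMod (pt y)) :=
    le_mul_of_one_le_left (hIle v hvT) (by exact_mod_cast hmpos)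
  rw [ev, ii_comm k (ClSub.idealMod (pt y)) (hyp k ι (σ := σ)), ii_comm k (ClSub.idealMod (pt y)) (ClSub.idealMod (pt v))]
  linarith

/-- Intersecting with a tensor product of a list. -/
theorem ii_tensorList {Y : Scheme.{u}} [Y.Over (Spec (CommRingCat.of k))] [IsIntegral Y] [IsProper (Y ↘ Spec (CommRingCat.of k))]
    (hdY : topologicalKrullDim Y ≤ (2 : ℕ)) :
    ∀ (l : List Y.Modules), (∀ M ∈ l, PicF.IsInvertible M) → ∀ {A : Y.Modules}, PicF.IsInvertible A →
      ii k (FGA.tensorList l) A = (l.map fun M => ii k M A).sum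
  | [], _, A, _ => altT_unit k _
  | M :: l, hl, A, hA => by
    have hM : PicF.IsInvertible M := hl M (List.mem_cons_self ..)
    have hl' : ∀ M' ∈ l, PicF.IsInvertible M' := fun M' h => hl M' (List.mem_cons_of_mem _ h)
    show ii k (CohB1.tensorMod M (FGA.tensorList l)) A = _
    rw [ii_tensor k hdY hM (Groth.L21.RefK.isInvertible_tensorList l hl') hA, ii_tensorList hdY l hl' hA,
      List.map_cons, List.sum_cons]

include hd hreg hι hP hPc hσ hσk in
/-- Small multiples of the exceptional curves subtracted from a hyperplane multiple stay ample. -/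
theorem isAmple_sub_exc (N : ℕ) (a : Fin r → ℕ) (ha : ∀ i, 0 < a i) (hN : ∑ i, a i < N) :
    CohB1.IsAmple (CohB1.tensorMod
      ((Scheme.Modules.pullback σ).obj (CohB1.tensorPow ((Scheme.Modules.pullback ι).obj (Twist.twistProjSpace n k 1)) N))
      (FGA.tensorList (List.ofFn fun i : Fin r => ClSub.idealMod (exc (hPc i) σ ^ a i)))) := by
  haveI := Groth.L21.RR.isNoetherian_of_proper (X := X) k
  haveI := Groth.L21.RR.isNoetherian_of_proper (X := X') k
  have hd' := dim_up k hd hPc hσ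
  have hreg' := regular_up k hd hreg hP hPc hσ
  set H₀ := (Scheme.Modules.pullback ι).obj (Twist.twistProjSpace n k 1) with hH₀def
  have hH₀ : PicF.IsInvertible H₀ :=
    Groth.L18.Ample.isInvertible_pullback ι (Groth.L16.ProjTwist.isInvertible_twistProjSpace n k 1)
  have hn : 1 ≤ n := by
    by_contra h
    obtain rfl : n = 0 := by omega
    have h1 := ι.isClosedEmbedding.isInducing.topologicalKrullDim_le
    rw [hd, Groth.L16.ProjSpace.topologicalKrullDim_eq_of_field 0 k] at h1
    norm_num at h1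
  have hA : CohB1.IsAmple H₀ := Groth.L18.Ample.isAmple_pullback_of_isAffineHom ι
    ((Groth.L16.ProjSpace.isAmple_twistProjSpace_iff (n := n) (R := k) hn 1).2 one_pos)
  have hH := Groth.L18.Ample.isInvertible_pullback σ hH₀
  have hE : ∀ i, BlowUp.IsEffCartierIdeal (exc (hPc i) σ) := fun i =>
    (Groth.Agent.L19.IdealInvertible.isEffCartier_iff _).1 (nonempty_echart k hd hreg hP hPc hσ i).2
  have hEi : ∀ i, PicF.IsInvertible (ClSub.idealMod (exc (hPc i) σ)) := fun i =>
    (nonempty_echart k hd hreg hP hPc hσ i).2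
  have hEpow : ∀ i, PicF.IsInvertible (ClSub.idealMod (exc (hPc i) σ ^ a i)) := fun i =>
    (Groth.Agent.L19.IdealInvertible.isEffCartier_iff _).2 (Groth.L03.BlowPt.isEffCartier_pow (hE i) _)
  have hl : ∀ M ∈ List.ofFn (fun i : Fin r => ClSub.idealMod (exc (hPc i) σ ^ a i)), PicF.IsInvertible M := by
    intro M hM
    obtain ⟨i, rfl⟩ := List.mem_ofFn.1 hM
    exact hEpow i
  set L₁ := (Scheme.Modules.pullback σ).obj (CohB1.tensorPow H₀ N) with hL₁def
  set L := CohB1.tensorMod L₁ (FGA.tensorList (List.ofFn fun i : Fin r => ClSub.idealMod (exc (hPc i) σ ^ a i))) with hLdef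
  have hL₁ := Groth.L18.Ample.isInvertible_pullback σ (Groth.L18.Ample.isInvertible_tensorPow hH₀ N)
  have hL : PicF.IsInvertible L :=
    Groth.L18.GenLoc.isInvertible_tensor hL₁ (Groth.L21.RefK.isInvertible_tensorList _ hl)
  have hLA : ∀ A : X'.Modules, PicF.IsInvertible A →
      ii k L A = (N : ℚ) * ii k (hyp k ι (σ := σ)) A + ∑ i, (a i : ℚ) * ii k (ClSub.idealMod (exc (hPc i) σ)) A := by
    intro A hA'
    rw [hLdef, ii_tensor k hd'.le hL₁ (Groth.L21.RefK.isInvertible_tensorList _ hl) hA',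
      ii_congr k (Groth.L18.Ample.pullPow σ H₀ N), ii_pow k hd'.le hH hA', ii_tensorList k hd'.le _ hl hA',
      List.map_ofFn, List.sum_ofFn]
    congr 1
    exact Finset.sum_congr rfl fun i _ => Groth.L03.BlowPt.ii_idealMod_pow k hd'.le (hE i) hA' (a i)
  have hexcH : ∀ i, ii k (ClSub.idealMod (exc (hPc i) σ)) (hyp k ι (σ := σ)) = 0 := fun i => by
    obtain ⟨v, -, ev, -, -, hv0, -⟩ := exc_facts k hd hreg hP hPc hσ hσk i
    rw [ev]; exact hv0 hH₀
  have hexcI : ∀ i l, ii k (ClSub.idealMod (exc (hPc l) σ)) (ClSub.idealMod (exc (hPc i) σ)) =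
      if l = i then -1 else 0 := fun i l => by
    by_cases h : l = i
    · obtain ⟨v, -, ev, -, -, -, hvv⟩ := exc_facts k hd hreg hP hPc hσ hσk i
      rw [if_pos h, h, ev]; exact hvv
    · rw [if_neg h]; exact exc_disjoint k hd hreg hP hPc hσ hσk h
  have hcurve : ∀ y : X', topologicalKrullDim (closure ({y} : Set X')) = (1 : ℕ) →
      ii k L (ClSub.idealMod (pt y)) < 0 := by
    intro y hy
    have hyI := Groth.L03.BlowPt.inv_curve (k := k) hd' hreg' hy
    rw [hLA _ hyI]
    by_cases hc : IsClosed ({σ y} : Set X)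
    · obtain ⟨i, hi⟩ := eq_exc_of_contracted k hd hreg hP hPc hσ hσk hy hc
      rw [← hi, ii_comm k (hyp k ι (σ := σ)), hexcH i]
      simp only [hexcI i, mul_ite, mul_zero, Finset.sum_ite_eq', Finset.mem_univ, if_true, mul_neg, mul_one,
        zero_add]
      have : (0 : ℚ) < a i := by exact_mod_cast ha i
      linarith
    · have hneg := ii_hyp_neg k hd ι hι hPc hσ hσk hy hreg' hc
      have hle : ∀ i, (a i : ℚ) * ii k (ClSub.idealMod (exc (hPc i) σ)) (ClSub.idealMod (pt y)) ≤
          (a i : ℚ) * -ii k (hyp k ι (σ := σ)) (ClSub.idealMod (pt y)) := fun i => by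
        refine mul_le_mul_of_nonneg_left ?_ (Nat.cast_nonneg _)
        have := ii_hyp_le k hd hreg ι hι hP hPc hσ hσk hy hc i
        rw [ii_comm k (ClSub.idealMod (pt y)), ii_comm k (ClSub.idealMod (pt y))] at this
        linarith
      have hsum := Finset.sum_le_sum (s := Finset.univ) fun i _ => hle i
      rw [← Finset.sum_mul] at hsum
      rw [ii_comm k (ClSub.idealMod (pt y))] at hneg
      have hN' : (∑ i, (a i : ℚ)) < N := by exact_mod_cast hN
      nlinarith
  have hself : 0 < ii k L L := by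
    have hHH : 1 ≤ ii k (hyp k ι (σ := σ)) (hyp k ι (σ := σ)) := by
      rw [ii_pullback k hd hPc hσ hσk hH₀ hH₀]
      exact Groth.L03.BlowPt.Rational.one_le_ii_of_pos k hd hreg (ii_ample_pos k hd.le hd hA)
    have hLH : ii k L (hyp k ι (σ := σ)) = (N : ℚ) * ii k (hyp k ι (σ := σ)) (hyp k ι (σ := σ)) := by
      rw [hLA _ hH, Finset.sum_eq_zero fun i _ => by rw [hexcH i, mul_zero], add_zero]
    have hLI : ∀ i, ii k L (ClSub.idealMod (exc (hPc i) σ)) = -(a i : ℚ) := fun i => by
      rw [hLA _ (hEi i), ii_comm k (hyp k ι (σ := σ)), hexcH i]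
      simp [hexcI i]
    rw [hLA L hL, ii_comm k (hyp k ι (σ := σ)) L, hLH, Finset.sum_congr rfl fun i _ => by
      rw [ii_comm k (ClSub.idealMod (exc (hPc i) σ)) L, hLI i]]
    simp only [mul_neg, Finset.sum_neg_distrib, ← pow_two]
    have hnn : ∀ i ∈ (Finset.univ : Finset (Fin r)), (0 : ℚ) ≤ (a i : ℚ) := fun i _ => Nat.cast_nonneg _
    have hsq := Finset.sum_sq_le_sq_sum_of_nonneg hnn
    have hN' : (∑ i, (a i : ℚ)) < N := by exact_mod_cast hN
    have hS0 := Finset.sum_nonneg hnn
    have h1 : (∑ i, (a i : ℚ)) ^ 2 < (N : ℚ) ^ 2 := pow_lt_pow_left₀ hN' hS0 two_ne_zero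
    have h2 : (N : ℚ) ^ 2 ≤ (N : ℚ) ^ 2 * ii k (hyp k ι (σ := σ)) (hyp k ι (σ := σ)) :=
      le_mul_of_one_le_right (sq_nonneg _) hHH
    nlinarith [hsq, h1, h2]
  refine Groth.L22.Nakai.isAmple_of_pos k hL fun y d hd0 hyd => ?_
  have hle : topologicalKrullDim (closure ({y} : Set X')) ≤ (2 : ℕ) := (topologicalKrullDim_subspace_le _ _).trans hd'.le
  rw [hyd] at hle
  have hd2 : d ≤ 2 := by exact_mod_cast hle
  obtain rfl | rfl : d = 1 ∨ d = 2 := by omega
  · rw [altT_quotMod_eq k hL (pt y) (Groth.L03.BlowPt.inv_curve (k := k) hd' hreg' hyd), ii_comm]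
    linarith [hcurve y hyd]
  · have hyη : genericPoint X' = y := eq_of_specializes_top isClosed_univ
      (by rw [(Homeomorph.Set.univ X').isHomeomorph.topologicalKrullDim_eq]; exact hd'.le) hyd trivial
      (genericPoint_specializes y)
    subst hyη
    rw [Groth.L22.Nef.altT_integral k hd' (L := fun _ : Fin 2 => L) fun _ => hL,
      show (fun _ : Fin 2 => L) = ![L, L] from funext fun i => by fin_cases i <;> rfl, ii_vec]
    exact hself

end Groth.L03.BlowPt.MultiExc
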