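import Groth.Agent.L03.BlowPt.Strict
import Groth.Agent.L03.SurfNum.Basic
import Groth.Agent.L03.SurfNum.Decomp
import Groth.Agent.L18.AmpleGG
import Mathlib.LinearAlgebra.TensorProduct.Prod
import Mathlib.LinearAlgebra.Dimension.Constructions

/-!
# Numerical classes on the blow-up of a point
-/

set_option autoImplicit false
set_option linter.style.haveILetI false
set_option backward.isDefEq.respectTransparency false
set_option linter.unusedSectionVars false

universe u

open CategoryTheory CategoryTheory.Limits AlgebraicGeometry TopologicalSpace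
open Groth.L22.Inter Groth.L22.Nef Groth.L22.Big Groth.L03.Euler Groth.L03.SurfNum
open NumR (N1)

noncomputable section

namespace Groth.L03.BlowPt

variable {k : Type u} [Field k] {X : Scheme.{u}} [X.Over (Spec (CommRingCat.of k))]
  [IsProper (X ↘ Spec (CommRingCat.of k))] [IsIntegral X]

variable (k) in
include k in
/-- Dimension of a point and of its local ring on a surface. -/
theorem dim_closure_add (hdim : topologicalKrullDim X = (2 : ℕ)) (y : X) :
    ∃ a c : ℕ, topologicalKrullDim (closure ({y} : Set X)) = (a : WithBot ℕ∞) ∧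
      ringKrullDim (X.presheaf.stalk y) = (c : WithBot ℕ∞) ∧ a + c = 2 := by
  obtain ⟨a, c, ha, hc, hac⟩ := Groth.L22.SchemeDim.exists_localDim k X y
  obtain ⟨a', ha', htr⟩ := Groth.L22.SchemeDim.exists_dim_closure_eq_trdeg k X y
  obtain ⟨m, hm, -, hopen⟩ := Groth.L22.SchemeDim.exists_dim_eq_trdeg k X
  have hm2 : 2 = m := by exact_mod_cast hdim.symm.trans hm
  have hl : FlatMor.localDim X y = ((2 : ℕ) : WithBot ℕ∞) := by
    refine le_antisymm ?_ (le_iInf fun U => ?_)
    · refine iInf_le_of_le ⟨⊤, trivial⟩ ?_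
      rw [hm2, ← hopen ⊤ ⟨y, trivial⟩]
      exact le_rfl
    · rw [hm2, ← hopen U.1 ⟨y, U.2⟩]
      exact le_rfl
  have haa : a = a' := by exact_mod_cast ha.symm.trans htr
  rw [hl] at hac
  exact ⟨a, c, haa ▸ ha', hc, (by exact_mod_cast hac : 2 = a + c).symm⟩

theorem curve_of_dim {y : X} (hy : topologicalKrullDim (closure ({y} : Set X)) = (1 : ℕ)) :
    IsIntegral (pt y).subscheme ∧ topologicalKrullDim ((pt y).support : Set X) = 1 ∧
      (pt y).subschemeι (genericPoint (pt y).subscheme) = y := by
  haveI := isIntegral_pt y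
  exact ⟨inferInstance, (dim_support (pt y)).trans (by rw [genericPoint_pt, hy, Nat.cast_one]), genericPoint_pt y⟩

variable (hd : topologicalKrullDim X = (2 : ℕ)) (hreg : ∀ x : X, IsRegularLocalRing (X.presheaf.stalk x))
include k hd hreg

theorem inv_curve {y : X} (hy : topologicalKrullDim (closure ({y} : Set X)) = (1 : ℕ)) :
    PicF.IsInvertible (ClSub.idealMod (pt y)) :=
  haveI := (curve_of_dim hy).1
  isInvertible_idealMod k hd hreg _ (curve_of_dim hy).2.1

/-- Numerically trivial modules meet curves in degree zero, and conversely. -/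
theorem numTriv_iff {L : X.Modules} (hL : PicF.IsInvertible L) :
    Pic13.IsNumEquivZero k X L ↔ ∀ y : X, topologicalKrullDim (closure ({y} : Set X)) = (1 : ℕ) →
      ii k (ClSub.idealMod (pt y)) L = 0 := by
  constructor
  · intro h y hy
    haveI := isIntegral_pt y
    let i := (pt y).subschemeι
    have hdY : topologicalKrullDim (pt y).subscheme = (1 : ℕ) := by
      rw [← dim_closure_image i, genericPoint_pt, hy]
    have h1 := curveDeg_eq k hL i hdY
    rw [h (pt y).subscheme i inferInstance (hdY.trans Nat.cast_one), genericPoint_pt,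
      altT_quotMod_eq k hL _ (inv_curve (k := k) hd hreg hy)] at h1
    simpa using h1.symm
  · intro h Y i _ hY hdY
    haveI := hY
    have hdY' : topologicalKrullDim Y = (1 : ℕ) := hdY.trans Nat.cast_one.symm
    have hy := (dim_closure_image i).trans hdY'
    have h1 := curveDeg_eq k hL i hdY'
    rw [altT_quotMod_eq k hL _ (inv_curve (k := k) hd hreg hy), h _ hy, neg_zero] at h1
    exact_mod_cast h1

variable [PicGrp.Law X]

/-- Degree on a curve as a homomorphism on numerical classes. -/
theorem exists_deg_hom {y : X} (hy : topologicalKrullDim (closure ({y} : Set X)) = (1 : ℕ)) :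
    ∃ d : N1 k X →+ ℚ, ∀ (L : X.Modules) (hL : PicF.IsInvertible L),
      d (NumR.cl k X L hL) = ii k (ClSub.idealMod (pt y)) L := by
  have hI := inv_curve (k := k) hd hreg hy
  choose rep hrep hrepc using fun c : PicLoc.PicSet X => PicGrp.exists_eq_cls c
  have hval : ∀ (L : X.Modules) (hL : PicF.IsInvertible L),
      ii k (ClSub.idealMod (pt y)) (rep (PicGrp.cls L hL)) = ii k (ClSub.idealMod (pt y)) L := by
    intro L hL
    obtain ⟨e⟩ := (PicGrp.cls_eq_cls_iff (hrep _) hL).1 (hrepc (PicGrp.cls L hL)).symm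
    rw [ii_comm, ii_congr k e, ii_comm]
  let g : PicLoc.PicSet X →* Multiplicative ℚ := MonoidHom.mk'
    (fun c => Multiplicative.ofAdd (ii k (ClSub.idealMod (pt y)) (rep c))) fun a b => by
      show Multiplicative.ofAdd _ = Multiplicative.ofAdd _ * Multiplicative.ofAdd _
      rw [← ofAdd_add]
      congr 1
      have hab : a * b = PicGrp.cls (CohB1.tensorMod (rep a) (rep b))
          (Groth.L18.GenLoc.isInvertible_tensor (hrep a) (hrep b)) := by
        conv_lhs => rw [hrepc a, hrepc b]
        exact Subtype.ext (by rw [PicGrp.cls_mul_cls_val, PicGrp.cls_val])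
      rw [hab, hval, ii_tensor_right k hd.le hI (hrep a) (hrep b)]
  have hker : PicGrp.subCl (Y := X) (Pic13.IsNumEquivZero k X) ≤ g.ker := by
    refine (Subgroup.closure_le _).2 ?_
    rintro _ ⟨L, hL, hnum, rfl⟩
    show g _ = 1
    show Multiplicative.ofAdd _ = 1
    rw [hval, (numTriv_iff hd hreg hL).1 hnum y hy]
    rfl
  exact ⟨MonoidHom.toAdditiveLeft (QuotientGroup.lift _ g hker), fun L hL => hval L hL⟩

/-- Classes are separated by curves. -/
theorem eq_zero_of_deg (x : N1 k X) (h : ∀ (y : X) (hy : topologicalKrullDim (closure ({y} : Set X)) = (1 : ℕ))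
    (d : N1 k X →+ ℚ), (∀ (L : X.Modules) (hL : PicF.IsInvertible L),
      d (NumR.cl k X L hL) = ii k (ClSub.idealMod (pt y)) L) → d x = 0) : x = 0 := by
  obtain ⟨L, hL, rfl⟩ := NumR.exists_eq_cl x
  refine NumR.cl_eq_zero hL ((numTriv_iff hd hreg hL).2 fun y hy => ?_)
  obtain ⟨d, hdd⟩ := exists_deg_hom (k := k) hd hreg hy
  rw [← hdd L hL, h y hy d hdd]

end Groth.L03.BlowPt

namespace Groth.L03.BlowPt

variable {k : Type u} [Field k] [IsAlgClosed k] {X X' : Scheme.{u}} {x : X} {hx : IsClosed ({x} : Set X)} {b : X' ⟶ X}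
  [X.Over (Spec (CommRingCat.of k))] [IsProper (X ↘ Spec (CommRingCat.of k))]
  [X'.Over (Spec (CommRingCat.of k))] [IsProper (X' ↘ Spec (CommRingCat.of k))] [IsIntegral X] [IsIntegral X']

variable (hbo : b ≫ (X ↘ Spec (CommRingCat.of k)) = X' ↘ Spec (CommRingCat.of k))
  (hdim : topologicalKrullDim X = 2) (hreg : ∀ y : X, IsRegularLocalRing (X.presheaf.stalk y))
  (hb : BlowUp.IsBlowUp b (ptI hx))

include hbo hdim hreg hb

/-- Intersections with a curve upstairs away from the exceptional one. -/
theorem exists_curve_num {y : X'} (hy : topologicalKrullDim (closure ({y} : Set X')) = (1 : ℕ)) (hyx : b y ≠ x) :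
    topologicalKrullDim (closure ({b y} : Set X)) = (1 : ℕ) ∧
      ∃ m : ℕ, ∀ B : X'.Modules, PicF.IsInvertible B → ii k (ClSub.idealMod (pt y)) B =
        ii k ((Scheme.Modules.pullback b).obj (ClSub.idealMod (pt (b y)))) B -
          m * ii k (ClSub.idealMod (exc hx b)) B := by
  classical
  have hd : topologicalKrullDim X = (2 : ℕ) := hdim.trans Nat.cast_ofNat.symm
  haveI := Groth.L21.RR.isNoetherian_of_proper (X := X) k
  obtain ⟨D⟩ := exists_echart hb (hreg x) (ringKrullDim_stalk_closed k hd hx)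
  have hreg' := regular_up D hb hreg
  have hd' := dim_up k hd hb
  obtain ⟨a, c, ha, hc, hac⟩ := dim_closure_add k hd' y
  have ha1 : a = 1 := by exact_mod_cast ha.symm.trans hy
  obtain ⟨a', c', ha', hc', hac'⟩ := dim_closure_add k hd (b y)
  haveI := Groth.L22.Ideals.isIso_stalkMap hb y (fun h => hyx (by
    have h' : b y ∈ ((ptI hx).support : Set X) := h
    simpa [ptI] using h'))
  have hcc : c = c' := by
    have := ringKrullDim_eq_of_ringEquiv (asIso (b.stalkMap y)).commRingCatIsoToRingEquiv
    rw [hc, hc'] at this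
    exact_mod_cast this.symm
  have hξ : topologicalKrullDim (closure ({b y} : Set X)) = (1 : ℕ) := by
    rw [ha', show a' = 1 by omega]
  refine ⟨hξ, ?_⟩
  haveI := (curve_of_dim hξ).1
  haveI := (curve_of_dim hy).1
  have hCd := (curve_of_dim hξ).2.1
  have hC'd := (curve_of_dim hy).2.1
  set C := pt (b y)
  set C' := pt y
  have hgen : b (C'.subschemeι (genericPoint C'.subscheme)) = C.subschemeι (genericPoint C.subscheme) := by
    rw [(curve_of_dim hy).2.2, (curve_of_dim hξ).2.2]
  have hex : ∃ n, ¬ C ≤ ptI hx ^ n := by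
    by_contra hall
    push Not at hall
    haveI : IsNoetherianRing Γ(X, D.U.1) := IsLocallyNoetherian.component_noetherian D.U
    haveI : Nonempty D.U.1 := ⟨⟨x, D.mem⟩⟩
    have hbot : C.ideal D.U = ⊥ := by
      rw [eq_bot_iff, ← Ideal.iInf_pow_eq_bot_of_isDomain (Groth.L11.BlowSmooth.sI D.f) D.isMaximal.ne_top]
      refine le_iInf fun n => ?_
      have h := hall n D.U
      rwa [Scheme.IdealSheafData.ideal_pow, Pi.pow_apply, D.ideal_eq] at h
    have hmem : genericPoint X ∈ (C.support : Set X) := by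
      have hgU : genericPoint X ∈ D.U.1 :=
        (genericPoint_specializes x).mem_open D.U.1.2 D.mem
      rw [Groth.L22.CartierDecomp.mem_support_iff hgU, hbot]
      exact bot_le
    exact Groth.L03.SurfAmple.genericPoint_mem_of_isEffCartier
      ((Groth.Agent.L19.IdealInvertible.isEffCartier_iff C).1 (inv_curve (k := k) hd hreg hξ)) hmem
  have h0 : Nat.find hex ≠ 0 := fun h => by
    have := Nat.find_spec hex
    rw [h, pow_zero, Scheme.IdealSheafData.one_eq_top] at this
    exact this le_top
  obtain ⟨m, hm⟩ := Nat.exists_eq_succ_of_ne_zero h0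
  have hle : C ≤ ptI hx ^ m := by
    by_contra h
    have := Nat.find_min' hex h
    omega
  have hnle : ¬ C ≤ ptI hx ^ (m + 1) := by
    have := Nat.find_spec hex
    rwa [hm] at this
  refine ⟨m, (strict_num k hbo hdim hreg (hd'.trans Nat.cast_ofNat) hb
    ((Groth.Agent.L19.IdealInvertible.isEffCartier_iff C).1 (inv_curve (k := k) hd hreg hξ))
    ((Groth.Agent.L19.IdealInvertible.isEffCartier_iff C').1 (inv_curve (k := k) hd' hreg' hy)) m
    (comap_eq_strict k hdim hreg hb hCd hC'd hgen m hle hnle)).2.2⟩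

open TensorProduct in
/-- Numerical classes upstairs: those from downstairs and the exceptional class. -/
theorem numR_blowup [PicGrp.Law X] [PicGrp.Law X'] (hπm : PicGrp.PullMul b)
    [Module.Finite ℝ (NumR.N1R k X)] {H' : X'.Modules} (hH' : CohB1.IsAmple H') :
    Module.Finite ℝ (NumR.N1R k X') ∧
      Module.finrank ℝ (NumR.N1R k X') = Module.finrank ℝ (NumR.N1R k X) + 1 := by
  classical
  have hd : topologicalKrullDim X = (2 : ℕ) := hdim.trans Nat.cast_ofNat.symm
  haveI := Groth.L21.RR.isNoetherian_of_proper (X := X) k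
  haveI := Groth.L21.RR.isNoetherian_of_proper (X := X') k
  obtain ⟨D⟩ := exists_echart hb (hreg x) (ringKrullDim_stalk_closed k hd hx)
  have hreg' := regular_up D hb hreg
  have hd' := dim_up k hd hb
  obtain ⟨hI, hpp, horth, hII⟩ := rules k hbo hd (hreg x) hd' hb
  rw [ptDeg_eq_one] at hII
  push_cast at hII
  haveI := D.isIntegral
  set η := eι hx b (genericPoint (exc hx b).subscheme)
  have hEpt : exc hx b = pt η := eq_pt (exc hx b)
  have hη : topologicalKrullDim (closure ({η} : Set X')) = (1 : ℕ) := by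
    rw [dim_closure_image (eι hx b), D.dim_eq, Nat.cast_one]
  have hon : ∀ y : X', topologicalKrullDim (closure ({y} : Set X')) = (1 : ℕ) → b y = x → y = η := by
    intro y hy hyx
    by_contra hne
    have hys : y ∈ ((exc hx b).support : Set X') := by
      rw [show (exc hx b).support = (ptI hx).support.preimage b.continuous from
        Scheme.IdealSheafData.support_comap _ _]
      show b y ∈ ((ptI hx).support : Set X)
      simpa [ptI] using hyx
    have h2 := Groth.L22.CartierDecomp.two_le_dim hb.1 hys fun z hz h =>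
      hne (h.trans (hz.eq (isGenericPoint_ι (exc hx b))))
    obtain ⟨a, c, ha, hc, hac⟩ := dim_closure_add k hd' y
    have : a = 1 := by exact_mod_cast ha.symm.trans hy
    rw [hc, show c = 1 by omega] at h2
    norm_num at h2
  have hnum : ∀ (L : X.Modules), PicF.IsInvertible L → Pic13.IsNumEquivZero k X L →
      Pic13.IsNumEquivZero k X' ((Scheme.Modules.pullback b).obj L) := by
    intro L hL hn
    have hLp := Groth.L18.Ample.isInvertible_pullback b hL
    rw [numTriv_iff hd' hreg' hLp]
    intro y hy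
    by_cases hyx : b y = x
    · rw [hon y hy hyx, ← hEpt]
      exact horth hL
    · obtain ⟨hξ, m, hm⟩ := exists_curve_num hbo hdim hreg hb hy hyx
      rw [hm _ hLp, hpp (inv_curve (k := k) hd hreg hξ) hL, (numTriv_iff hd hreg hL).1 hn _ hξ, horth hL]
      ring
  -- pullback of numerical classes
  let g : PicLoc.PicSet X →* PicGrp.modCl (Y := X') (Pic13.IsNumEquivZero k X') :=
    (QuotientGroup.mk' _).comp (PicGrp.pullHom b hπm)
  have hgker : PicGrp.subCl (Y := X) (Pic13.IsNumEquivZero k X) ≤ g.ker := by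
    refine (Subgroup.closure_le _).2 ?_
    rintro _ ⟨L, hL, hn, rfl⟩
    show QuotientGroup.mk' _ (PicGrp.pullHom b hπm _) = 1
    rw [PicGrp.pullHom_cls]
    exact (QuotientGroup.eq_one_iff _).2 (PicGrp.cls_mem_subCl _ (hnum L hL hn))
  let Φ : N1 k X →+ N1 k X' := MonoidHom.toAdditive (QuotientGroup.lift _ g hgker)
  have hΦ : ∀ (L : X.Modules) (hL : PicF.IsInvertible L),
      Φ (NumR.cl k X L hL) = NumR.cl k X' _ (PicLoc.isInvertible_pullback b hL) := fun L hL =>
    congrArg (fun t => Additive.ofMul (QuotientGroup.mk' _ t)) (PicGrp.pullHom_cls b hπm L hL)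
  let e : N1 k X' := NumR.cl k X' _ hI
  let Ψ : N1 k X × ℤ →+ N1 k X' := Φ.coprod (zmultiplesHom _ e)
  have hΨ : ∀ a n, Ψ (a, n) = Φ a + n • e := fun a n => rfl
  have hpt : ∀ {y : X'}, b y ≠ x → ∀ (d : N1 k X' →+ ℚ), (∀ (L : X'.Modules) (hL : PicF.IsInvertible L),
      d (NumR.cl k X' L hL) = ii k (ClSub.idealMod (pt y)) L) → ∀ (hy : topologicalKrullDim (closure ({y} : Set X')) = (1 : ℕ))
      (L : X.Modules) (hL : PicF.IsInvertible L),
      d (Φ (NumR.cl k X L hL)) = ii k (ClSub.idealMod (pt (b y))) L := by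
    intro y hyx d hd1 hy L hL
    obtain ⟨hξ, m, hm⟩ := exists_curve_num hbo hdim hreg hb hy hyx
    rw [hΦ, hd1, hm _ (Groth.L18.Ample.isInvertible_pullback b hL), hpp (inv_curve (k := k) hd hreg hξ) hL, horth hL]
    ring
  have hinj : Function.Injective Ψ := by
    refine (injective_iff_map_eq_zero Ψ).2 ?_
    rintro ⟨a, n⟩ h0
    rw [hΨ] at h0
    obtain ⟨L, hL, rfl⟩ := NumR.exists_eq_cl a
    obtain ⟨d, hdd⟩ := exists_deg_hom (k := k) hd' hreg' hη
    have h := congrArg d h0
    rw [map_add, map_zsmul, hΦ, hdd, hdd, ← hEpt, hII, map_zero, horth hL] at h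
    have hn : n = 0 := by
      have : (n : ℚ) = 0 := by simpa [zsmul_eq_mul] using h
      exact_mod_cast this
    subst hn
    rw [zero_zsmul, add_zero] at h0
    refine Prod.ext ?_ rfl
    refine eq_zero_of_deg hd hreg _ fun ξ hξ d₀ hd₀ => ?_
    have hξx : ξ ≠ x := fun h => by
      subst h
      rw [hx.closure_eq] at hξ
      have := topologicalKrullDim_zero_of_discreteTopology ({ξ} : Set X)
      rw [hξ] at this
      norm_num at this
    have hns : ξ ∉ (ptI hx).support := fun h => hξx (by
      have h' : ξ ∈ ((ptI hx).support : Set X) := h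
      simpa [ptI] using h')
    haveI := Groth.L22.Ideals.isIso_restrict_compl hb
    obtain ⟨⟨y, hyW⟩, hyξ⟩ : ∃ z, (b ∣_ (ptI hx).support.compl) z = (⟨ξ, hns⟩ : (ptI hx).support.compl) :=
      (Scheme.homeoOfIso (asIso (b ∣_ (ptI hx).support.compl))).surjective _
    have hby : b y = ξ := (morphismRestrict_base_coe b _ ⟨y, hyW⟩).symm.trans (congrArg Subtype.val hyξ)
    subst hby
    haveI := Groth.L22.Ideals.isIso_stalkMap hb y hns
    obtain ⟨a, c, ha, hc, hac⟩ := dim_closure_add k hd' y
    obtain ⟨a', c', ha', hc', hac'⟩ := dim_closure_add k hd (b y)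
    have hcc : c = c' := by
      have := ringKrullDim_eq_of_ringEquiv (asIso (b.stalkMap y)).commRingCatIsoToRingEquiv
      rw [hc, hc'] at this
      exact_mod_cast this.symm
    have ha'1 : a' = 1 := by exact_mod_cast ha'.symm.trans hξ
    have hy : topologicalKrullDim (closure ({y} : Set X')) = (1 : ℕ) := by
      rw [ha, show a = 1 by omega]
    obtain ⟨d', hd'd⟩ := exists_deg_hom (k := k) hd' hreg' hy
    have h := congrArg d' h0
    rw [hpt hξx d' hd'd hy L hL, map_zero] at h
    rw [hd₀, h]
  have hsurj : Function.Surjective Ψ := by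
    have hcurve : ∀ y : X', ∀ hy : topologicalKrullDim (closure ({y} : Set X')) = (1 : ℕ),
        NumR.cl k X' _ (inv_curve (k := k) hd' hreg' hy) ∈ Ψ.range := by
      intro y hy
      by_cases hyx : b y = x
      · refine ⟨(0, 1), ?_⟩
        rw [hΨ, map_zero, zero_add, one_zsmul]
        have := hon y hy hyx
        subst this
        simp only [e, hEpt]
      · obtain ⟨hξ, m, hm⟩ := exists_curve_num hbo hdim hreg hb hy hyx
        refine ⟨(NumR.cl k X _ (inv_curve (k := k) hd hreg hξ), -(m : ℤ)), ?_⟩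
        rw [hΨ, ← sub_eq_zero]
        refine eq_zero_of_deg hd' hreg' _ fun z hz dz hdz => ?_
        have hIz := inv_curve (k := k) hd' hreg' hz
        rw [map_sub, map_add, map_zsmul, hΦ, hdz, hdz, hdz, zsmul_eq_mul,
          ii_comm k _ (ClSub.idealMod (pt y)), hm _ hIz, ii_comm k (ClSub.idealMod (pt z)) ((Scheme.Modules.pullback b).obj _),
          ii_comm k (ClSub.idealMod (pt z)) (ClSub.idealMod (exc hx b))]
        push_cast
        ring
    have heff : ∀ {N : X'.Modules} (hN : PicF.IsInvertible N) (s : Coh.structureModule X' ⟶ N),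
        genericPoint X' ∈ CohB1.genLocus N s → NumR.cl k X' N hN ∈ Ψ.range := by
      intro N hN s hs
      obtain ⟨T, m, hT, -, hsum⟩ := exists_sum_curves k hd'.le hN s hs
      have key : NumR.cl k X' N hN = ∑ y ∈ T.attach, (-(m y.1 : ℤ)) • NumR.cl k X' _ (inv_curve (k := k) hd' hreg' (hT y.1 y.2).1) := by
        rw [← sub_eq_zero]
        refine eq_zero_of_deg hd' hreg' _ fun z hz dz hdz => ?_
        have hIz := inv_curve (k := k) hd' hreg' hz
        rw [map_sub, map_sum, hdz, ii_comm, hsum _ hIz, ← Finset.sum_attach T, ← Finset.sum_sub_distrib]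
        refine Finset.sum_eq_zero fun y _ => ?_
        rw [map_zsmul, hdz, altT_quotMod_eq k hIz _ (inv_curve (k := k) hd' hreg' (hT y.1 y.2).1),
          ii_comm k (ClSub.idealMod (pt z)), zsmul_eq_mul]
        push_cast
        ring
      rw [key]
      exact AddSubgroup.sum_mem _ fun y _ => AddSubgroup.zsmul_mem _ (hcurve y.1 (hT y.1 y.2).1) _
    intro c
    obtain ⟨L, hL, rfl⟩ := NumR.exists_eq_cl c
    obtain ⟨n, hn⟩ := Groth.L18.Ample.exists_forall_isGloballyGenerated hH' L (Groth.L18.Ample.isCoh_of_isInvertible hL)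
    obtain ⟨n', hn'⟩ := Groth.L18.Ample.exists_forall_isGloballyGenerated hH' (Coh.structureModule X')
      Groth.L16.CohClosedPush.isCoh_structure
    set N := max n n'
    have hP := Groth.L18.Ample.isInvertible_tensorPow hH'.1 N
    have h1 := Groth.L18.GenLoc.isInvertible_tensor hL hP
    have h2 := Groth.L18.GenLoc.isInvertible_tensor (Groth.L18.Ample.isInvertible_structureModule X') hP
    obtain ⟨s, hs⟩ := Groth.L18.Ample.exists_genLocus_mem_of_gg h1 (hn N (le_max_left _ _)) (genericPoint X')
    obtain ⟨t, ht⟩ := Groth.L18.Ample.exists_genLocus_mem_of_gg h2 (hn' N (le_max_right _ _)) (genericPoint X')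
    have key : NumR.cl k X' L hL = NumR.cl k X' _ h1 - NumR.cl k X' _ h2 := by
      rw [← sub_eq_zero]
      refine eq_zero_of_deg hd' hreg' _ fun z hz dz hdz => ?_
      have hIz := inv_curve (k := k) hd' hreg' hz
      rw [map_sub, map_sub, hdz, hdz, hdz, ii_tensor_right k hd'.le hIz hL hP,
        ii_tensor_right k hd'.le hIz (Groth.L18.Ample.isInvertible_structureModule X') hP,
        ii_comm k _ (Coh.structureModule X'),
        show ii k (Coh.structureModule X') (ClSub.idealMod (pt z)) = 0 from altT_unit k _]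
      ring
    exact key ▸ AddSubgroup.sub_mem _ (heff h1 s hs) (heff h2 t ht)
  let E : (N1 k X × ℤ) ≃ₗ[ℤ] N1 k X' := (AddEquiv.ofBijective Ψ ⟨hinj, hsurj⟩).toIntLinearEquiv
  let F : (ℝ ⊗[ℤ] N1 k X') ≃ₗ[ℝ] (ℝ ⊗[ℤ] N1 k X) × ℝ :=
    (LinearEquiv.baseChange ℤ ℝ _ _ E).symm ≪≫ₗ TensorProduct.prodRight ℤ ℝ ℝ (N1 k X) ℤ ≪≫ₗ
      (LinearEquiv.refl ℝ _).prodCongr (TensorProduct.AlgebraTensorModule.rid ℤ ℝ ℝ)
  let F' : NumR.N1R k X' ≃ₗ[ℝ] NumR.N1R k X × ℝ := F
  refine ⟨Module.Finite.equiv F'.symm, ?_⟩
  rw [F'.finrank_eq, Module.finrank_prod, Module.finrank_self]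

end Groth.L03.BlowPt
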