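import Groth.Agent.L03.BlowPt.Multi
import Groth.Agent.L03.BlowPt.Rules
import Groth.Agent.L03.BlowPt.Numeric
import Groth.Agent.L03.BlowAcyc.Points
import Groth.Agent.L22.PDual.EnriquesSeveri
import Groth.Agent.L03.SurfAmple.Config
import Groth.Agent.L03.SurfNum.NegDef
import Groth.Agent.L03.SurfAdj.Tools

/-!
# Blow-ups of surfaces at finitely many points
-/

set_option autoImplicit false
set_option linter.style.haveILetI false
set_option backward.isDefEq.respectTransparency false
set_option linter.unusedSectionVars false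

universe u

open CategoryTheory CategoryTheory.Limits AlgebraicGeometry TopologicalSpace
open Groth.L22.Inter Groth.L22.Nef Groth.L22.Big Groth.L03.Euler Groth.L03.SurfNum
open Groth.L11.BlowSmooth (sI sh)

noncomputable section

namespace Groth.L03.BlowPt.MultiExc

open Groth.L03.BlowPt

variable (k : Type u) [Field k] [IsAlgClosed k] {X X' : Scheme.{u}} [X.Over (Spec (CommRingCat.of k))]
  [IsIntegral X] [IsProper (X ↘ (Spec (CommRingCat.of k)))]
  (hd : topologicalKrullDim X = (2 : ℕ)) (hreg : ∀ x : X, IsRegularLocalRing (X.presheaf.stalk x))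
  {σ : X' ⟶ X} {r : ℕ} {P : Fin r → X}
  (hP : Function.Injective P) (hPc : ∀ i, IsClosed ({P i} : Set X)) {hZ : IsClosed (Set.range P)}
  (hσ : BlowUp.IsBlowUp σ (Scheme.IdealSheafData.vanishingIdeal ⟨Set.range P, hZ⟩))

include k hd hPc in
/-- The centre is not everything. -/
theorem vanishingIdeal_ne_bot : Scheme.IdealSheafData.vanishingIdeal (⟨Set.range P, hZ⟩ : Closeds X) ≠ ⊥ := by
  intro h
  have h1 : (Set.range P : Set X) = Set.univ := by
    have := congrArg (fun I : X.IdealSheafData => (I.support : Set X)) h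
    simpa [hZ.closure_eq] using this
  haveI : Finite X := Set.finite_univ_iff.1 (h1 ▸ Set.finite_range P)
  haveI : T1Space X := ⟨fun w => by
    obtain ⟨i, rfl⟩ := h1.ge (Set.mem_univ w)
    exact hPc i⟩
  have h2 := topologicalKrullDim_zero_of_discreteTopology X
  rw [hd] at h2
  norm_num at h2

include k hd hPc hσ in
/-- The blow-up is integral and proper over the surface. -/
theorem integral_proper : IsIntegral X' ∧ IsProper σ := by
  haveI := Groth.L21.RR.isNoetherian_of_proper (X := X) k
  obtain ⟨h, -, -⟩ := Groth.L16.Blow.isIntegral_and_birational hσ (vanishingIdeal_ne_bot k hd hPc)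
  exact ⟨h, Groth.L13.BU.isProper_blowUp hσ fun U =>
    haveI : IsNoetherianRing Γ(X, U.1) := IsLocallyNoetherian.component_noetherian U
    IsNoetherian.noetherian _⟩

include k hd hreg hP hPc hσ in
/-- Charts over each centre. -/
theorem nonempty_echart (i : Fin r) :
    Nonempty (EChart (hPc i) σ) ∧ PicF.IsInvertible (ClSub.idealMod (exc (hPc i) σ)) := by
  haveI := Groth.L21.RR.isNoetherian_of_proper (X := X) k
  obtain ⟨D, -⟩ := Groth.L03.BlowAcyc.nonempty_pointCharts P hP hPc hZ 1
    (fun t => hreg _) (fun t => ringKrullDim_stalk_closed k hd (hPc t))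
    (fun _ => ⊤) (fun _ => trivial)
  exact ⟨exists_echart_of_chart (hPc i) σ hσ (D.U i) (D.f i) (D.mem i) (D.qreg i) (D.ideal i) (D.pt i),
    Groth.L03.BlowAcyc.isInvertible_ptExc hσ D i⟩

include hσ in
/-- Off the centres the blow-up is injective. -/
theorem injective_off {a b : X'} (h : σ a = σ b) (ha : σ a ∉ Set.range P) : a = b := by
  let U : X.Opens := (Scheme.IdealSheafData.vanishingIdeal ⟨Set.range P, hZ⟩).support.compl
  haveI : IsIso (σ ∣_ U) := Groth.L22.Ideals.isIso_restrict_compl hσ
  have hU : σ a ∈ U := by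
    show σ a ∉ ((Scheme.IdealSheafData.vanishingIdeal ⟨Set.range P, hZ⟩).support : Set _)
    rw [Groth.L18.support_vanishingIdeal]; exact ha
  have hU' : σ b ∈ U := h ▸ hU
  exact congrArg Subtype.val ((σ ∣_ U).homeomorph.injective (a₁ := ⟨a, hU⟩) (a₂ := ⟨b, hU'⟩)
    (Subtype.ext (by simpa [morphismRestrict_base_coe] using h)))

include k hd hreg hP hPc hσ in
/-- The blow-up is regular. -/
theorem regular_up (z : X') : IsRegularLocalRing (X'.presheaf.stalk z) := by
  haveI := Groth.L21.RR.isNoetherian_of_proper (X := X) k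
  by_cases hz : σ z ∈ Set.range P
  · obtain ⟨i, hi⟩ := hz
    obtain ⟨D⟩ := (nonempty_echart k hd hreg hP hPc hσ i).1
    have hmem : z ∈ ((exc (hPc i) σ).support : Set X') := by
      rw [show (exc (hPc i) σ).support = (ptI (hPc i)).support.preimage σ.continuous from
        Scheme.IdealSheafData.support_comap _ _]
      show σ z ∈ ((ptI (hPc i)).support : Set X)
      simpa [ptI] using hi.symm
    rw [← Scheme.IdealSheafData.range_subschemeι] at hmem
    obtain ⟨e, rfl⟩ := hmem
    obtain ⟨l, w, rfl⟩ := D.q_cover e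
    haveI := D.C_open l
    have hq : (D.q l ≫ eι (hPc i) σ) w = D.C l (Spec.map (CommRingCat.ofHom (ecMk D.f l)) w) := by
      rw [D.q_comp l, Scheme.Hom.comp_apply]
    rw [Scheme.Hom.comp_apply] at hq
    rw [hq]
    haveI : IsNoetherianRing Γ(X, D.U.1) := IsLocallyNoetherian.component_noetherian D.U
    let v := Spec.map (CommRingCat.ofHom (ecMk D.f l)) w
    have hmem : sh D.f l (D.f l) ∈ v.asIdeal := by
      show ecMk D.f l (sh D.f l (D.f l)) ∈ w.asIdeal
      rw [show ecMk D.f l (sh D.f l (D.f l)) = 0 from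
        Ideal.Quotient.eq_zero_iff_mem.2 (Ideal.mem_map_of_mem _ (Ideal.subset_span ⟨l, rfl⟩))]
      exact zero_mem _
    haveI := Groth.Agent.L13.BlowTwo.regular_chart D.f D.isMaximal D.qreg l v.asIdeal hmem
    exact IsRegularLocalRing.of_ringEquiv
      ((Spec.stalkIso _ v).commRingCatIsoToRingEquiv.symm.trans
        (asIso ((D.C l).stalkMap v)).commRingCatIsoToRingEquiv.symm)
  · haveI := Groth.L22.Ideals.isIso_stalkMap hσ z (fun h => hz (by
      have h' : σ z ∈ ((Scheme.IdealSheafData.vanishingIdeal ⟨Set.range P, hZ⟩).support : Set X) := h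
      rwa [Groth.L18.support_vanishingIdeal] at h'))
    haveI := hreg (σ z)
    exact IsRegularLocalRing.of_ringEquiv (asIso (σ.stalkMap z)).commRingCatIsoToRingEquiv

variable [X'.Over (Spec (CommRingCat.of k))] [IsProper (X' ↘ (Spec (CommRingCat.of k)))] [IsIntegral X']
  (hσk : σ ≫ (X ↘ Spec (CommRingCat.of k)) = X' ↘ (Spec (CommRingCat.of k)))

include k hd hPc hσ in
/-- The blow-up is a surface. -/
theorem dim_up : topologicalKrullDim X' = (2 : ℕ) := by
  obtain ⟨m, hm, -, hopen⟩ := Groth.L22.SchemeDim.exists_dim_eq_trdeg k X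
  obtain ⟨m', hm', -, hopen'⟩ := Groth.L22.SchemeDim.exists_dim_eq_trdeg k X'
  let I := Scheme.IdealSheafData.vanishingIdeal (⟨Set.range P, hZ⟩ : Closeds X)
  let W : X.Opens := I.support.compl
  have hW : (W : Set X).Nonempty := by
    by_contra h
    rw [Set.not_nonempty_iff_eq_empty] at h
    refine vanishingIdeal_ne_bot k hd hPc (hZ := hZ) ?_
    exact (Scheme.IdealSheafData.support_eq_top_iff).1 (TopologicalSpace.Closeds.ext (Set.compl_empty_iff.1 h))
  haveI := Groth.L22.Ideals.isIso_restrict_compl hσ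
  obtain ⟨y, hy⟩ := hW
  let h := Scheme.homeoOfIso (asIso (σ ∣_ I.support.compl))
  have hne : ((σ ⁻¹ᵁ W : X'.Opens) : Set X').Nonempty := ⟨(h.symm ⟨y, hy⟩).1, (h.symm ⟨y, hy⟩).2⟩
  rw [hm', ← hopen' _ hne, ← hd, hm, ← hopen W ⟨y, hy⟩]
  exact h.isHomeomorph.topologicalKrullDim_eq

include k hd hσ hσk hPc in
/-- Pullback preserves intersection numbers. -/
theorem ii_pullback {L M : X.Modules} (hL : PicF.IsInvertible L) (hM : PicF.IsInvertible M) :
    ii k ((Scheme.Modules.pullback σ).obj L) ((Scheme.Modules.pullback σ).obj M) = ii k L M := by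
  have hdim' := dim_up k hd hPc hσ
  obtain ⟨_, he, hiso⟩ := Groth.L16.Blow.isIntegral_and_birational hσ (vanishingIdeal_ne_bot k hd hPc)
  haveI := hiso
  haveI := (integral_proper k hd hPc hσ).2
  have h := altT_pullback k σ hσk he hdim' (L := ![L, M]) fun i => by fin_cases i <;> assumption
  rw [residueDegree_eq_one_of_isIso, Nat.cast_one, one_mul, ii_vec] at h
  refine Eq.trans ?_ h
  rw [← ii_vec]
  exact congrArg (fun F => altT k F (Coh.structureModule X')) (funext fun i => by fin_cases i <;> rfl)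

include k hd hreg hP hPc hσ hσk in
/-- The numbers of an exceptional curve. -/
theorem exc_facts (i : Fin r) :
    ∃ y : X', topologicalKrullDim (closure ({y} : Set X')) = (1 : ℕ) ∧ exc (hPc i) σ = pt y ∧
      (∀ w : X', w ∈ closure ({y} : Set X') ↔ σ w = P i) ∧
      PicF.IsInvertible (ClSub.idealMod (pt y)) ∧
      (∀ {L : X.Modules}, PicF.IsInvertible L →
        ii k (ClSub.idealMod (pt y)) ((Scheme.Modules.pullback σ).obj L) = 0) ∧
      ii k (ClSub.idealMod (pt y)) (ClSub.idealMod (pt y)) = -1 := by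
  haveI := Groth.L21.RR.isNoetherian_of_proper (X := X) k
  haveI := Groth.L21.RR.isNoetherian_of_proper (X := X') k
  obtain ⟨⟨E⟩, hE⟩ := nonempty_echart k hd hreg hP hPc hσ i
  haveI := E.isIntegral
  let C := exc (hPc i) σ
  let y : X' := C.subschemeι (genericPoint C.subscheme)
  have hy : C = pt y := eq_pt C
  have hdy : topologicalKrullDim (closure ({y} : Set X')) = (1 : ℕ) := by
    rw [dim_closure_image C.subschemeι, E.dim_eq, Nat.cast_one]
  have hmem : ∀ w : X', w ∈ closure ({y} : Set X') ↔ σ w = P i := by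
    intro w
    rw [← range_eq_closure C.subschemeι, Scheme.IdealSheafData.range_subschemeι,
      show C.support = (ptI (hPc i)).support.preimage σ.continuous from Scheme.IdealSheafData.support_comap _ _]
    show σ w ∈ ((ptI (hPc i)).support : Set _) ↔ _
    simp [ptI]
  obtain ⟨h1, h2⟩ := E.ii_exc k hσk (dim_up k hd hPc hσ) hE
  rw [ptDeg_eq_one] at h2
  push_cast at h2
  exact ⟨y, hdy, hy, hmem, hy ▸ hE, fun {L} hL => hy ▸ h1 hL, hy ▸ h2⟩

include k hd hreg hP hPc hσ hσk in
/-- Exceptional curves over different points do not meet. -/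
theorem exc_disjoint {i l : Fin r} (hil : i ≠ l) :
    ii k (ClSub.idealMod (exc (hPc i) σ)) (ClSub.idealMod (exc (hPc l) σ)) = 0 := by
  obtain ⟨y, hy, ey, hmy, hIy, -⟩ := exc_facts k hd hreg hP hPc hσ hσk i
  obtain ⟨z, hz, ez, hmz, hIz, -⟩ := exc_facts k hd hreg hP hPc hσ hσk l
  rw [ey, ez]
  refine ii_eq_zero_of_disjoint k (dim_up k hd hPc hσ).le hIy hz hIz fun w hw hw' => hil (hP ?_)
  rw [Groth.L18.support_vanishingIdeal] at hw'
  exact ((hmy w).1 hw').symm.trans ((hmz w).1 hw)

include k hd hreg hP hPc hσ hσk in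
/-- A curve contracted to a point is exceptional. -/
theorem eq_exc_of_contracted {y : X'} (hy : topologicalKrullDim (closure ({y} : Set X')) = (1 : ℕ))
    (hc : IsClosed ({σ y} : Set X)) : ∃ i, exc (hPc i) σ = pt y := by
  have hall : ∀ w ∈ closure ({y} : Set X'), σ w = σ y := fun w hw =>
    hc.closure_eq.subset (specializes_iff_mem_closure.1 ((specializes_iff_mem_closure.2 hw).map σ.continuous))
  have hmem : σ y ∈ Set.range P := by
    by_contra hn
    have hss : closure ({y} : Set X') = {y} := by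
      refine Set.eq_singleton_iff_unique_mem.2 ⟨subset_closure rfl, fun w hw => ?_⟩
      exact (injective_off hσ (hall w hw).symm hn).symm
    have h0 := topologicalKrullDim_zero_of_discreteTopology ({y} : Set X')
    rw [hss] at hy
    rw [hy] at h0
    exact absurd h0 (by norm_num)
  obtain ⟨i, hi⟩ := hmem
  obtain ⟨z, hz, ez, hmz, -⟩ := exc_facts k hd hreg hP hPc hσ hσk i
  have hyz : z = y := eq_of_specializes_top isClosed_closure hz.le hy (subset_closure (Set.mem_singleton z))
    (specializes_iff_mem_closure.2 ((hmz y).2 hi.symm))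
  exact ⟨i, ez.trans (by rw [hyz])⟩

end Groth.L03.BlowPt.MultiExc
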