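import Groth.Agent.L03.BlowPt.MultiThick
import Groth.Agent.L03.Euler.Twist
import Groth.Agent.L13.PairBlow.EndSheaf
import Groth.Agent.L13.PairBlow.Points
import Groth.Agent.L13.LerayFive.Lengths
import Groth.Agent.L16.Exist.PropSupp
import Groth.Agent.L17.BC.Bc0Apply
import Groth.Agent.L22.Big.Support
import Groth.Agent.L22.Inter.Point
import Groth.Agent.L21.RR.Twist

/-!
# The first higher direct image of the twists by multiples of the exceptional curves
-/

set_option autoImplicit false
set_option linter.style.haveILetI false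
set_option backward.isDefEq.respectTransparency false
set_option linter.unusedSectionVars false
set_option maxHeartbeats 800000

universe u

open CategoryTheory CategoryTheory.Limits AlgebraicGeometry TopologicalSpace
open Groth.L22.Inter Groth.L22.Nef Groth.L22.Big Groth.L03.Euler Groth.L03.SurfNum
open Groth.L00.Tensor (tensorIso tensorComm tensorUnitLeft tensorUnitRight tensorAssoc)

noncomputable section

namespace Groth.L03.BlowPt.MultiExc

open Groth.L03.BlowPt

/-- A map of first higher direct images is bijective when the kernel is acyclic. -/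
theorem isIso_Rpush_map_g {X X' : Scheme.{u}} (σ : X' ⟶ X) [HasInjectiveResolutions X'.Modules]
    {S : ShortComplex X'.Modules} (hS : S.ShortExact) (h1 : IsZero ((Coh.Rpush σ 1).obj S.X₁))
    (h2 : IsZero ((Coh.Rpush σ 2).obj S.X₁)) : IsIso ((Coh.Rpush σ 1).map S.g) := by
  haveI := Groth.L17.PushQCoh.additive_push σ
  obtain ⟨Δ⟩ := Groth.L17.BC.Classes.nonempty_derivedLES σ
  haveI : Mono ((Coh.Rpush σ 1).map S.g) := (Δ.exact₂ _ hS 1).mono_g (h1.eq_of_src _ _)
  haveI : Epi ((Coh.Rpush σ 1).map S.g) := (Δ.exact₃ _ hS 1 2 rfl).epi_f (h2.eq_of_tgt _ _)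
  exact isIso_of_mono_of_epi _

variable (k : Type u) [Field k] [IsAlgClosed k] {X X' : Scheme.{u}} [X.Over (Spec (CommRingCat.of k))]
  [IsIntegral X] [IsProper (X ↘ (Spec (CommRingCat.of k)))]
  (hd : topologicalKrullDim X = (2 : ℕ)) (hreg : ∀ x : X, IsRegularLocalRing (X.presheaf.stalk x))
  {σ : X' ⟶ X} {r : ℕ} {P : Fin r → X}
  (hP : Function.Injective P) (hPc : ∀ i, IsClosed ({P i} : Set X)) {hZ : IsClosed (Set.range P)}
  (hσ : BlowUp.IsBlowUp σ (Scheme.IdealSheafData.vanishingIdeal ⟨Set.range P, hZ⟩))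
  [X'.Over (Spec (CommRingCat.of k))] [IsProper (X' ↘ (Spec (CommRingCat.of k)))] [IsIntegral X']
  (hσk : σ ≫ (X ↘ Spec (CommRingCat.of k)) = X' ↘ (Spec (CommRingCat.of k)))

include k hd hreg hP hPc hσ hσk

/-- Numbers of the thickenings of the exceptional curves. -/
theorem quot_num (e : Fin r → ℕ) :
    (Curv2.euler k X' (ClSub.quotMod (∏ l, exc (hPc l) σ ^ e l)) : ℚ) = ∑ l, ((e l + 1).choose 2 : ℚ) ∧
      ∀ {A : X'.Modules}, PicF.IsInvertible A → ii k (ClSub.idealMod (∏ l, exc (hPc l) σ ^ e l)) A =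
        ∑ l, (e l : ℚ) * ii k (ClSub.idealMod (exc (hPc l) σ)) A := by
  classical
  haveI := Groth.L21.RR.isNoetherian_of_proper (X := X') k
  have hd' := dim_up k hd hPc hσ
  have hE : ∀ l, BlowUp.IsEffCartierIdeal (exc (hPc l) σ) := fun l =>
    (Groth.Agent.L19.IdealInvertible.isEffCartier_iff _).1 (nonempty_echart k hd hreg hP hPc hσ l).2
  induction hn : ∑ l, e l generalizing e with
  | zero =>
    have he : ∀ l, e l = 0 := fun l => (Finset.sum_eq_zero_iff.1 hn) l (Finset.mem_univ l)
    rw [Finset.prod_eq_one fun l _ => by rw [he l, pow_zero]]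
    obtain ⟨u⟩ := Groth.L03.BlowPt.nonempty_idealMod_one (X := X')
    have h1 : BlowUp.IsEffCartierIdeal (1 : X'.IdealSheafData) := Groth.L22.Ideals.isEffCartier_top
    refine ⟨?_, fun {A} hA => ?_⟩
    · have h := euler_quot_mul k (X := X') h1 h1
      rw [one_mul, ii_congr k u, show ii k (Coh.structureModule X') (ClSub.idealMod (1 : X'.IdealSheafData)) = 0 from
        altT_unit k _] at h
      simp only [he, zero_add, Nat.choose_succ_self, Nat.cast_zero, Finset.sum_const_zero]
      linarith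
    · rw [ii_congr k u]
      simp only [he, Nat.cast_zero, zero_mul, Finset.sum_const_zero]
      exact altT_unit k _
  | succ n ih =>
    obtain ⟨i, -, hi⟩ := Finset.exists_ne_zero_of_sum_ne_zero (hn.trans_ne n.succ_ne_zero)
    obtain ⟨c, hc⟩ := Nat.exists_eq_succ_of_ne_zero hi
    set e' := Function.update e i c with he'
    have hei : e' i = c := by rw [he', Function.update_self]
    have heo : ∀ l ∈ Finset.univ.erase i, e' l = e l := fun l hl => by
      rw [he', Function.update_of_ne (Finset.ne_of_mem_erase hl)]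
    have hsum' : ∑ l, e' l = n := by
      have h1 : e i + ∑ l ∈ Finset.univ.erase i, e l = ∑ l, e l := Finset.add_sum_erase _ _ (Finset.mem_univ i)
      have h2 : e' i + ∑ l ∈ Finset.univ.erase i, e' l = ∑ l, e' l := Finset.add_sum_erase _ _ (Finset.mem_univ i)
      have h3 : ∑ l ∈ Finset.univ.erase i, e' l = ∑ l ∈ Finset.univ.erase i, e l := Finset.sum_congr rfl heo
      rw [h3, hei] at h2
      omega
    obtain ⟨hD, hDii⟩ := ii_prod_exc k hd hreg hP hPc hσ hσk e'
    obtain ⟨hχ, hlin⟩ := ih e' hsum'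
    have hprod : ∏ l, exc (hPc l) σ ^ e l = (∏ l, exc (hPc l) σ ^ e' l) * exc (hPc i) σ := by
      rw [← Finset.mul_prod_erase _ _ (Finset.mem_univ i),
        ← Finset.mul_prod_erase _ (fun l => exc (hPc l) σ ^ e' l) (Finset.mem_univ i),
        Finset.prod_congr rfl (fun l hl => congrArg (exc (hPc l) σ ^ ·) (heo l hl)), hei, hc, pow_succ,
        mul_assoc, mul_comm (exc (hPc i) σ), ← mul_assoc]
    rw [hprod]
    refine ⟨?_, fun {A} hA => ?_⟩
    · rw [euler_quot_mul k hD (hE i), hχ, euler_exc k hd hreg hP hPc hσ hσk i, ii_comm, hDii i,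
        ← Finset.add_sum_erase _ _ (Finset.mem_univ i), ← Finset.add_sum_erase _ _ (Finset.mem_univ i),
        Finset.sum_congr rfl (fun l hl => congrArg (fun a : ℕ => ((a + 1).choose 2 : ℚ)) (heo l hl)), hei, hc,
        Nat.choose_succ_succ' (c + 1) 1, Nat.choose_one_right]
      push_cast
      ring
    · rw [Groth.L03.SurfAmple.ii_ideal_mul k hd'.le hD (hE i) hA, hlin hA,
        ← Finset.add_sum_erase _ _ (Finset.mem_univ i), ← Finset.add_sum_erase _ _ (Finset.mem_univ i),
        Finset.sum_congr rfl (fun l hl => congrArg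
          (fun a : ℕ => (a : ℚ) * ii k (ClSub.idealMod (exc (hPc l) σ)) A) (heo l hl)), hei, hc]
      push_cast
      ring

/-- The first higher direct image of `σ^*M(Σ b_i E_i)` has length `Σ C(b_i, 2)`. -/
theorem h0_R1 [HasInjectiveResolutions X'.Modules] {M : X.Modules} (hM : PicF.IsInvertible M)
    {L : X'.Modules} (hL : PicF.IsInvertible L) (b : Fin r → ℕ)
    (φ : CohB1.tensorMod L (ClSub.idealMod (∏ l, exc (hPc l) σ ^ b l)) ≅ (Scheme.Modules.pullback σ).obj M) :
    Module.finrank k (Coh.HH X ((Coh.Rpush σ 1).obj L) 0) = ∑ l, (b l).choose 2 := by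
  classical
  haveI := Groth.L21.RR.isNoetherian_of_proper (X := X) k
  haveI := Groth.L21.RR.isNoetherian_of_proper (X := X') k
  haveI : X.IsSeparated := ⟨by rw [← terminal.comp_from (X ↘ Spec (CommRingCat.of k))]; infer_instance⟩
  haveI := (integral_proper k hd hPc hσ).2
  have hd' := dim_up k hd hPc hσ
  have hreg' := regular_up k hd hreg hP hPc hσ
  have hE : ∀ l, PicF.IsInvertible (ClSub.idealMod (exc (hPc l) σ)) := fun l =>
    (nonempty_echart k hd hreg hP hPc hσ l).2
  obtain ⟨hJ, hJii⟩ := ii_prod_exc k hd hreg hP hPc hσ hσk b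
  obtain ⟨hχ, hlin⟩ := quot_num k hd hreg hP hPc hσ hσk b
  set J := ∏ l, exc (hPc l) σ ^ b l with hJd
  -- the degrees
  have hdeg : ∀ l, degOn k (exc (hPc l) σ) L = -(b l : ℤ) := fun l => by
    have h := Groth.L03.BlowPt.Rational.degOn_eq k hd' hreg'
      ((Groth.Agent.L19.IdealInvertible.isEffCartier_iff _).1 (hE l)) hL hJ
    obtain ⟨y, -, ey, -, -, hpull, -⟩ := exc_facts k hd hreg hP hPc hσ hσk l
    rw [degOn_cast k (hE l) (Groth.L18.GenLoc.isInvertible_tensor hL
        ((Groth.Agent.L19.IdealInvertible.isEffCartier_iff _).2 hJ)), ii_comm, ii_congr k φ, ii_comm,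
      ii_comm k (ClSub.idealMod J), hJii l] at h
    rw [ey] at h ⊢
    rw [hpull hM] at h
    have h' : (degOn k (pt y) L : ℚ) = ((-(b l : ℤ) : ℤ) : ℚ) := by push_cast; linarith
    exact_mod_cast h'
  -- the cohomology of the quotient
  have h0 : Module.finrank k (Coh.HH X' (CohB1.tensorMod L (ClSub.quotMod J)) 0) = 0 := by
    rw [hJd, h0_thick k hd hreg hP hPc hσ hσk hL b]
    refine Finset.sum_eq_zero fun l _ => Finset.sum_eq_zero fun m hm => ?_
    rw [hdeg l]
    rw [Finset.mem_range] at hm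
    omega
  have hdJ : (degOn k J L : ℚ) = -∑ l, ((b l : ℚ) * (b l : ℚ)) := by
    rw [degOn_cast k ((Groth.Agent.L19.IdealInvertible.isEffCartier_iff _).2 hJ) hL, hlin hL,
      neg_inj]
    refine Finset.sum_congr rfl fun l _ => ?_
    have h := degOn_cast k (hE l) hL
    rw [hdeg l] at h
    push_cast at h
    rw [show ii k (ClSub.idealMod (exc (hPc l) σ)) L = (b l : ℚ) by linarith]
  have h1 : Module.finrank k (Coh.HH X' (CohB1.tensorMod L (ClSub.quotMod J)) 1) = ∑ l, (b l).choose 2 := by
    have h := congrArg (fun z : ℤ => (z : ℚ)) (Groth.L03.BlowPt.Rational.euler_twist k hd' hreg' hJ hL)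
    push_cast at h
    rw [h0, hχ, hdJ] at h
    have hid : ∀ a : ℕ, ((a + 1).choose 2 : ℚ) + (a.choose 2 : ℚ) = a * a := fun a => by
      rw [Nat.cast_choose_two, Nat.cast_choose_two]; push_cast; ring
    have hs : ∑ l, ((b l + 1).choose 2 : ℚ) + ∑ l, ((b l).choose 2 : ℚ) = ∑ l, (b l : ℚ) * (b l : ℚ) := by
      rw [← Finset.sum_add_distrib]; exact Finset.sum_congr rfl fun l _ => hid (b l)
    have h' : (Module.finrank k (Coh.HH X' (CohB1.tensorMod L (ClSub.quotMod J)) 1) : ℚ) =
        ((∑ l, (b l).choose 2 : ℕ) : ℚ) := by push_cast at h ⊢; linarith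
    exact_mod_cast h'
  -- `R¹σ_*L` only sees the quotient
  have hfin : (Set.range P).Finite := Set.finite_range P
  have hpt : ∀ x ∈ Set.range P, IsClosed ({x} : Set X) := by rintro _ ⟨i, rfl⟩; exact hPc i
  have hdim : ∀ x ∈ Set.range P, ringKrullDim (X.presheaf.stalk x) = (2 : ℕ) := fun x hx =>
    (ringKrullDim_stalk_closed k hd (hpt x hx)).trans (by norm_num)
  have hc := Groth.L13.PairBlow.goodCentre_vanishingIdeal hZ hfin hpt (fun x _ => hreg x) hdim
  have hz : ∀ q, 0 < q → IsZero ((Coh.Rpush σ q).obj (CohB1.tensorMod L (ClSub.idealMod J))) := fun q hq =>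
    (Groth.L13.PairBlow.isZero_Rpush_pullback hσ hc.locallyPair
      (Groth.L16.Existence.isFinLocFree_of_isInvertible hM) q hq).of_iso ((Coh.Rpush σ q).mapIso φ)
  have hiso := isIso_Rpush_map_g σ (Groth.L21.RR.shortExact_tw J hL) (hz 1 one_pos) (hz 2 two_pos)
  haveI := hiso
  refine ((Groth.L03.SurfAdj.hhEquiv k (@asIso _ _ _ _ _ hiso) 0).finrank_eq).trans ?_
  -- the quotient lives over the centre
  have hQ : Coh.IsCoh (CohB1.tensorMod L (ClSub.quotMod J)) := Groth.L21.RR.isCoh_twistQuot (L := L) (I := J) hL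
  haveI : Coh.IsQCoh (CohB1.tensorMod L (ClSub.quotMod J)) := hQ.1
  have hc0 : Coh.IsCoh ((Scheme.Modules.pushforward σ).obj (CohB1.tensorMod L (ClSub.quotMod J))) :=
    Groth.L16.CohSupport.isCoh_of_iso (((Coh.push σ).rightDerivedZeroIsoSelf).app _)
      (Groth.L17.ProperCoh.isCoh_Rpush σ _ hQ 0)
  have hJs : (J.support : Set X') ⊆ σ ⁻¹' Set.range P := by
    rw [hJd]
    refine Finset.prod_induction _ (fun I : X'.IdealSheafData => (I.support : Set X') ⊆ σ ⁻¹' Set.range P)
      (fun I I' h h' => ?_) ?_ (fun l _ => ?_)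
    · rw [Scheme.IdealSheafData.support_mul]
      exact Set.union_subset h h'
    · rw [Scheme.IdealSheafData.one_eq_top, Scheme.IdealSheafData.support_top]
      exact Set.empty_subset _
    · rcases Nat.eq_zero_or_pos (b l) with h | h
      · rw [h, pow_zero, Scheme.IdealSheafData.one_eq_top, Scheme.IdealSheafData.support_top]
        exact Set.empty_subset _
      · rw [Scheme.IdealSheafData.support_pow _ _ h.ne']
        exact fun z hz => ⟨l, (Groth.L03.BlowAcyc.eq_pt_of_mem_support hz).symm⟩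
  have hsupp : CohB1.support ((Scheme.Modules.pushforward σ).obj (CohB1.tensorMod L (ClSub.quotMod J))) ⊆
      Set.range P := by
    refine (Groth.L16.Exist.support_push_image σ hQ).trans ?_
    rintro _ ⟨z, hz, rfl⟩
    refine hJs (Groth.L22.Inter.support_quotMod_subset J ?_)
    rwa [← Groth.L03.Euler.support_tensor hL (ClSub.quotMod J), Groth.L21.Mod.support_congr (tensorComm _ _)]
  have hdim0 : topologicalKrullDim
      (CohB1.support ((Scheme.Modules.pushforward σ).obj (CohB1.tensorMod L (ClSub.quotMod J)))) ≤ ((0 : ℕ) : WithBot ℕ∞) := by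
    let T := CohB1.support ((Scheme.Modules.pushforward σ).obj (CohB1.tensorMod L (ClSub.quotMod J)))
    haveI : Finite T := (hfin.subset hsupp).to_subtype
    haveI : T1Space T := ⟨fun w => by
      have h : IsClosed (Subtype.val ⁻¹' {w.1} : Set T) :=
        IsClosed.preimage continuous_subtype_val (hpt w.1 (hsupp w.2))
      rwa [show (Subtype.val ⁻¹' {w.1} : Set T) = {w} from Set.ext fun z => by simp [Subtype.ext_iff]] at h⟩
    exact (topologicalKrullDim_zero_of_discreteTopology T).trans (le_of_eq Nat.cast_zero.symm)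
  have hv := fun {n : ℕ} (hn : 0 < n) => Groth.L22.Big.subsingleton_HH_of_support k hc0 (d := 0) hdim0 hn
  haveI := Groth.L16.ProperFinite.finite_HH k hQ 1
  haveI := Groth.L16.ProperFinite.finite_HH k hc0 1
  haveI := Groth.L16.ProperFinite.finite_HH k
    (Groth.L17.ProperCoh.isCoh_Rpush σ (CohB1.tensorMod L (ClSub.quotMod J)) hQ 1) 0
  have hl := Groth.L13.LerayFive.length_H1_eq (A := k) σ hσk (CohB1.tensorMod L (ClSub.quotMod J)) (hv two_pos)
  rw [Module.length_eq_finrank, Module.length_eq_finrank, Module.length_eq_finrank] at hl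
  have hl' : Module.finrank k (Coh.HH X' (CohB1.tensorMod L (ClSub.quotMod J)) 1) =
      Module.finrank k (Coh.HH X ((Scheme.Modules.pushforward σ).obj (CohB1.tensorMod L (ClSub.quotMod J))) 1) +
        Module.finrank k (Coh.HH X ((Coh.Rpush σ 1).obj (CohB1.tensorMod L (ClSub.quotMod J))) 0) := by
    exact_mod_cast hl
  haveI := hv one_pos
  rw [Module.finrank_zero_of_subsingleton (M := Coh.HH X
    ((Scheme.Modules.pushforward σ).obj (CohB1.tensorMod L (ClSub.quotMod J))) 1), zero_add, h1] at hl'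
  exact hl'.symm

end Groth.L03.BlowPt.MultiExc
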