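import Groth.Agent.L03.BlowPt.Sections
import Groth.Agent.L03.SurfAmple.Zero

/-!
# Each parameter cuts one point out of the exceptional curve
-/

set_option autoImplicit false
set_option linter.style.haveILetI false
set_option backward.isDefEq.respectTransparency false
set_option backward.isDefEq.respectTransparency.types false

universe u

open CategoryTheory AlgebraicGeometry TopologicalSpace Opposite
open Groth.L11.BlowSmooth Groth.L13.BU
open Groth.L18.Frame (rs IsFrame)
open Groth.L18.GenLoc (secOf)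

noncomputable section

namespace Groth.L03.BlowPt

variable {X X' : Scheme.{u}} {x : X} {hx : IsClosed ({x} : Set X)} {b : X' ⟶ X}

/-- An ideal sheaf read in an affine chart. -/
theorem comap_chart {E : Scheme.{u}} (Z : E.IdealSheafData) {R : Type u} [CommRing R] (q : Spec (CommRingCat.of R) ⟶ E)
    {W : E.Opens} (hW : IsAffineOpen W) (h : ⊤ ≤ q ⁻¹ᵁ W) (c : Γ(E, W)) (hZ : Z.ideal ⟨W, hW⟩ = Ideal.span {c})
    (r : R) (hc : q.appLE W ⊤ h c = (Scheme.ΓSpecIso (CommRingCat.of R)).inv r) :
    Z.comap q = idealOf (Ideal.span {r}) := by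
  refine Scheme.IdealSheafData.ext_of_isAffine ?_
  rw [Groth.L22.Ideals.comap_ideal q Z ⟨W, hW⟩ ⟨⊤, isAffineOpen_top _⟩ h, hZ, idealOf_top, Ideal.map_span,
    Set.image_singleton]
  refine Eq.trans ?_ ((Ideal.map_span _ _).trans (congrArg Ideal.span Set.image_singleton)).symm
  exact congrArg (fun t => Ideal.span {t}) hc

/-- The structure sheaf is unchanged along an isomorphism. -/
theorem nonempty_push_structure {Y Z : Scheme.{u}} (g : Y ⟶ Z) [IsIso g] :
    Nonempty ((Scheme.Modules.pushforward g).obj (Coh.structureModule Y) ≅ Coh.structureModule Z) := by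
  let u : Coh.structureModule Z ⟶ (Scheme.Modules.pushforward g).obj (Coh.structureModule Y) :=
    SheafOfModules.unitToPushforwardObjUnit g.toRingCatSheafHom
  haveI : IsIso u := Scheme.Modules.Hom.isIso_iff_isIso_app.2 fun U =>
    (ConcreteCategory.isIso_iff_bijective _).2 (ConcreteCategory.bijective_of_isIso (g.app U))
  exact ⟨(asIso u).symm⟩

theorem isIso_of_open_surjective {Y Z : Scheme.{u}} (f : Y ⟶ Z) [IsOpenImmersion f] (h : Function.Surjective f) :
    IsIso f :=
  haveI : Epi f.base := (TopCat.epi_iff_surjective _).2 h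
  IsOpenImmersion.isIso f

/-- A unit coefficient in a chart makes the section a frame there. -/
theorem mem_genLocus_of_one {E : Scheme.{u}} [IsIntegral E] {L : E.Modules} (s : Coh.structureModule E ⟶ L)
    {R : Type u} [CommRing R] (q : Spec (CommRingCat.of R) ⟶ E) [IsOpenImmersion q] {W : E.Opens}
    (hr : Set.range q = W) (h : ⊤ ≤ q ⁻¹ᵁ W) (e : Γ(L, W)) (he : IsFrame L W e) (c : Γ(E, W))
    (hc : c • e = rs L le_top (secOf s)) (r : R)
    (hcq : q.appLE W ⊤ h c = (Scheme.ΓSpecIso (CommRingCat.of R)).inv r) (hr1 : r = 1) (p : Spec (CommRingCat.of R)) :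
    genericPoint E ∈ CohB1.genLocus L s := by
  have hb : Function.Bijective (q.appLE W ⊤ h).hom :=
    Groth.L11.BlowProj.appLE_bijective_of_range q W (TopologicalSpace.Opens.ext hr) h
  subst hr1
  have hc1 : c = 1 := hb.1 (hcq.trans (by rw [map_one, map_one]))
  subst hc1
  rw [one_smul] at hc
  have hne : (W : Set E).Nonempty := hr ▸ ⟨q p, Set.mem_range_self p⟩
  exact Groth.L18.GenLoc.le_genLocus s (hc ▸ he)
    ((genericPoint_spec E).mem_open_set_iff W.2 |>.2 (by simpa using hne))

/-- Nothing lies over the unit ideal. -/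
theorem not_mem_of_comap_one {E : Scheme.{u}} (Z : E.IdealSheafData) {R : Type u} [CommRing R]
    (q : Spec (CommRingCat.of R) ⟶ E) (r : R) (hr : r = 1) (h : Z.comap q = idealOf (Ideal.span {r}))
    (z : Z.subscheme) : Z.subschemeι z ∉ Set.range q := by
  rintro ⟨p, hp⟩
  subst hr
  have h1 : Z.subschemeι z ∈ (Z.support : Set E) := by
    rw [← Scheme.IdealSheafData.range_subschemeι]; exact Set.mem_range_self z
  rw [← hp] at h1
  have h2 : p ∈ ((Z.comap q).support : Set _) := by rw [Scheme.IdealSheafData.support_comap]; exact h1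
  have htop : idealOf (⊤ : Ideal R) = ⊤ := by
    refine Scheme.IdealSheafData.ext_of_isAffine ?_
    rw [idealOf_top, Ideal.map_top, Scheme.IdealSheafData.ideal_top]
    rfl
  rw [h, Ideal.span_singleton_one, htop] at h2
  simp at h2

namespace EChart

attribute [local instance] EChart.C_open EChart.q_open

variable (D : EChart hx b)

theorem exists_zero_scheme (hE : PicF.IsInvertible (ClSub.idealMod (exc hx b))) (j : Fin 2) :
    ∃ Z : (exc hx b).subscheme.IdealSheafData, PicF.IsInvertible (ClSub.idealMod Z) ∧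
      Nonempty (CohB1.tensorMod (ClSub.idealMod Z) (eL hx b) ≅ Coh.structureModule (exc hx b).subscheme) ∧
      ∀ i, Z.comap (D.q i) = idealOf (Ideal.span {D.coef j i}) := by
  haveI := D.isIntegral
  have hL : PicF.IsInvertible (eL hx b) := Groth.L18.Ample.isInvertible_pullback (eι hx b) hE
  obtain ⟨s, hs⟩ := D.exists_section hE j
  have hη : genericPoint (exc hx b).subscheme ∈ CohB1.genLocus (eL hx b) s := by
    obtain ⟨W, hW, hr, h, e, c, he, hc, hcq⟩ := hs j
    exact mem_genLocus_of_one s (D.q j) hr h e he c hc _ hcq (if_pos rfl) (D.gen j)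
  refine ⟨PicF2.zeroScheme (eL hx b) s,
    (Groth.Agent.L19.IdealInvertible.isEffCartier_iff _).2 (Groth.L03.SurfAmple.isEffCartierIdeal_zeroScheme hL s hη),
    Groth.L03.SurfAmple.nonempty_tensor_zeroScheme hL s hη, fun i => ?_⟩
  obtain ⟨W, hW, hr, h, e, c, he, hc, hcq⟩ := hs i
  exact comap_chart _ (D.q i) hW h c
    (Groth.L03.SurfAmple.zeroScheme_ideal_span hL s (V := ⟨W, hW⟩) he hc) _ hcq

/-- The centre, in the chart downstairs. -/
theorem exists_centre :
    ∃ v : Spec (CommRingCat.of (Γ(X, D.U.1) ⧸ sI D.f)) ⟶ (ptI hx).subscheme, IsIso v ∧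
      v ≫ (ptI hx).subschemeι = Spec.map (CommRingCat.ofHom (Ideal.Quotient.mk (sI D.f))) ≫ D.U.2.fromSpec := by
  have h : (ptI hx).subschemeι.ker.comap D.U.2.fromSpec = idealOf (sI D.f) := by
    rw [Scheme.IdealSheafData.ker_subschemeι, comap_fromSpec, D.ideal_eq]
  obtain ⟨v, hvo, hv, hc⟩ := exists_closed_chart (ptI hx).subschemeι D.U.2.fromSpec _ h
  haveI := hvo
  refine ⟨v, isIso_of_open_surjective v (fun z => hc z (by
    rw [D.U.2.range_fromSpec]
    have h : (ptI hx).subschemeι z ∈ ((ptI hx).support : Set X) := by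
      rw [← Scheme.IdealSheafData.range_subschemeι]; exact Set.mem_range_self z
    have h2 : (ptI hx).subschemeι z = x := by simpa [ptI] using h
    rw [h2]; exact D.mem)), hv⟩

/-- A parameter cuts out a subscheme isomorphic to the centre. -/
theorem exists_zero_iso (Z : (exc hx b).subscheme.IdealSheafData) (j : Fin 2)
    (hZ : ∀ i, Z.comap (D.q i) = idealOf (Ideal.span {D.coef j i})) :
    ∃ g : Z.subscheme ⟶ (ptI hx).subscheme, IsIso g ∧
      g ≫ (ptI hx).subschemeι = Z.subschemeι ≫ eι hx b ≫ b := by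
  obtain ⟨v, hviso, hv⟩ := D.exists_centre
  haveI := hviso
  let i := oth j
  have hne : i ≠ j := oth_ne j
  let M : Ideal (EC D.f i) := Ideal.span {crdT D.f i}
  have hZi : Z.subschemeι.ker.comap (D.q i) = idealOf M := by
    rw [Scheme.IdealSheafData.ker_subschemeι, hZ i, coef, if_neg hne]
  obtain ⟨w, hwo, hw, hwc⟩ := exists_closed_chart Z.subschemeι (D.q i) _ hZi
  haveI := hwo
  haveI : IsIso w := isIso_of_open_surjective w (fun z => hwc z (by
    obtain ⟨l, hl⟩ := D.q_cover (Z.subschemeι z)
    by_cases hlj : l = j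
    · subst hlj
      exact absurd hl (not_mem_of_comap_one Z (D.q l) (D.coef l l) (if_pos rfl) (hZ l) z)
    · have e : l = i := eq_oth j l hlj
      subst e
      exact hl))
  let ψ : Γ(X, D.U.1) →+* EC D.f i ⧸ M := (Ideal.Quotient.mk M).comp ((ecMk D.f i).comp (sh D.f i))
  obtain ⟨hmax, hsurj⟩ : M.IsMaximal ∧ Function.Surjective ψ := origin_facts D.qreg D.isMaximal
  have hker : ∀ a ∈ sI D.f, ψ a = 0 := fun a ha => by
    show Ideal.Quotient.mk M (ecMk D.f i (sh D.f i a)) = 0
    rw [show ecMk D.f i (sh D.f i a) = 0 from Ideal.Quotient.eq_zero_iff_mem.2 (Ideal.mem_map_of_mem _ ha), map_zero]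
  let θ := Ideal.Quotient.lift (sI D.f) ψ hker
  have hθ : Function.Bijective θ := by
    haveI := hmax
    letI : Field (Γ(X, D.U.1) ⧸ sI D.f) := @Ideal.Quotient.field _ _ _ D.isMaximal
    exact ⟨θ.injective, Ideal.Quotient.lift_surjective_of_surjective _ hker hsurj⟩
  haveI : IsIso (CommRingCat.ofHom θ) := (ConcreteCategory.isIso_iff_bijective _).2 hθ
  refine ⟨inv w ≫ Spec.map (CommRingCat.ofHom θ) ≫ v, inferInstance, ?_⟩
  rw [Category.assoc, Category.assoc, hv, IsIso.inv_comp_eq, reassoc_of% hw, reassoc_of% (D.q_comp i), D.C_comp i,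
    ← Category.assoc, ← Spec.map_comp]
  simp only [← Category.assoc, ← Spec.map_comp]
  rfl

end EChart

end Groth.L03.BlowPt
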