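import Groth.Agent.L03.BlowPt.QuotSeq
import Groth.Agent.L03.BlowPt.CurveSeq
import Groth.Agent.L03.BlowPt.CurveProd
import Groth.Agent.L03.SurfAmple.Product
import Groth.Agent.L22.CurveDeg.NonSpecial
import Groth.Agent.L22.CurveAmple.Section
import Mathlib.RingTheory.Finiteness.Basic

/-!
# Sections on numerically connected divisors (Ramanujam's lemma)
-/

set_option autoImplicit false
set_option linter.style.haveILetI false
set_option linter.unusedSectionVars false
set_option backward.isDefEq.respectTransparency false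

universe u

open CategoryTheory CategoryTheory.Limits AlgebraicGeometry TopologicalSpace
open Groth.L22 Groth.L22.Inter Groth.L22.Nef Groth.L22.Big Groth.L22.CartierDecomp Groth.L03.SurfNum
open Groth.L03.SurfAdj (hhEquiv nonempty_twistQuot_equiv)
open Groth.L00.Tensor (tensorIso tensorComm tensorUnitLeft tensorUnitRight tensorAssoc)
open Groth.L16.CohLinear (hmap hmap_comp hmap_id overLin exact_hmap_hmap)
open Groth.L21.RR (st one oneSec e0 bijective_smul_one tensorStalkEquiv exists_frame_stalk)
open Groth.L03.BlowPt.QuotSeq (res res_comp res_self mul_le_left st_comp st_toSubscheme_eq_zero_iff)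

noncomputable section

namespace Groth.L03.BlowPt.Ramanujam

variable {X : Scheme.{u}}

/-- The product of the curves through the points. -/
abbrev prodPt (m : Multiset X) : X.IdealSheafData := (m.map fun y => pt y).prod

theorem prodPt_cons (y : X) (m : Multiset X) : prodPt (y ::ₘ m) = pt y * prodPt m := by
  simp [prodPt]

theorem exists_mem_of_mem_support (m : Multiset X) {x : X} (h : x ∈ ((prodPt m).support : Set X)) :
    ∃ y ∈ m, x ∈ ((pt y).support : Set X) := by
  induction m using Multiset.induction_on with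
  | empty => simp [prodPt, Scheme.IdealSheafData.one_eq_top] at h
  | cons y m ih =>
    rw [prodPt_cons, Scheme.IdealSheafData.support_mul] at h
    rcases h with h | h
    · exact ⟨y, Multiset.mem_cons_self y m, h⟩
    · obtain ⟨z, hz, hxz⟩ := ih h
      exact ⟨z, Multiset.mem_cons_of_mem hz, hxz⟩

theorem st_one_ne_zero_of_mem (I : X.IdealSheafData) {x : X} (hx : x ∈ (I.support : Set X)) :
    st (ClSub.toSubscheme I) x (one X x) ≠ 0 := fun h => by
  haveI := Groth.L21.RR.epi_toSubscheme I
  refine Groth.L22.CurveAmple.mem_support_quotMod I hx (subsingleton_of_forall_eq 0 fun v => ?_)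
  obtain ⟨w, hw⟩ := (Groth.L21.Mod.epi_iff_stalk_surjective (ClSub.toSubscheme I)).1 inferInstance x v
  obtain ⟨a, rfl⟩ := (bijective_smul_one x).2 w
  rw [← hw]
  change st (ClSub.toSubscheme I) x (a • one X x) = 0
  rw [map_smul, h, smul_zero]

/-- The tensor of a restriction. -/
abbrev resT (L : X.Modules) {I J : X.IdealSheafData} (h : J ≤ I) :=
  ((DCoh.tensorBi (X := X)).obj L).map (res h)

variable (k : Type u) [Field k] [X.Over (Spec (CommRingCat.of k))]
  [IsProper (X ↘ Spec (CommRingCat.of k))] [IsIntegral X]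

variable (hd : topologicalKrullDim X = (2 : ℕ)) (hreg : ∀ x : X, IsRegularLocalRing (X.presheaf.stalk x))

include k hd hreg

theorem isEffCartier_pt {y : X} (hy : topologicalKrullDim (closure ({y} : Set X)) = (1 : ℕ)) :
    BlowUp.IsEffCartierIdeal (pt y) :=
  (Groth.Agent.L19.IdealInvertible.isEffCartier_iff _).1 (inv_curve (k := k) hd hreg hy)

theorem isEffCartier_prodPt (m : Multiset X) (hm : ∀ y ∈ m, topologicalKrullDim (closure ({y} : Set X)) = (1 : ℕ)) :
    BlowUp.IsEffCartierIdeal (prodPt m) := by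
  induction m using Multiset.induction_on with
  | empty => simpa [prodPt, Scheme.IdealSheafData.one_eq_top] using Groth.L22.Ideals.isEffCartier_top (X := X)
  | cons y m ih =>
    rw [prodPt_cons]
    exact Groth.L22.Ideals.isEffCartier_mul (isEffCartier_pt k hd hreg (hm y (Multiset.mem_cons_self y m)))
      (ih fun z hz => hm z (Multiset.mem_cons_of_mem hz))

theorem exists_prodPt {Z : X.IdealSheafData} (hZ : BlowUp.IsEffCartierIdeal Z) :
    ∃ m : Multiset X, (∀ y ∈ m, topologicalKrullDim (closure ({y} : Set X)) = (1 : ℕ)) ∧ Z = prodPt m := by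
  classical
  have hfin := finite_curves k hd hreg hZ
  obtain ⟨e, he⟩ := exists_factor k hd hreg hZ (T := hfin.toFinset)
    (fun y hy => ((Set.Finite.mem_toFinset hfin).1 hy).2) (fun y hy h => (Set.Finite.mem_toFinset hfin).2 ⟨hy, h⟩)
  refine ⟨∑ y ∈ hfin.toFinset, Multiset.replicate (e y) y, fun y hy => ?_, ?_⟩
  · obtain ⟨z, hz, hyz⟩ := Multiset.mem_sum.1 hy
    rw [Multiset.eq_of_mem_replicate hyz]
    exact ((Set.Finite.mem_toFinset hfin).1 hz).2
  · refine he.trans ?_
    let φ : Multiset X →+ Additive X.IdealSheafData :=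
      { toFun := fun m => Additive.ofMul (prodPt m)
        map_zero' := by simp only [prodPt, Multiset.map_zero, Multiset.prod_zero]; rfl
        map_add' := fun a b => by simp [prodPt] }
    have h1 := congrArg Additive.toMul (map_sum φ (fun y => Multiset.replicate (e y) y) hfin.toFinset)
    rw [toMul_sum] at h1
    refine Eq.trans ?_ h1.symm
    exact Finset.prod_congr rfl fun y _ => by simp [φ, prodPt]

theorem exists_ii_pos {A : X.Modules} (hA : PicF.IsInvertible A) (m : Multiset X)
    (hm : ∀ y ∈ m, topologicalKrullDim (closure ({y} : Set X)) = (1 : ℕ))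
    (h : 0 < ii k A (ClSub.idealMod (prodPt m))) : ∃ y ∈ m, 0 < ii k A (ClSub.idealMod (pt y)) := by
  induction m using Multiset.induction_on with
  | empty =>
    exfalso
    have h1 := Groth.L03.SurfAmple.ii_ideal_mul k hd.le (I := (1 : X.IdealSheafData)) (J := 1)
      Groth.L22.Ideals.isEffCartier_top Groth.L22.Ideals.isEffCartier_top hA
    rw [one_mul] at h1
    rw [ii_comm, prodPt, Multiset.map_zero, Multiset.prod_zero] at h
    linarith
  | cons y m ih =>
    have hm' := fun z hz => hm z (Multiset.mem_cons_of_mem hz)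
    rw [prodPt_cons, ii_comm, Groth.L03.SurfAmple.ii_ideal_mul k hd.le
      (isEffCartier_pt k hd hreg (hm y (Multiset.mem_cons_self y m))) (isEffCartier_prodPt k hd hreg m hm') hA] at h
    by_cases hy : 0 < ii k A (ClSub.idealMod (pt y))
    · exact ⟨y, Multiset.mem_cons_self y m, hy⟩
    · rw [ii_comm k (ClSub.idealMod (pt y)), ii_comm k (ClSub.idealMod (prodPt m))] at h
      obtain ⟨z, hz, hz'⟩ := ih hm' (by linarith)
      exact ⟨z, Multiset.mem_cons_of_mem hz, hz'⟩

theorem dim_support_pt {y : X} (hy : topologicalKrullDim (closure ({y} : Set X)) = (1 : ℕ)) :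
    topologicalKrullDim ((pt y).support : Set X) = 1 := by
  rw [Groth.L18.support_vanishingIdeal, ← Nat.cast_one (R := WithBot ℕ∞)]
  exact hy

omit hd hreg in
theorem finrank_h0_quot_curve [IsAlgClosed k] (I : X.IdealSheafData) [IsIntegral I.subscheme] :
    Module.finrank k (Coh.HH X (ClSub.quotMod I) 0) = 1 := by
  letI : I.subscheme.Over (Spec (CommRingCat.of k)) := ⟨I.subschemeι ≫ (X ↘ (Spec (CommRingCat.of k)))⟩
  haveI : IsProper (I.subscheme ↘ Spec (CommRingCat.of k)) :=
    inferInstanceAs (IsProper (I.subschemeι ≫ (X ↘ Spec (CommRingCat.of k))))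
  haveI : X.IsSeparated := ⟨by rw [← terminal.comp_from (X ↘ Spec (CommRingCat.of k))]; infer_instance⟩
  haveI : Coh.IsQCoh (Coh.structureModule I.subscheme) :=
    Groth.L21.Extend.isQCoh_of_isInvertible (Groth.L18.Ample.isInvertible_structureModule I.subscheme)
  obtain ⟨g⟩ := Groth.L21.PlaneCurve.nonempty_push_equiv (k := k) I.subschemeι rfl (Coh.structureModule I.subscheme) 0
  exact g.finrank_eq.symm.trans (Groth.L22.CurveDeg.h0_structure_eq_one k)

omit hd hreg in
/-- A nonzero section in nonpositive degree generates on a curve. -/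
theorem curve_facts [IsAlgClosed k] (I : X.IdealSheafData) [IsIntegral I.subscheme]
    (hI : topologicalKrullDim (I.support : Set X) = 1) {L : X.Modules} (hL : PicF.IsInvertible L)
    (hdeg : degOn k I L ≤ 0) :
    Module.finrank k (Coh.HH X (CohB1.tensorMod L (ClSub.quotMod I)) 0) ≤ 1 ∧
      ∀ φ : Coh.structureModule X ⟶ CohB1.tensorMod L (ClSub.quotMod I), φ ≠ 0 → Epi φ := by
  letI : I.subscheme.Over (Spec (CommRingCat.of k)) := ⟨I.subschemeι ≫ (X ↘ (Spec (CommRingCat.of k)))⟩
  haveI : IsProper (I.subscheme ↘ Spec (CommRingCat.of k)) :=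
    inferInstanceAs (IsProper (I.subschemeι ≫ (X ↘ Spec (CommRingCat.of k))))
  haveI := Groth.L21.RR.isNoetherian_of_proper (X := I.subscheme) k
  haveI : X.IsSeparated := ⟨by rw [← terminal.comp_from (X ↘ Spec (CommRingCat.of k))]; infer_instance⟩
  have hdC : topologicalKrullDim I.subscheme = (1 : ℕ) := by
    rw [← dim_closure_image I.subschemeι, ← dim_support I, hI, Nat.cast_one]
  let N := (Scheme.Modules.pullback I.subschemeι).obj L
  have hN : PicF.IsInvertible N := Groth.L18.Ample.isInvertible_pullback I.subschemeι hL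
  obtain ⟨q⟩ := nonempty_twistQuot_equiv k I hL 0
  have halt : altT k (fun _ : Fin 1 => N) (Coh.structureModule I.subscheme) ≤ 0 := by
    rw [altT_one]
    have h1 : Curv2.euler k X (CohB1.tensorMod (ClSub.quotMod I) L) = Curv2.euler k I.subscheme N := by
      rw [Groth.L03.Euler.euler_iso (tensorComm _ L)]
      refine finsum_congr fun p => ?_
      obtain ⟨q⟩ := nonempty_twistQuot_equiv k I hL p
      exact congrArg (fun z : ℕ => (-1 : ℤ) ^ p * (z : ℤ)) q.finrank_eq
    have h2 : (Curv2.euler k I.subscheme N -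
        Curv2.euler k I.subscheme (Coh.structureModule I.subscheme) : ℤ) ≤ 0 := by
      rw [← Groth.L03.SurfAdj.euler_subscheme k I, ← h1]
      exact hdeg
    rw [Groth.L03.Euler.euler_iso (tensorUnitLeft _)]
    exact_mod_cast h2
  refine ⟨?_, fun φ hφ => ?_⟩
  · rw [q.finrank_eq, ← Groth.L22.Big.h0_def k N]
    exact (Groth.L03.SurfAmple.h0_le_of_deg_nonpos k hdC.le hN fun _ => halt).trans
      (le_of_eq ((Groth.L22.Big.h0_def k _).trans (Groth.L22.CurveDeg.h0_structure_eq_one (X := I.subscheme) k)))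
  haveI hq : Nontrivial (Coh.HH I.subscheme N 0) := by
    obtain ⟨x, hx⟩ : ∃ x : Coh.HH X (CohB1.tensorMod L (ClSub.quotMod I)) 0, x ≠ 0 := by
      refine ⟨(e0 _).symm (φ.app ⊤ (oneSec X)), fun h0 => hφ (Groth.L21.RR.eq_zero_of_st_one φ fun z => ?_)⟩
      rw [AddEquiv.map_eq_zero_iff] at h0
      rw [Groth.L21.RR.st_one φ z (W := ⊤) trivial, h0]
      simp [Groth.L18.Frame.rs]
    exact ⟨⟨q x, 0, fun h => hx (q.injective (h.trans q.map_zero.symm))⟩⟩
  obtain ⟨s, hs⟩ := Groth.L21.RR.exists_hom_ne_zero (L := N)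
  have hη := Groth.L22.CurveAmple.genericPoint_mem_genLocus hN hs
  have htop : CohB1.genLocus N s = ⊤ := by
    by_contra hne
    obtain ⟨z, hz⟩ : ∃ z, z ∉ CohB1.genLocus N s := by
      by_contra hall
      push Not at hall
      exact hne (top_le_iff.1 fun z _ => hall z)
    exact absurd halt (not_le.2 (Groth.L03.SurfAmple.altT_pos_of_vanishing k hdC hN s hη hz))
  obtain ⟨eN⟩ := Groth.L03.SurfAmple.nonempty_iso_of_genLocus_top s htop
  haveI : Coh.IsQCoh N := Groth.L21.Extend.isQCoh_of_isInvertible hN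
  haveI := Groth.L17.ProjFormula.isIso_θ I.subschemeι L (Coh.structureModule I.subscheme)
    (Groth.L16.Existence.isFinLocFree_of_isInvertible hL)
  let e : CohB1.tensorMod L (ClSub.quotMod I) ≅ ClSub.quotMod I :=
    asIso (Groth.L17.ClosedPush.θ I.subschemeι (Coh.structureModule I.subscheme) L) ≪≫
      (Scheme.Modules.pushforward I.subschemeι).mapIso (tensorUnitRight _ ≪≫ eN)
  let π : Coh.structureModule X ⟶ ClSub.quotMod I := ClSub.toSubscheme I
  let F := overLin k (hmap π 0)
  have hF : Function.Surjective F := by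
    intro v
    suffices hu : F ((e0 _).symm (oneSec X)) ≠ 0 by
      obtain ⟨c, hc⟩ := (finrank_eq_one_iff_of_nonzero' _ hu).1 (finrank_h0_quot_curve k I) v
      exact ⟨c • (e0 _).symm (oneSec X), by rw [map_smul, hc]⟩
    intro h0
    obtain ⟨p, hp⟩ : (I.support : Set X).Nonempty := by
      refine ⟨I.subschemeι (genericPoint I.subscheme), ?_⟩
      rw [← Scheme.IdealSheafData.range_subschemeι]
      exact Set.mem_range_self _
    refine st_one_ne_zero_of_mem I hp ?_
    rw [Groth.L21.RR.st_one π p (W := ⊤) trivial]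
    have h1 := congrArg (e0 (ClSub.quotMod I)) h0
    change e0 _ (hmap π 0 _) = e0 _ 0 at h1
    rw [Groth.L21.RR.e0_hmap, AddEquiv.apply_symm_apply, map_zero] at h1
    rw [h1]
    simp [Groth.L18.Frame.rs]
  obtain ⟨z, hz⟩ := hF ((e0 _).symm ((φ ≫ e.hom).app ⊤ (oneSec X)))
  obtain ⟨a, ha⟩ := Groth.L21.RR.exists_hom_of_hh0 z
  have heq : φ ≫ e.hom = a ≫ π := by
    rw [← sub_eq_zero]
    refine Groth.L21.RR.eq_zero_of_st_one _ fun x => ?_
    have h1 : (a ≫ π).app ⊤ (oneSec X) = (φ ≫ e.hom).app ⊤ (oneSec X) := by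
      have h2 := congrArg (e0 (ClSub.quotMod I)) hz
      change e0 _ (hmap π 0 z) = _ at h2
      rw [Groth.L21.RR.e0_hmap, ← ha, AddEquiv.apply_symm_apply] at h2
      exact h2
    have h3 : ((φ ≫ e.hom) - (a ≫ π)).app ⊤ (oneSec X) = 0 := by
      change (φ ≫ e.hom).app ⊤ (oneSec X) - (a ≫ π).app ⊤ (oneSec X) = 0
      rw [h1, sub_self]
    rw [Groth.L21.RR.st_one _ x (W := ⊤) trivial, h3]
    simp [Groth.L18.Frame.rs]
  have hane : a ≠ 0 := by
    rintro rfl
    refine hφ ?_
    rw [← cancel_mono e.hom, heq, zero_comp, zero_comp]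
  haveI : Epi a := by
    have hg : CohB1.genLocus (Coh.structureModule X) a = ⊤ := by
      rw [Groth.L16.genLocus_endo]
      have hne : (show Γ(X, ⊤) from a.app ⊤ (1 : Γ(X, ⊤))) ≠ 0 := fun h0 => by
        refine hane (Groth.L21.RR.eq_zero_of_st_one a fun x => ?_)
        rw [Groth.L21.RR.st_one a x (W := ⊤) trivial,
          show a.app ⊤ (oneSec X) = 0 from h0]
        simp [Groth.L18.Frame.rs]
      obtain ⟨c, hc⟩ := (AlgebraicGeometry.isField_of_universallyClosed (K := k)
        (X ↘ Spec (CommRingCat.of k))).mul_inv_cancel hne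
      exact X.basicOpen_of_isUnit (IsUnit.of_mul_eq_one _ hc)
    refine (Groth.L21.Mod.epi_iff_stalk_surjective a).2 fun x => ?_
    haveI : Coh.IsQCoh (Coh.structureModule X) :=
      Groth.L21.Extend.isQCoh_of_isInvertible (Groth.L18.Ample.isInvertible_structureModule X)
    exact (Groth.L21.RR.mem_genLocus_iff (Groth.L18.Ample.isInvertible_structureModule X) a x).1 (hg ▸ trivial)
  haveI : Epi π := Groth.L21.RR.epi_toSubscheme I
  haveI : Epi (φ ≫ e.hom) := heq ▸ epi_comp a π
  have : φ = (φ ≫ e.hom) ≫ e.inv := by simp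
  rw [this]
  exact epi_comp _ _

variable (Z : X.IdealSheafData) (hZ : BlowUp.IsEffCartierIdeal Z)
  (hnc : ∀ Z₁ Z₂ : X.IdealSheafData, BlowUp.IsEffCartierIdeal Z₁ → BlowUp.IsEffCartierIdeal Z₂ → Z₁ ≠ ⊤ →
    Z₂ ≠ ⊤ → Z = Z₁ * Z₂ → 0 < ii k (ClSub.idealMod Z₁) (ClSub.idealMod Z₂))
  {L : X.Modules} (hL : PicF.IsInvertible L)
  (hdeg : ∀ y : X, topologicalKrullDim (closure ({y} : Set X)) = (1 : ℕ) → Z ≤ pt y → degOn k (pt y) L ≤ 0)

include hZ hnc hL hdeg

/-- Sections on a numerically connected divisor vanishing on a part of it vanish. -/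
theorem injective_res : ∀ (n : ℕ) (m : Multiset X), m.card = n →
    (∀ y ∈ m, topologicalKrullDim (closure ({y} : Set X)) = (1 : ℕ)) →
    ∀ D : X.IdealSheafData, BlowUp.IsEffCartierIdeal D → D ≠ ⊤ → D * prodPt m = Z → ∀ h : Z ≤ D,
      Function.Injective (hmap (resT L h) 0) := by
  classical
  intro n
  induction n with
  | zero =>
    intro m hm _ D _ _ he h
    rw [Multiset.card_eq_zero] at hm
    subst hm
    rw [prodPt, Multiset.map_zero, Multiset.prod_zero, mul_one] at he
    subst he
    intro a b hab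
    rwa [resT, res_self, CategoryTheory.Functor.map_id, hmap_id, hmap_id] at hab
  | succ n ih =>
    intro m hm hmc D hD hDt he h
    have hJ := isEffCartier_prodPt k hd hreg m hmc
    have hDi : PicF.IsInvertible (ClSub.idealMod D) := (Groth.Agent.L19.IdealInvertible.isEffCartier_iff _).2 hD
    have hJt : prodPt m ≠ ⊤ := by
      intro htop
      obtain ⟨y, hy⟩ : ∃ y, y ∈ m := Multiset.exists_mem_of_ne_zero (fun h0 => by simp [h0] at hm)
      obtain ⟨m', rfl⟩ := Multiset.exists_cons_of_mem hy
      have h1 : y ∈ ((prodPt (y ::ₘ m')).support : Set X) := by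
        rw [prodPt_cons, Scheme.IdealSheafData.support_mul]
        refine Or.inl ?_
        rw [Groth.L18.support_vanishingIdeal]
        exact subset_closure rfl
      rw [htop] at h1
      simp at h1
    obtain ⟨y, hym, hy⟩ := exists_ii_pos k hd hreg hDi m hmc (hnc D (prodPt m) hD hJ hDt hJt he.symm)
    obtain ⟨m', rfl⟩ := Multiset.exists_cons_of_mem hym
    have hyd := hmc y hym
    haveI := isIntegral_pt y
    have hyC := isEffCartier_pt k hd hreg hyd
    have hyI : PicF.IsInvertible (ClSub.idealMod (pt y)) := (Groth.Agent.L19.IdealInvertible.isEffCartier_iff _).2 hyC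
    rw [prodPt_cons, ← mul_assoc] at he
    have hD't : D * pt y ≠ ⊤ := fun htop => by
      refine hDt (top_le_iff.1 ?_)
      rw [← htop]
      exact mul_le_left D (pt y)
    have hZ' : Z ≤ D * pt y := he ▸ mul_le_left (D * pt y) (prodPt m')
    have i1 := ih m' (by simpa using hm) (fun z hz => hmc z (Multiset.mem_cons_of_mem hz)) (D * pt y)
      (Groth.L22.Ideals.isEffCartier_mul hD hyC) hD't he hZ'
    obtain ⟨χ, w, hS⟩ := QuotSeq.exists_shortExact hDi (pt y)
    have hT := Groth.L16.FrameIso.shortExact_tensor_left (Groth.L21.RR.isFlat_of_isInvertible hL) _ hS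
    have hLD := Groth.L18.GenLoc.isInvertible_tensor hL hDi
    have hneg : degOn k (pt y) (CohB1.tensorMod L (ClSub.idealMod D)) < 0 := by
      have a := degOn_cast k hyI hLD
      have b := degOn_cast k hyI hL
      rw [ii_tensor_right k hd.le hyI hL hDi, ii_comm k _ (ClSub.idealMod D)] at a
      have c := hdeg y hyd (by
        rw [← he]
        exact (mul_le_left _ _).trans (QuotSeq.mul_le_right _ _))
      have c' : (degOn k (pt y) L : ℚ) ≤ 0 := by exact_mod_cast c
      have : (degOn k (pt y) (CohB1.tensorMod L (ClSub.idealMod D)) : ℚ) < 0 := by linarith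
      exact_mod_cast this
    haveI := subsingleton_h0_quot k (pt y) (dim_support_pt k hd hreg hyd) hLD hneg
    have hss : Subsingleton (Coh.HH X (CohB1.tensorMod L (CohB1.tensorMod (ClSub.idealMod D) (ClSub.quotMod (pt y)))) 0) :=
      (hhEquiv k (tensorAssoc L (ClSub.idealMod D) (ClSub.quotMod (pt y))) 0).symm.toEquiv.subsingleton
    have i2 : Function.Injective (hmap (resT L (mul_le_left D (pt y))) 0) := fun a b hab => by
      rw [← sub_eq_zero]
      obtain ⟨c, hc⟩ := (exact_hmap_hmap hT 0 (a - b)).1 (by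
        change hmap (resT L (mul_le_left D (pt y))) 0 (a - b) = 0
        rw [map_sub, hab, sub_self])
      rw [← hc, hss.elim c 0]
      exact map_zero _
    have hcomp : resT L h = resT L hZ' ≫ resT L (mul_le_left D (pt y)) := by
      rw [resT, resT, resT, ← CategoryTheory.Functor.map_comp, res_comp]
    intro a b hab
    rw [hcomp, hmap_comp, hmap_comp] at hab
    exact i1 (i2 hab)

theorem injective_res_curve (m : Multiset X) (hm : ∀ y ∈ m, topologicalKrullDim (closure ({y} : Set X)) = (1 : ℕ))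
    (he : Z = prodPt m) {y : X} (hy : y ∈ m) :
    ∃ h : Z ≤ pt y, Function.Injective (hmap (resT L h) 0) := by
  classical
  obtain ⟨m', rfl⟩ := Multiset.exists_cons_of_mem hy
  rw [prodPt_cons] at he
  refine ⟨he ▸ mul_le_left (pt y) (prodPt m'), injective_res k hd hreg Z hZ hnc hL hdeg m'.card m' rfl
    (fun z hz => hm z (Multiset.mem_cons_of_mem hz)) (pt y) (isEffCartier_pt k hd hreg (hm y hy)) ?_ he.symm _⟩
  intro htop
  have h1 : y ∈ ((pt y).support : Set X) := by
    rw [Groth.L18.support_vanishingIdeal]; exact subset_closure rfl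
  rw [htop] at h1
  simp at h1


/-- **Ramanujam's lemma**: there is at most one section, and it generates. -/
theorem finrank_le_one [IsAlgClosed k] (hZ0 : Z ≠ ⊤) :
    Module.finrank k (Coh.HH X (CohB1.tensorMod L (ClSub.quotMod Z)) 0) ≤ 1 ∧
      (Module.finrank k (Coh.HH X (CohB1.tensorMod L (ClSub.quotMod Z)) 0) ≠ 0 →
        Nonempty (CohB1.tensorMod L (ClSub.quotMod Z) ≅ ClSub.quotMod Z)) := by
  haveI := Groth.L21.RR.isNoetherian_of_proper (X := X) k
  obtain ⟨m, hm, he⟩ := exists_prodPt k hd hreg hZ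
  obtain ⟨y₀, hy₀⟩ : ∃ y, y ∈ m := Multiset.exists_mem_of_ne_zero fun h0 => hZ0 (by
    rw [he, h0, prodPt, Multiset.map_zero, Multiset.prod_zero, Scheme.IdealSheafData.one_eq_top])
  have hcurve : ∀ y ∈ m, ∀ h : Z ≤ pt y,
      Module.finrank k (Coh.HH X (CohB1.tensorMod L (ClSub.quotMod (pt y))) 0) ≤ 1 ∧
        ∀ φ : Coh.structureModule X ⟶ CohB1.tensorMod L (ClSub.quotMod (pt y)), φ ≠ 0 → Epi φ := fun y hy h =>
    haveI := isIntegral_pt y
    curve_facts k (pt y) (dim_support_pt k hd hreg (hm y hy)) hL (hdeg y (hm y hy) h)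
  refine ⟨?_, fun hne => ?_⟩
  · obtain ⟨h, hinj⟩ := injective_res_curve k hd hreg Z hZ hnc hL hdeg m hm he hy₀
    haveI : Module.Finite k (Coh.HH X (((DCoh.tensorBi (X := X)).obj L).obj (ClSub.quotMod (pt y₀))) 0) :=
      Groth.L16.ProperFinite.finite_HH k (Groth.L21.RR.isCoh_twistQuot (L := L) (I := pt y₀) hL) 0
    exact (LinearMap.finrank_le_finrank_of_injective (f := overLin k (hmap (resT L h) 0)) hinj).trans
      (hcurve y₀ hy₀ h).1
  haveI : Nontrivial (Coh.HH X (CohB1.tensorMod L (ClSub.quotMod Z)) 0) := by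
    by_contra hn
    haveI := not_nontrivial_iff_subsingleton.1 hn
    exact hne Module.finrank_zero_of_subsingleton
  obtain ⟨s, hs⟩ := Groth.L21.RR.exists_hom_ne_zero (L := CohB1.tensorMod L (ClSub.quotMod Z))
  have hiZ : ClSub.idealModι Z ≫ s = 0 := by
    refine Groth.L21.Mod.hom_ext_stalk fun x => ?_
    ext v
    rw [Functor.map_zero]
    change st (ClSub.idealModι Z ≫ s) x v = 0
    obtain ⟨V, hV, hxV, -⟩ := exists_isAffineOpen_mem_and_subset (x := x) (U := ⊤) trivial
    obtain ⟨r, hr, hrv⟩ := (Groth.L21.RR.range_st_idealModι Z hV hxV _).1 ⟨v, rfl⟩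
    obtain ⟨e, he⟩ := exists_frame_stalk hL x
    haveI := Groth.L21.RR.epi_toSubscheme Z
    obtain ⟨w, hw⟩ := (Groth.L21.Mod.epi_iff_stalk_surjective (ClSub.toSubscheme Z)).1 inferInstance x
      (tensorStalkEquiv (ClSub.quotMod Z) he (st s x (one X x)))
    obtain ⟨b, rfl⟩ := (bijective_smul_one x).2 w
    change st (ClSub.toSubscheme Z) x (b • one X x) = _ at hw
    rw [st_comp, ← hrv, map_smul, ← (tensorStalkEquiv (ClSub.quotMod Z) he).map_eq_zero_iff, map_smul, ← hw,
      ← map_smul, smul_smul, st_toSubscheme_eq_zero_iff Z hV hxV]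
    exact Ideal.mul_mem_right _ _ hr
  let t : ClSub.quotMod Z ⟶ CohB1.tensorMod L (ClSub.quotMod Z) :=
    (Groth.L21.RR.shortExact_idealSeq Z).gIsCokernel.desc (CokernelCofork.ofπ s hiZ)
  have ht : ClSub.toSubscheme Z ≫ t = s :=
    (Groth.L21.RR.shortExact_idealSeq Z).gIsCokernel.fac _ WalkingParallelPair.one
  haveI : IsIso t := by
    rw [Groth.L21.Mod.isIso_iff_stalk_bijective]
    intro x
    haveI := Groth.L21.RR.epi_toSubscheme Z
    have hsZ : Function.Surjective (st (ClSub.toSubscheme Z) x) :=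
      (Groth.L21.Mod.epi_iff_stalk_surjective (ClSub.toSubscheme Z)).1 inferInstance x
    obtain ⟨e, heb⟩ := exists_frame_stalk hL x
    let E := tensorStalkEquiv (ClSub.quotMod Z) heb
    let T : (ClSub.quotMod Z).presheaf.stalk x →ₗ[X.presheaf.stalk x] (ClSub.quotMod Z).presheaf.stalk x :=
      E.toLinearMap.comp (st t x)
    suffices hT : Function.Surjective T by
      haveI : Module.Finite (X.presheaf.stalk x) ((ClSub.quotMod Z).presheaf.stalk x) := by
        refine Module.Finite.of_surjective ((st (ClSub.toSubscheme Z) x).comp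
          (LinearMap.toSpanSingleton (X.presheaf.stalk x) _ (one X x))) ?_
        exact hsZ.comp (bijective_smul_one x).2
      have hi := OrzechProperty.injective_of_surjective_endomorphism T hT
      exact ⟨fun a b hab => hi (congrArg E hab), fun v => by
        obtain ⟨w, hw⟩ := hT (E v)
        exact ⟨w, E.injective hw⟩⟩
    by_cases hx : x ∈ (Z.support : Set X)
    swap
    · haveI := Groth.L21.RR.subsingleton_stalk_quotMod Z hx
      exact fun v => ⟨v, Subsingleton.elim _ _⟩
    obtain ⟨y, hy, hxy⟩ := exists_mem_of_mem_support m (he ▸ hx)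
    obtain ⟨h, hinj⟩ := injective_res_curve k hd hreg Z hZ hnc hL hdeg m hm he hy
    have hne' : s ≫ resT L h ≠ 0 := fun h0 => by
      refine hs (Groth.L21.RR.eq_zero_of_st_one s fun z => ?_)
      have h1 : hmap (resT L h) 0 ((e0 _).symm (s.app ⊤ (oneSec X))) = hmap (resT L h) 0 0 := by
        rw [map_zero]
        refine (e0 _).injective ?_
        rw [Groth.L21.RR.e0_hmap, AddEquiv.apply_symm_apply, map_zero]
        change (s ≫ resT L h).app ⊤ (oneSec X) = 0
        rw [h0]
        rfl
      have h2 := hinj h1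
      rw [AddEquiv.map_eq_zero_iff] at h2
      rw [Groth.L21.RR.st_one s z (W := ⊤) trivial, h2]
      simp [Groth.L18.Frame.rs]
    haveI := (hcurve y hy h).2 (s ≫ resT L h) hne'
    obtain ⟨a, ha⟩ := hsZ (E (st s x (one X x)))
    obtain ⟨a, rfl⟩ := (bijective_smul_one x).2 a
    change st (ClSub.toSubscheme Z) x (a • one X x) = _ at ha
    let Ey := tensorStalkEquiv (ClSub.quotMod (pt y)) heb
    have hc : Ey (st (s ≫ resT L h) x (one X x)) = st (ClSub.toSubscheme (pt y)) x (a • one X x) := by
      rw [st_comp, ← QuotSeq.toSubscheme_res h, st_comp, ha]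
      exact Groth.L21.RR.tensorStalkEquiv_natural (res h) heb _
    have hua : IsUnit a := by
      obtain ⟨V, hV, hxV, -⟩ := exists_isAffineOpen_mem_and_subset (x := x) (U := ⊤) trivial
      obtain ⟨w, hw⟩ := (Groth.L21.Mod.epi_iff_stalk_surjective (s ≫ resT L h)).1 inferInstance x
        (Ey.symm (st (ClSub.toSubscheme (pt y)) x (one X x)))
      obtain ⟨b, rfl⟩ := (bijective_smul_one x).2 w
      change st (s ≫ resT L h) x (b • one X x) = _ at hw
      have h1 : st (ClSub.toSubscheme (pt y)) x ((b * a - 1) • one X x) = 0 := by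
        rw [sub_smul, one_smul, map_sub, mul_smul, map_smul, ← hc, ← map_smul, ← map_smul (st (s ≫ resT L h) x), hw,
          LinearEquiv.apply_symm_apply, sub_self]
      rw [st_toSubscheme_eq_zero_iff _ hV hxV] at h1
      by_contra hu
      refine st_one_ne_zero_of_mem (pt y) hxy ?_
      rw [← one_smul (X.presheaf.stalk x) (one X x), st_toSubscheme_eq_zero_iff _ hV hxV]
      have hu' : IsUnit (b * a - 1) := by
        by_contra hn
        have := (IsLocalRing.maximalIdeal (X.presheaf.stalk x)).sub_mem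
          (Ideal.mul_mem_left _ b (show a ∈ IsLocalRing.maximalIdeal _ from hu)) hn
        rw [sub_sub_cancel] at this
        exact (IsLocalRing.maximalIdeal.isMaximal _).ne_top ((Ideal.eq_top_iff_one _).2 this)
      rw [Ideal.eq_top_of_isUnit_mem _ h1 hu']
      trivial
    intro v
    obtain ⟨w, hw⟩ := hsZ v
    obtain ⟨r, rfl⟩ := (bijective_smul_one x).2 w
    change st (ClSub.toSubscheme Z) x (r • one X x) = _ at hw
    refine ⟨st (ClSub.toSubscheme Z) x ((r * ↑hua.unit⁻¹) • one X x), ?_⟩
    change E (st t x _) = v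
    rw [← st_comp, ht, map_smul, map_smul, ← ha, ← map_smul, smul_smul, mul_assoc, IsUnit.val_inv_mul, mul_one, hw]
  exact ⟨(asIso t).symm⟩

end Groth.L03.BlowPt.Ramanujam
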