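import Groth.Agent.L03.BlowPt.Rational

/-!
# Rational configurations of curves
-/

set_option autoImplicit false
set_option linter.style.haveILetI false
set_option linter.unusedSectionVars false
set_option backward.isDefEq.respectTransparency false

universe u

open CategoryTheory CategoryTheory.Limits AlgebraicGeometry TopologicalSpace
open Groth.L22 Groth.L22.Inter Groth.L22.Nef Groth.L22.Big Groth.L22.CartierDecomp Groth.L03.SurfNum
open Groth.L03.SurfAdj (hhEquiv)
open Groth.L00.Tensor (tensorIso tensorComm tensorUnitLeft tensorUnitRight tensorAssoc)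
open Groth.L03.BlowPt.Ramanujam

noncomputable section

namespace Groth.L03.BlowPt.Rational

variable {X : Scheme.{u}}

theorem self_mem_support_pt (y : X) : y ∈ ((pt y).support : Set X) := by
  rw [Groth.L18.support_vanishingIdeal]; exact subset_closure rfl

theorem mem_support_of_mem {m : Multiset X} {y : X} (hy : y ∈ m) : y ∈ ((prodPt m).support : Set X) := by
  obtain ⟨m', rfl⟩ := Multiset.exists_cons_of_mem hy
  rw [prodPt_cons, Scheme.IdealSheafData.support_mul]
  exact Or.inl (self_mem_support_pt y)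

theorem prodPt_ne_top {m : Multiset X} (hm : m ≠ 0) : prodPt m ≠ ⊤ := fun htop => by
  obtain ⟨y, hy⟩ := Multiset.exists_mem_of_ne_zero hm
  have h := mem_support_of_mem hy
  rw [htop] at h
  simp at h

theorem prodPt_add (a b : Multiset X) : prodPt (a + b) = prodPt a * prodPt b := by
  simp [prodPt]

theorem ne_zero_of_ne_top {m : Multiset X} (h : prodPt m ≠ ⊤) : m ≠ 0 := fun h0 => h (by
  rw [h0, prodPt, Multiset.map_zero, Multiset.prod_zero, Scheme.IdealSheafData.one_eq_top])

variable (k : Type u) [Field k] [IsAlgClosed k] [X.Over (Spec (CommRingCat.of k))]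
  [IsProper (X ↘ Spec (CommRingCat.of k))] [IsIntegral X] (hd : topologicalKrullDim X = (2 : ℕ))
  (hreg : ∀ x : X, IsRegularLocalRing (X.presheaf.stalk x))

include k hd hreg

theorem vanish_of_euler_pos (m : Multiset X) (hm : ∀ y ∈ m, topologicalKrullDim (closure ({y} : Set X)) = (1 : ℕ))
    (hm0 : m ≠ 0) (hpos : ∀ m' ≤ m, m' ≠ 0 → 1 ≤ Curv2.euler k X (ClSub.quotMod (prodPt m'))) :
    Subsingleton (Coh.HH X (ClSub.quotMod (prodPt m)) 1) := by
  obtain ⟨n, hn⟩ : ∃ n, m.card = n + 1 := Nat.exists_eq_succ_of_ne_zero fun h => hm0 (Multiset.card_eq_zero.1 h)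
  exact (h1_iff k hd hreg).1 (subsingleton_h1_of_euler_pos k hd hreg n m hn hm hpos)

variable {r : ℕ} {C : Fin r → X.IdealSheafData} (hC : Function.Injective C)
  (hCi : ∀ i, IsIntegral (C i).subscheme) (hCd : ∀ i, topologicalKrullDim ((C i).support : Set X) = 1)

include hC hCi hCd

theorem exists_points : ∃ y : Fin r → X, Function.Injective y ∧ (∀ i, C i = pt (y i)) ∧
    (∀ i, topologicalKrullDim (closure ({y i} : Set X)) = (1 : ℕ)) ∧
    ∀ Z : X.IdealSheafData, BlowUp.IsEffCartierIdeal Z → (Z.support : Set X) ⊆ ⋃ i, ((C i).support : Set X) →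
      ∃ m : Multiset X, (∀ z ∈ m, ∃ i, y i = z) ∧ Z = prodPt m := by
  let y : Fin r → X := fun i => haveI := hCi i; (C i).subschemeι (genericPoint (C i).subscheme)
  have he : ∀ i, C i = pt (y i) := fun i => haveI := hCi i; eq_pt (C i)
  have hyd : ∀ i, topologicalKrullDim (closure ({y i} : Set X)) = (1 : ℕ) := fun i =>
    haveI := hCi i; (dim_support (C i)).symm.trans ((hCd i).trans Nat.cast_one.symm)
  refine ⟨y, fun i j h => hC (by rw [he i, he j, h]), he, hyd, fun Z hZ hZs => ?_⟩
  obtain ⟨m, hm, rfl⟩ := exists_prodPt k hd hreg hZ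
  refine ⟨m, fun z hz => ?_, rfl⟩
  obtain ⟨i, hi⟩ := Set.mem_iUnion.1 (hZs (mem_support_of_mem hz))
  rw [he i, Groth.L18.support_vanishingIdeal] at hi
  exact ⟨i, eq_of_specializes_top isClosed_closure (hyd i).le (hm z hz) (subset_closure rfl)
    (specializes_iff_mem_closure.2 hi)⟩

omit hC hCi hCd in
theorem ii_prod_eq_sum [DecidableEq X] {y : Fin r → X} (hy : Function.Injective y)
    (hyd : ∀ i, topologicalKrullDim (closure ({y i} : Set X)) = (1 : ℕ)) {A : X.Modules} (hA : PicF.IsInvertible A)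
    (m : Multiset X) (hm : ∀ z ∈ m, ∃ i, y i = z) :
    ii k (ClSub.idealMod (prodPt m)) A = ∑ i, (m.count (y i) : ℚ) * ii k (ClSub.idealMod (pt (y i))) A := by
  induction m using Multiset.induction_on with
  | empty =>
    have h1 := Groth.L03.SurfAmple.ii_ideal_mul k hd.le (I := (1 : X.IdealSheafData)) (J := 1)
      Groth.L22.Ideals.isEffCartier_top Groth.L22.Ideals.isEffCartier_top hA
    rw [one_mul] at h1
    rw [prodPt, Multiset.map_zero, Multiset.prod_zero]
    simp only [Multiset.count_zero, Nat.cast_zero, zero_mul, Finset.sum_const_zero]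
    linarith
  | cons z m ih =>
    have hm' : ∀ w ∈ m, ∃ i, y i = w := fun w hw => hm w (Multiset.mem_cons_of_mem hw)
    obtain ⟨j, hj⟩ := hm z (Multiset.mem_cons_self z m)
    subst hj
    rw [prodPt_cons, Groth.L03.SurfAmple.ii_ideal_mul k hd.le (isEffCartier_pt k hd hreg (hyd j))
      (isEffCartier_prodPt k hd hreg m fun w hw => by obtain ⟨i, rfl⟩ := hm' w hw; exact hyd i) hA, ih hm']
    have : ∀ i, (((y j ::ₘ m).count (y i) : ℕ) : ℚ) = (if i = j then 1 else 0) + (m.count (y i) : ℚ) := fun i => by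
      rw [Multiset.count_cons]
      simp only [hy.eq_iff]
      split_ifs <;> push_cast <;> ring
    simp only [this, add_mul, Finset.sum_add_distrib, ite_mul, one_mul, zero_mul, Finset.sum_ite_eq',
      Finset.mem_univ, if_true]

/-- A configuration of rational `(-2)`-curves with negative definite matrix is rational. -/
theorem minusTwo (hCrat : ∀ i, Subsingleton (Coh.HH X (ClSub.quotMod (C i)) 1))
    (hC2 : ∀ i, ii k (ClSub.idealMod (C i)) (ClSub.idealMod (C i)) = -2)
    (hneg : ∀ a : Fin r → ℤ, a ≠ 0 →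
      ∑ i, ∑ j, (a i : ℚ) * a j * ii k (ClSub.idealMod (C i)) (ClSub.idealMod (C j)) < 0)
    (Z : X.IdealSheafData) (hZ : BlowUp.IsEffCartierIdeal Z) (hZ0 : Z ≠ ⊤)
    (hZs : (Z.support : Set X) ⊆ ⋃ i, ((C i).support : Set X)) :
    Subsingleton (Coh.HH X (ClSub.quotMod Z) 1) := by
  classical
  obtain ⟨y, hy, he, hyd, hdec⟩ := exists_points k hd hreg hC hCi hCd
  obtain ⟨m, hm, rfl⟩ := hdec Z hZ hZs
  have hmc : ∀ z ∈ m, topologicalKrullDim (closure ({z} : Set X)) = (1 : ℕ) := fun z hz => by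
    obtain ⟨i, rfl⟩ := hm z hz; exact hyd i
  refine vanish_of_euler_pos k hd hreg m hmc (ne_zero_of_ne_top hZ0) fun m' hle hne => ?_
  have key : ∀ s : Multiset X, (∀ z ∈ s, ∃ i, y i = z) →
      2 * (Curv2.euler k X (ClSub.quotMod (prodPt s)) : ℚ) +
        ii k (ClSub.idealMod (prodPt s)) (ClSub.idealMod (prodPt s)) = 0 := by
    intro s hs
    induction s using Multiset.induction_on with
    | empty =>
      have h1 := Groth.L03.SurfAmple.ii_ideal_mul k hd.le (I := (1 : X.IdealSheafData)) (J := 1)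
        Groth.L22.Ideals.isEffCartier_top Groth.L22.Ideals.isEffCartier_top
        (inv_of_eff k hd hreg (Groth.L22.Ideals.isEffCartier_top (X := X)))
      rw [one_mul] at h1
      rw [prodPt, Multiset.map_zero, Multiset.prod_zero, euler_quot_one k]
      rw [← Scheme.IdealSheafData.one_eq_top] at h1
      push_cast
      linarith
    | cons z s ihs =>
      have hs' : ∀ w ∈ s, ∃ i, y i = w := fun w hw => hs w (Multiset.mem_cons_of_mem hw)
      obtain ⟨j, hj⟩ := hs z (Multiset.mem_cons_self z s)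
      subst hj
      have hsd : ∀ w ∈ s, topologicalKrullDim (closure ({w} : Set X)) = (1 : ℕ) := fun w hw => by
        obtain ⟨i, rfl⟩ := hs' w hw; exact hyd i
      have hyc := isEffCartier_pt k hd hreg (hyd j)
      have hsc := isEffCartier_prodPt k hd hreg s hsd
      have hyI := inv_of_eff k hd hreg hyc
      have hsI := inv_of_eff k hd hreg hsc
      have hpI := inv_of_eff k hd hreg (Groth.L22.Ideals.isEffCartier_mul hyc hsc)
      have hp : (Curv2.euler k X (ClSub.quotMod (pt (y j))) : ℚ) = 1 := by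
        have h1 := euler_pt_le_one k hd hreg (hyd j)
        have h2 := one_le_euler k hd hreg hyc (fun htop => by
          have h := self_mem_support_pt (y j)
          rw [htop] at h
          simp at h) (he j ▸ hCrat j)
        exact_mod_cast le_antisymm h1 h2
      have h2 := hC2 j
      rw [he j] at h2
      rw [euler_cons k hd hreg (hyd j) hsd, prodPt_cons, Groth.L03.SurfAmple.ii_ideal_mul k hd.le hyc hsc hpI,
        ii_comm k (ClSub.idealMod (pt (y j))) (ClSub.idealMod (pt (y j) * _)),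
        Groth.L03.SurfAmple.ii_ideal_mul k hd.le hyc hsc hyI,
        ii_comm k (ClSub.idealMod (prodPt s)) (ClSub.idealMod (pt (y j) * _)),
        Groth.L03.SurfAmple.ii_ideal_mul k hd.le hyc hsc hsI]
      have := ihs hs'
      linarith [ii_comm k (ClSub.idealMod (pt (y j))) (ClSub.idealMod (prodPt s))]
  have hm' : ∀ z ∈ m', ∃ i, y i = z := fun z hz => hm z (Multiset.mem_of_le hle hz)
  have h1 := key m' hm'
  have hI := inv_of_eff k hd hreg (isEffCartier_prodPt k hd hreg m' fun z hz => hmc z (Multiset.mem_of_le hle hz))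
  have h2 : ii k (ClSub.idealMod (prodPt m')) (ClSub.idealMod (prodPt m')) < 0 := by
    obtain ⟨z, hz⟩ := Multiset.exists_mem_of_ne_zero hne
    obtain ⟨i, rfl⟩ := hm' z hz
    have h := hneg (fun i => (m'.count (y i) : ℤ)) fun h0 => by
      have := congrFun h0 i
      simp only [Pi.zero_apply, Int.natCast_eq_zero, Multiset.count_eq_zero] at this
      exact this hz
    refine lt_of_eq_of_lt ?_ h
    rw [ii_prod_eq_sum k hd hreg hy hyd hI m' hm']
    refine Finset.sum_congr rfl fun i _ => ?_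
    rw [ii_comm, ii_prod_eq_sum k hd hreg hy hyd (inv_of_eff k hd hreg (isEffCartier_pt k hd hreg (hyd i))) m' hm',
      Finset.mul_sum]
    refine Finset.sum_congr rfl fun j _ => ?_
    rw [he i, he j, ii_comm k (ClSub.idealMod (pt (y i)))]
    push_cast
    ring
  have h3 : ((0 : ℤ) : ℚ) < (Curv2.euler k X (ClSub.quotMod (prodPt m')) : ℚ) := by push_cast; linarith
  have h4 : (0 : ℤ) < Curv2.euler k X (ClSub.quotMod (prodPt m')) := by exact_mod_cast h3
  omega

variable (hconn : ∀ S : Finset (Fin r), S.Nonempty → Sᶜ.Nonempty →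
    ∃ i ∈ S, ∃ j ∈ Sᶜ, ii k (ClSub.idealMod (C i)) (ClSub.idealMod (C j)) ≠ 0)
  (Z₀ : X.IdealSheafData) (hZ₀ : BlowUp.IsEffCartierIdeal Z₀) (hZ₀0 : Z₀ ≠ ⊤)
  (hZ₀s : (Z₀.support : Set X) ⊆ ⋃ i, ((C i).support : Set X))
  (hZ₀C : ∀ i, 0 ≤ degOn k (C i) (ClSub.idealMod Z₀))
  (hZ₀min : ∀ Z : X.IdealSheafData, BlowUp.IsEffCartierIdeal Z → Z ≠ ⊤ →
    (Z.support : Set X) ⊆ ⋃ i, ((C i).support : Set X) → (∀ i, 0 ≤ degOn k (C i) (ClSub.idealMod Z)) → Z ≤ Z₀)

include hconn hZ₀ hZ₀0 hZ₀s hZ₀C hZ₀min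

/-- A fundamental cycle has a computation sequence through all the curves. -/
theorem exists_seq : ∃ (y : Fin r → X) (m₀ : Multiset X), (∀ i, C i = pt (y i)) ∧
    (∀ i, topologicalKrullDim (closure ({y i} : Set X)) = (1 : ℕ)) ∧ (∀ i, y i ∈ m₀) ∧ (∀ z ∈ m₀, ∃ i, y i = z) ∧
    Z₀ = prodPt m₀ ∧ Seq k m₀ := by
  classical
  obtain ⟨y, hy, he, hyd, hdec⟩ := exists_points k hd hreg hC hCi hCd
  obtain ⟨m₀, hm₀, hZm⟩ := hdec Z₀ hZ₀ hZ₀s
  have hdim : ∀ z, (∃ i, y i = z) → topologicalKrullDim (closure ({z} : Set X)) = (1 : ℕ) := by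
    rintro z ⟨i, rfl⟩; exact hyd i
  have hinv := fun i => inv_of_eff k hd hreg (isEffCartier_pt k hd hreg (hyd i))
  have hdeg : ∀ i, ∀ Z : X.IdealSheafData, BlowUp.IsEffCartierIdeal Z →
      (degOn k (C i) (ClSub.idealMod Z) : ℚ) = - ii k (ClSub.idealMod Z) (ClSub.idealMod (pt (y i))) := by
    intro i Z hZ
    rw [he i, degOn_cast k (hinv i) (inv_of_eff k hd hreg hZ), ii_comm]
  have hZy : ∀ i, ii k (ClSub.idealMod Z₀) (ClSub.idealMod (pt (y i))) ≤ 0 := fun i => by
    have h := hdeg i Z₀ hZ₀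
    have h' : (0 : ℚ) ≤ degOn k (C i) (ClSub.idealMod Z₀) := by exact_mod_cast hZ₀C i
    linarith
  have hne : m₀ ≠ 0 := ne_zero_of_ne_top (hZm ▸ hZ₀0)
  have hmc : ∀ z ∈ m₀, topologicalKrullDim (closure ({z} : Set X)) = (1 : ℕ) := fun z hz => hdim z (hm₀ z hz)
  -- every curve is a component
  have hall : ∀ i, y i ∈ m₀ := by
    by_contra hnall
    push Not at hnall
    obtain ⟨i₀, hi₀⟩ := hnall
    let S : Finset (Fin r) := Finset.univ.filter fun i => y i ∈ m₀
    obtain ⟨z, hz⟩ := Multiset.exists_mem_of_ne_zero hne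
    obtain ⟨i₁, rfl⟩ := hm₀ z hz
    obtain ⟨i, hi, j, hj, hij⟩ := hconn S ⟨i₁, by simp [S, hz]⟩ ⟨i₀, by simp [S, hi₀]⟩
    simp only [S, Finset.mem_filter, Finset.mem_univ, true_and, Finset.mem_compl] at hi hj
    obtain ⟨m', hm'⟩ := Multiset.exists_cons_of_mem hi
    have hj' : y j ∉ m' := fun h => hj (hm' ▸ Multiset.mem_cons_of_mem h)
    have hm'd : ∀ z ∈ m', topologicalKrullDim (closure ({z} : Set X)) = (1 : ℕ) :=
      fun z hz => hmc z (hm' ▸ Multiset.mem_cons_of_mem hz)
    have h1 := hZy j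
    rw [hZm, hm', prodPt_cons, Groth.L03.SurfAmple.ii_ideal_mul k hd.le (isEffCartier_pt k hd hreg (hyd i))
      (isEffCartier_prodPt k hd hreg m' hm'd) (hinv j)] at h1
    have h2 := ii_prod_nonneg k hd hreg (hyd j) m' hm'd hj'
    have h3 : 0 ≤ ii k (ClSub.idealMod (pt (y i))) (ClSub.idealMod (pt (y j))) := by
      have := ii_prod_nonneg k hd hreg (hyd j) {y i} (fun z hz => by
        rw [Multiset.mem_singleton.1 hz]; exact hyd i) (fun h => hj ((Multiset.mem_singleton.1 h) ▸ hi))
      simpa [prodPt] using this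
    rw [he i, he j] at hij
    exact hij (le_antisymm (by linarith) h3)
  have grow : ∀ (n : ℕ) (m : Multiset X), m ≤ m₀ → m ≠ 0 → m₀.card ≤ m.card + n → Seq k m → Seq k m₀ := by
    intro n
    induction n with
    | zero =>
      intro m hle _ hcard hseq
      rwa [← Multiset.eq_of_le_of_card_le hle (by simpa using hcard)]
    | succ n ih =>
      intro m hle hm0 hcard hseq
      have hmd : ∀ z ∈ m, topologicalKrullDim (closure ({z} : Set X)) = (1 : ℕ) :=
        fun z hz => hmc z (Multiset.mem_of_le hle hz)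
      by_cases hex : ∃ i, 0 < ii k (ClSub.idealMod (prodPt m)) (ClSub.idealMod (pt (y i)))
      · obtain ⟨i, hi⟩ := hex
        have hlt : m.count (y i) < m₀.count (y i) := by
          by_contra hge
          rw [not_lt] at hge
          obtain ⟨r', hr'⟩ := Multiset.le_iff_exists_add.1 hle
          have hyr : y i ∉ r' := fun h => by
            have := Multiset.count_pos.2 h
            rw [hr', Multiset.count_add] at hge
            omega
          have hrd : ∀ z ∈ r', topologicalKrullDim (closure ({z} : Set X)) = (1 : ℕ) :=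
            fun z hz => hmc z (hr' ▸ Multiset.mem_add.2 (Or.inr hz))
          have h1 := hZy i
          rw [hZm, hr', prodPt_add, Groth.L03.SurfAmple.ii_ideal_mul k hd.le (isEffCartier_prodPt k hd hreg m hmd)
            (isEffCartier_prodPt k hd hreg r' hrd) (hinv i)] at h1
          linarith [ii_prod_nonneg k hd hreg (hyd i) r' hrd hyr]
        refine ih (y i ::ₘ m) ?_ (Multiset.cons_ne_zero) (by rw [Multiset.card_cons]; omega) (Seq.cons _ _ hseq hi)
        rw [Multiset.le_iff_count]
        intro z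
        rw [Multiset.count_cons]
        split_ifs with h
        · subst h; omega
        · exact Multiset.le_iff_count.1 hle z
      · push Not at hex
        have hmE := isEffCartier_prodPt k hd hreg m hmd
        have hsub : ((prodPt m).support : Set X) ⊆ ⋃ i, ((C i).support : Set X) := fun z hz => by
          obtain ⟨w, hw, hzw⟩ := exists_mem_of_mem_support m hz
          obtain ⟨i, rfl⟩ := hm₀ w (Multiset.mem_of_le hle hw)
          exact Set.mem_iUnion.2 ⟨i, he i ▸ hzw⟩
        have h1 := hZ₀min _ hmE (prodPt_ne_top hm0) hsub fun i => by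
          have h := hdeg i _ hmE
          have : ((0 : ℤ) : ℚ) ≤ degOn k (C i) (ClSub.idealMod (prodPt m)) := by
            rw [h]; push_cast; linarith [hex i]
          exact_mod_cast this
        rw [hZm] at h1
        rwa [← le_antisymm hle (le_of_prodPt_le k hd hreg hmd hmc h1)]
  obtain ⟨z, hz⟩ := Multiset.exists_mem_of_ne_zero hne
  exact ⟨y, m₀, he, hyd, hall, hm₀, hZm,
    grow m₀.card {z} (Multiset.singleton_le.2 hz) (Multiset.singleton_ne_zero z) (Nat.le_add_left _ _) (Seq.single z)⟩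

/-- The fundamental cycle has Euler characteristic at most one, with vanishing in the case of equality. -/
theorem fundamental :
    Curv2.euler k X (ClSub.quotMod Z₀) ≤ 1 ∧ (1 ≤ Curv2.euler k X (ClSub.quotMod Z₀) →
      ∀ L : X.Modules, PicF.IsInvertible L → (∀ i, 0 ≤ degOn k (C i) L) →
        Subsingleton (Coh.HH X (CohB1.tensorMod L (ClSub.quotMod Z₀)) 1)) := by
  obtain ⟨y, m₀, he, hyd, -, hm₀, hZm, hseq⟩ := exists_seq k hd hreg hC hCi hCd hconn Z₀ hZ₀ hZ₀0 hZ₀s hZ₀C hZ₀min
  have h := seq_facts k hd hreg hseq fun z hz => by obtain ⟨i, rfl⟩ := hm₀ z hz; exact hyd i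
  rw [hZm]
  refine ⟨h.1, fun h1 L hL hdeg => h.2 h1 L hL fun z hz => ?_⟩
  obtain ⟨i, rfl⟩ := hm₀ z hz
  exact he i ▸ hdeg i

/-- Rationality from the fundamental cycle. -/
theorem vanish_of_fundamental (hχ : Curv2.euler k X (ClSub.quotMod Z₀) = 1)
    (Z : X.IdealSheafData) (hZ : BlowUp.IsEffCartierIdeal Z) (hZ0 : Z ≠ ⊤)
    (hZs : (Z.support : Set X) ⊆ ⋃ i, ((C i).support : Set X)) :
    Subsingleton (Coh.HH X (ClSub.quotMod Z) 1) := by
  classical
  have hO := Groth.L18.Ample.isInvertible_structureModule X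
  obtain ⟨y, m₀, he, hyd, hall, hm₀, hZm, -⟩ := exists_seq k hd hreg hC hCi hCd hconn Z₀ hZ₀ hZ₀0 hZ₀s hZ₀C hZ₀min
  obtain ⟨hle, hvan⟩ := fundamental k hd hreg hC hCi hCd hconn Z₀ hZ₀ hZ₀0 hZ₀s hZ₀C hZ₀min
  have hinv := fun i => inv_of_eff k hd hreg (isEffCartier_pt k hd hreg (hyd i))
  have hm₀d : ∀ z ∈ m₀, topologicalKrullDim (closure ({z} : Set X)) = (1 : ℕ) := fun z hz => by
    obtain ⟨i, rfl⟩ := hm₀ z hz; exact hyd i
  have hpow : ∀ n : ℕ, Subsingleton
      (Coh.HH X (CohB1.tensorMod (Coh.structureModule X) (ClSub.quotMod (prodPt ((n + 1) • m₀)))) 1) := by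
    intro n
    induction n with
    | zero =>
      rw [one_nsmul, ← hZm]
      exact hvan hχ.ge _ hO fun i => (degOn_structure k hd hreg (C i)).ge
    | succ n ih =>
      have hmd : ∀ z ∈ (n + 1) • m₀, topologicalKrullDim (closure ({z} : Set X)) = (1 : ℕ) :=
        fun z hz => hm₀d z (Multiset.mem_nsmul.1 hz).2
      have hD := isEffCartier_prodPt k hd hreg _ hmd
      rw [succ_nsmul, prodPt_add]
      refine step k hd hreg hD hO ?_ ih
      rw [← hZm]
      refine hvan hχ.ge _ (Groth.L18.GenLoc.isInvertible_tensor hO (inv_of_eff k hd hreg hD)) fun i => ?_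
      have h := degOn_eq k hd hreg (isEffCartier_pt k hd hreg (hyd i)) hO hD
      rw [degOn_structure k hd hreg, ← he i] at h
      have hsum : ∀ j : ℕ, ii k (ClSub.idealMod (prodPt (j • m₀))) (ClSub.idealMod (C i)) =
          (j : ℚ) * ii k (ClSub.idealMod Z₀) (ClSub.idealMod (C i)) := by
        intro j
        induction j with
        | zero =>
          have h1 := Groth.L03.SurfAmple.ii_ideal_mul k hd.le (I := (1 : X.IdealSheafData)) (J := 1)
            Groth.L22.Ideals.isEffCartier_top Groth.L22.Ideals.isEffCartier_top (he i ▸ hinv i)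
          rw [one_mul] at h1
          rw [zero_nsmul, prodPt, Multiset.map_zero, Multiset.prod_zero]
          push_cast
          linarith
        | succ j ihj =>
          rw [succ_nsmul, prodPt_add, Groth.L03.SurfAmple.ii_ideal_mul k hd.le
            (isEffCartier_prodPt k hd hreg _ fun z hz => hm₀d z (Multiset.mem_nsmul.1 hz).2)
            (hZm ▸ hZ₀) (he i ▸ hinv i), ihj, ← hZm]
          push_cast
          ring
      have h2 : ii k (ClSub.idealMod Z₀) (ClSub.idealMod (C i)) ≤ 0 := by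
        have h3 := degOn_cast k (he i ▸ hinv i : PicF.IsInvertible (ClSub.idealMod (C i))) (inv_of_eff k hd hreg hZ₀)
        have h' : (0 : ℚ) ≤ degOn k (C i) (ClSub.idealMod Z₀) := by exact_mod_cast hZ₀C i
        rw [ii_comm]
        linarith
      have h4 : ((0 : ℤ) : ℚ) ≤ degOn k (C i) (CohB1.tensorMod (Coh.structureModule X)
          (ClSub.idealMod (prodPt ((n + 1) • m₀)))) := by
        rw [h, hsum]
        push_cast
        nlinarith [(Nat.cast_nonneg n : (0 : ℚ) ≤ n)]
      exact_mod_cast h4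
  obtain ⟨y', hy', he', hyd', hdec⟩ := exists_points k hd hreg hC hCi hCd
  obtain ⟨m, hm, rfl⟩ := hdec Z hZ hZs
  have hmd : ∀ z ∈ m, topologicalKrullDim (closure ({z} : Set X)) = (1 : ℕ) := fun z hz => by
    obtain ⟨i, rfl⟩ := hm z hz; exact hyd' i
  have hsub : m ≤ (m.card + 1) • m₀ := by
    rw [Multiset.le_iff_count]
    intro z
    by_cases hz : z ∈ m
    · obtain ⟨i, rfl⟩ := hm z hz
      have hzm : y' i ∈ m₀ := by
        rw [pt_inj k hd hreg ((he' i).symm.trans (he i))]; exact hall i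
      have h1 := Multiset.count_pos.2 hzm
      have h2 := Multiset.count_le_card (y' i) m
      rw [Multiset.count_nsmul]
      nlinarith
    · rw [Multiset.count_eq_zero.2 hz]; exact Nat.zero_le _
  obtain ⟨m', hm'⟩ := Multiset.le_iff_exists_add.1 hsub
  have h := hpow m.card
  rw [hm', prodPt_add] at h
  exact (h1_iff k hd hreg).1 (of_mul k hd hreg hZ (isEffCartier_prodPt k hd hreg m' fun z hz =>
    hm₀d z (Multiset.mem_nsmul.1 (hm' ▸ Multiset.mem_add.2 (Or.inr hz))).2) hO h)

end Groth.L03.BlowPt.Rational
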