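import Groth.Agent.L03.BlowPt.MultiExc
import Groth.Agent.L03.BlowPt.QuotSeq
import Groth.Agent.L03.BlowPt.OffExc
import Groth.Agent.L03.BlowPt.Rational
import Groth.Agent.L03.PlaneProj.Vertical
import Groth.Agent.L22.Ideal

/-!
# Sections on thickenings of the exceptional curves
-/

set_option autoImplicit false
set_option linter.style.haveILetI false
set_option backward.isDefEq.respectTransparency false
set_option linter.unusedSectionVars false

universe u

open CategoryTheory CategoryTheory.Limits AlgebraicGeometry TopologicalSpace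
open Groth.L22.Inter Groth.L22.Nef Groth.L22.Big Groth.L03.Euler Groth.L03.SurfNum
open Groth.L00.Tensor (tensorIso tensorComm tensorUnitLeft tensorUnitRight tensorAssoc)
open Groth.L16.CohLinear (hmap exact_hmap_hmap exact_hmap_delta exact_delta_hmap)

noncomputable section

namespace Groth.L03.BlowPt.MultiExc

open Groth.L03.BlowPt

variable (k : Type u) [Field k] [IsAlgClosed k] {X X' : Scheme.{u}} [X.Over (Spec (CommRingCat.of k))]
  [IsIntegral X] [IsProper (X ↘ (Spec (CommRingCat.of k)))]
  (hd : topologicalKrullDim X = (2 : ℕ)) (hreg : ∀ x : X, IsRegularLocalRing (X.presheaf.stalk x))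
  {σ : X' ⟶ X} {r : ℕ} {P : Fin r → X}
  (hP : Function.Injective P) (hPc : ∀ i, IsClosed ({P i} : Set X)) {hZ : IsClosed (Set.range P)}
  (hσ : BlowUp.IsBlowUp σ (Scheme.IdealSheafData.vanishingIdeal ⟨Set.range P, hZ⟩))

include k hd hreg hP hPc in
/-- The centre is the product of its points. -/
theorem vanishingIdeal_eq_prod :
    Scheme.IdealSheafData.vanishingIdeal (⟨Set.range P, hZ⟩ : Closeds X) = ∏ i, ptI (hPc i) := by
  classical
  haveI := Groth.L21.RR.isNoetherian_of_proper (X := X) k
  obtain ⟨D, -⟩ := Groth.L03.BlowAcyc.nonempty_pointCharts P hP hPc hZ 1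
    (fun t => hreg _) (fun t => ringKrullDim_stalk_closed k hd (hPc t))
    (fun _ => ⊤) (fun _ => trivial)
  let I := Scheme.IdealSheafData.vanishingIdeal (⟨Set.range P, hZ⟩ : Closeds X)
  have hprod : ∀ (S : Finset (Fin r)) (V : X.affineOpens),
      (∏ i ∈ S, ptI (hPc i)).ideal V = ∏ i ∈ S, (ptI (hPc i)).ideal V := by
    intro S V
    induction S using Finset.induction_on with
    | empty =>
      rw [Finset.prod_empty, Finset.prod_empty, Scheme.IdealSheafData.one_eq_top, Scheme.IdealSheafData.ideal_top,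
        Pi.top_apply, Ideal.one_eq_top]
    | insert a S ha ih =>
      rw [Finset.prod_insert ha, Finset.prod_insert ha, Scheme.IdealSheafData.ideal_mul, Pi.mul_apply, ih]
  have htop : ∀ (i : Fin r) (V : X.affineOpens), P i ∉ V.1 → (ptI (hPc i)).ideal V = ⊤ := fun i V h =>
    Groth.L22.CartierDecomp.ideal_eq_top fun z hz hzs => h (by
      have h1 : z = P i := by simpa [ptI] using hzs
      exact h1 ▸ hz)
  have hout : ∀ z : X, z ∉ Set.range P → ∃ V : X.affineOpens, z ∈ V.1 ∧ ∀ i, P i ∉ V.1 := fun z hz => by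
    obtain ⟨V, hV, hzV, hVle⟩ := exists_isAffineOpen_mem_and_subset (x := z)
      (U := (⟨(Set.range P)ᶜ, hZ.isOpen_compl⟩ : X.Opens)) hz
    exact ⟨⟨V, hV⟩, hzV, fun i hi => (hVle hi) ⟨i, rfl⟩⟩
  choose V hzV hV using hout
  let W : (Fin r) ⊕ {z : X // z ∉ Set.range P} → X.affineOpens := Sum.elim D.U fun z => V z.1 z.2
  refine Scheme.IdealSheafData.ext_of_iSup_eq_top W (eq_top_iff.2 fun z _ => Opens.mem_iSup.2 ?_) fun x => ?_
  · by_cases hz : z ∈ Set.range P
    · obtain ⟨i, rfl⟩ := hz
      exact ⟨Sum.inl i, D.mem i⟩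
    · exact ⟨Sum.inr ⟨z, hz⟩, hzV z hz⟩
  · rcases x with t | ⟨z, hz⟩
    · show I.ideal (D.U t) = (∏ i, ptI (hPc i)).ideal (D.U t)
      rw [hprod, Finset.prod_eq_single t (fun i _ hi => by
        rw [htop i (D.U t) (D.sep t i hi.symm), Ideal.one_eq_top]) (fun h => absurd (Finset.mem_univ t) h),
        D.ideal t, D.pt t]
    · show I.ideal (V z hz) = (∏ i, ptI (hPc i)).ideal (V z hz)
      rw [hprod, Finset.prod_eq_one fun i _ => by rw [htop i (V z hz) (hV z hz i), Ideal.one_eq_top]]
      rw [Ideal.one_eq_top]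
      refine Groth.L22.CartierDecomp.ideal_eq_top fun w hw hws => ?_
      rw [Groth.L18.support_vanishingIdeal] at hws
      obtain ⟨i, rfl⟩ := hws
      exact hV z hz i hw

include k hd hreg hP hPc in
/-- The exceptional divisor is the product of the exceptional curves. -/
theorem exceptional_eq_prod :
    BlowUp.exceptional σ (Scheme.IdealSheafData.vanishingIdeal (⟨Set.range P, hZ⟩ : Closeds X)) =
      ∏ i, exc (hPc i) σ := by
  classical
  rw [BlowUp.exceptional, vanishingIdeal_eq_prod k hd hreg hP hPc (hZ := hZ)]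
  induction (Finset.univ : Finset (Fin r)) using Finset.induction_on with
  | empty =>
    simp only [Finset.prod_empty, Scheme.IdealSheafData.one_eq_top]
    exact Scheme.IdealSheafData.comap_top σ
  | insert a S ha ih =>
    rw [Finset.prod_insert ha, Finset.prod_insert ha, Groth.L22.Ideals.comap_mul, ih]

variable [X'.Over (Spec (CommRingCat.of k))] [IsProper (X' ↘ (Spec (CommRingCat.of k)))] [IsIntegral X']
  (hσk : σ ≫ (X ↘ Spec (CommRingCat.of k)) = X' ↘ (Spec (CommRingCat.of k)))

include k hd hreg hP hPc hσ hσk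

/-- Exceptional curves have genus zero. -/
theorem euler_exc (i : Fin r) : Curv2.euler k X' (ClSub.quotMod (exc (hPc i) σ)) = 1 := by
  haveI := Groth.L21.RR.isNoetherian_of_proper (X := X) k
  haveI := Groth.L21.RR.isNoetherian_of_proper (X := X') k
  obtain ⟨D, -⟩ := Groth.L03.BlowAcyc.nonempty_pointCharts P hP hPc hZ 1
    (fun t => hreg _) (fun t => ringKrullDim_stalk_closed k hd (hPc t))
    (fun _ => ⊤) (fun _ => trivial)
  have hL : Groth.L03.BlowAcyc.LooksPow D σ ((Scheme.Modules.pullback σ).obj (Coh.structureModule _)) :=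
    Groth.L03.BlowAcyc.looksPow_pullback D (Groth.L18.Ample.isInvertible_structureModule _)
      fun t => ⟨Groth.L29.LocFree.pullbackUnitIso _⟩
  have hh1 : Subsingleton (Coh.HH (exc (hPc i) σ).subscheme (Coh.structureModule (exc (hPc i) σ).subscheme) 1) := by
    have h := Groth.L14.LocHilbLift.subsingleton_HH_of_iso ((Scheme.Modules.pushforward (exc (hPc i) σ).subschemeι).mapIso
      ((Scheme.Modules.pullback (exc (hPc i) σ).subschemeι).mapIso (Groth.L29.LocFree.pullbackUnitIso σ) ≪≫
        Groth.L29.LocFree.pullbackUnitIso (exc (hPc i) σ).subschemeι)) 1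
      (Groth.L03.BlowAcyc.subsingleton_HH_ptExc_part hσ D hL i 1 one_pos)
    obtain ⟨a⟩ := Groth.L17.nonempty_HH_push_of_isClosedImmersion (exc (hPc i) σ).subschemeι
      (Coh.structureModule (exc (hPc i) σ).subscheme) 1
    exact @Equiv.subsingleton _ _ a.toEquiv h
  obtain ⟨y, hy, ey, -⟩ := exc_facts k hd hreg hP hPc hσ hσk i
  haveI : IsIntegral (exc (hPc i) σ).subscheme := ey ▸ isIntegral_pt y
  have hsupp : topologicalKrullDim ((exc (hPc i) σ).support : Set X') = 1 := by
    rw [ey, Groth.L18.support_vanishingIdeal]; exact hy.trans Nat.cast_one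
  exact (Groth.L03.SurfAdj.curve_euler k (exc (hPc i) σ) hsupp).2.2 hh1

/-- Sections of a line bundle on an exceptional curve. -/
theorem h0_piece {L : X'.Modules} (hL : PicF.IsInvertible L) (i : Fin r) :
    Module.finrank k (Coh.HH X' (CohB1.tensorMod L (ClSub.quotMod (exc (hPc i) σ))) 0) =
        (degOn k (exc (hPc i) σ) L + 1).toNat ∧
      (-1 ≤ degOn k (exc (hPc i) σ) L →
        Subsingleton (Coh.HH X' (CohB1.tensorMod L (ClSub.quotMod (exc (hPc i) σ))) 1)) := by
  haveI := Groth.L21.RR.isNoetherian_of_proper (X := X') k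
  have hd' := dim_up k hd hPc hσ
  have hreg' := regular_up k hd hreg hP hPc hσ
  obtain ⟨y, hy, ey, -, hyI, -, -⟩ := exc_facts k hd hreg hP hPc hσ hσk i
  have hχ := euler_exc k hd hreg hP hPc hσ hσk i
  rw [ey] at hχ ⊢
  haveI := isIntegral_pt y
  have hE := (Groth.Agent.L19.IdealInvertible.isEffCartier_iff (pt y)).1 hyI
  have h1 : -1 ≤ degOn k (pt y) L → Subsingleton (Coh.HH X' (CohB1.tensorMod L (ClSub.quotMod (pt y))) 1) :=
    fun h => Groth.L03.BlowPt.Rational.subsingleton_h1_curve k hd' hreg' hy hχ hL h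
  refine ⟨?_, h1⟩
  by_cases hdeg : degOn k (pt y) L < 0
  · haveI := subsingleton_h0_quot k (pt y) (by rw [Groth.L18.support_vanishingIdeal]; exact hy.trans Nat.cast_one) hL hdeg
    rw [Module.finrank_zero_of_subsingleton]
    omega
  · haveI := h1 (by omega)
    have h := Groth.L03.BlowPt.Rational.euler_twist k hd' hreg' hE hL
    rw [hχ, Module.finrank_zero_of_subsingleton (M := Coh.HH X' (CohB1.tensorMod L (ClSub.quotMod (pt y))) 1)] at h
    push_cast at h
    omega

/-- Degrees after twisting by a combination of the exceptional curves. -/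
theorem ii_prod_exc (e : Fin r → ℕ) :
    BlowUp.IsEffCartierIdeal (∏ l, exc (hPc l) σ ^ e l) ∧
      ∀ i, ii k (ClSub.idealMod (exc (hPc i) σ)) (ClSub.idealMod (∏ l, exc (hPc l) σ ^ e l)) = -(e i : ℚ) := by
  classical
  haveI := Groth.L21.RR.isNoetherian_of_proper (X := X') k
  have hd' := dim_up k hd hPc hσ
  have hE : ∀ l, BlowUp.IsEffCartierIdeal (exc (hPc l) σ) := fun l =>
    (Groth.Agent.L19.IdealInvertible.isEffCartier_iff _).1 (nonempty_echart k hd hreg hP hPc hσ l).2
  have hI : ∀ l, PicF.IsInvertible (ClSub.idealMod (exc (hPc l) σ)) := fun l =>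
    (nonempty_echart k hd hreg hP hPc hσ l).2
  have key : ∀ S : Finset (Fin r), BlowUp.IsEffCartierIdeal (∏ l ∈ S, exc (hPc l) σ ^ e l) ∧
      ∀ i, ii k (ClSub.idealMod (exc (hPc i) σ)) (ClSub.idealMod (∏ l ∈ S, exc (hPc l) σ ^ e l)) =
        -(if i ∈ S then (e i : ℚ) else 0) := by
    intro S
    induction S using Finset.induction_on with
    | empty =>
      refine ⟨by rw [Finset.prod_empty]; exact Groth.L22.Ideals.isEffCartier_top, fun i => ?_⟩
      obtain ⟨u⟩ := Groth.L03.BlowPt.nonempty_idealMod_one (X := X')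
      rw [Finset.prod_empty, ii_comm, ii_congr k u, if_neg (Finset.notMem_empty i), neg_zero]
      exact altT_unit k _
    | insert a S ha ih =>
      have hp := Groth.L03.BlowPt.isEffCartier_pow (hE a) (e a)
      rw [Finset.prod_insert ha]
      refine ⟨Groth.L22.Ideals.isEffCartier_mul hp ih.1, fun i => ?_⟩
      rw [ii_comm, Groth.L03.SurfAmple.ii_ideal_mul k hd'.le hp ih.1 (hI i),
        Groth.L03.BlowPt.ii_idealMod_pow k hd'.le (hE a) (hI i), ii_comm k (ClSub.idealMod (∏ l ∈ S, _)), ih.2 i]
      by_cases hia : i = a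
      · subst hia
        obtain ⟨y, -, ey, -, -, -, hyy⟩ := exc_facts k hd hreg hP hPc hσ hσk i
        rw [ey] at *
        rw [hyy, if_neg ha, if_pos (Finset.mem_insert_self _ _)]
        ring
      · rw [exc_disjoint k hd hreg hP hPc hσ hσk (fun h => hia h.symm), mul_zero, zero_add]
        by_cases hiS : i ∈ S
        · rw [if_pos hiS, if_pos (Finset.mem_insert_of_mem hiS)]
        · rw [if_neg hiS, if_neg (fun h => (Finset.mem_insert.1 h).elim hia hiS)]
  exact ⟨(key Finset.univ).1, fun i => by rw [(key Finset.univ).2 i, if_pos (Finset.mem_univ i)]⟩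

/-- Sections on any thickening of the exceptional curves. -/
theorem h0_thick {L : X'.Modules} (hL : PicF.IsInvertible L) : ∀ (e : Fin r → ℕ),
    Module.finrank k (Coh.HH X' (CohB1.tensorMod L (ClSub.quotMod (∏ l, exc (hPc l) σ ^ e l))) 0) =
      ∑ l, ∑ m ∈ Finset.range (e l), (degOn k (exc (hPc l) σ) L + m + 1).toNat := by
  classical
  haveI := Groth.L21.RR.isNoetherian_of_proper (X := X') k
  have hd' := dim_up k hd hPc hσ
  have hreg' := regular_up k hd hreg hP hPc hσ
  intro e
  induction hn : ∑ l, e l generalizing e with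
  | zero =>
    have he : ∀ l, e l = 0 := fun l => (Finset.sum_eq_zero_iff.1 hn) l (Finset.mem_univ l)
    simp only [he, Finset.range_zero, Finset.sum_empty, Finset.sum_const_zero]
    rw [Finset.prod_eq_one fun l _ => by rw [he l, pow_zero]]
    have h1 : BlowUp.IsEffCartierIdeal (1 : X'.IdealSheafData) := Groth.L22.Ideals.isEffCartier_top
    obtain ⟨χ, w, hS⟩ := QuotSeq.exists_shortExact ((Groth.Agent.L19.IdealInvertible.isEffCartier_iff _).2 h1)
      (1 : X'.IdealSheafData)
    have hT := Groth.L16.FrameIso.shortExact_tensor_left (Groth.L21.RR.isFlat_of_isInvertible hL) _ hS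
    obtain ⟨u⟩ := Groth.L03.BlowPt.nonempty_idealMod_one (X := X')
    let eK : CohB1.tensorMod L (CohB1.tensorMod (ClSub.idealMod (1 : X'.IdealSheafData))
        (ClSub.quotMod (1 : X'.IdealSheafData))) ≅ CohB1.tensorMod L (ClSub.quotMod (1 : X'.IdealSheafData)) :=
      tensorIso (Iso.refl L) (tensorIso u (Iso.refl _) ≪≫ tensorUnitLeft _)
    have hv : Subsingleton (Coh.HH X' (CohB1.tensorMod L (ClSub.quotMod (1 : X'.IdealSheafData))) 1) := by
      letI : (1 : X'.IdealSheafData).subscheme.Over (Spec (CommRingCat.of k)) :=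
        ⟨(1 : X'.IdealSheafData).subschemeι ≫ (X' ↘ (Spec (CommRingCat.of k)))⟩
      haveI : IsProper ((1 : X'.IdealSheafData).subscheme ↘ Spec (CommRingCat.of k)) :=
        inferInstanceAs (IsProper ((1 : X'.IdealSheafData).subschemeι ≫ (X' ↘ Spec (CommRingCat.of k))))
      haveI := Groth.L21.RR.isNoetherian_of_proper (X := (1 : X'.IdealSheafData).subscheme) k
      haveI : IsEmpty (1 : X'.IdealSheafData).subscheme := ⟨fun z => by
        have h : (1 : X'.IdealSheafData).subschemeι z ∈ ((1 : X'.IdealSheafData).support : Set X') := by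
          rw [← Scheme.IdealSheafData.range_subschemeι]; exact Set.mem_range_self z
        have h0 : (((1 : X'.IdealSheafData)).support : Set X') = ∅ := by
          rw [Scheme.IdealSheafData.one_eq_top, Scheme.IdealSheafData.support_top]; rfl
        rw [h0] at h
        exact h⟩
      obtain ⟨q⟩ := Groth.L03.SurfAdj.nonempty_twistQuot_equiv k (1 : X'.IdealSheafData) hL 1
      refine @Equiv.subsingleton _ _ q.toEquiv (subsingleton_HH_of_dim (d := 0) ?_ _ one_pos)
      exact (topologicalKrullDim_zero_of_discreteTopology _).trans (le_of_eq Nat.cast_zero.symm)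
    have h : Module.finrank k (Coh.HH X' (CohB1.tensorMod L (ClSub.quotMod ((1 : X'.IdealSheafData) * 1))) 0) =
        Module.finrank k (Coh.HH X' (CohB1.tensorMod L (CohB1.tensorMod (ClSub.idealMod (1 : X'.IdealSheafData))
          (ClSub.quotMod (1 : X'.IdealSheafData)))) 0) +
          Module.finrank k (Coh.HH X' (CohB1.tensorMod L (ClSub.quotMod (1 : X'.IdealSheafData))) 0) :=
      (Groth.L03.PlaneProj.seq_step k hT (Groth.L21.RR.isCoh_twistQuot (L := L)
        (I := (1 : X'.IdealSheafData) * 1) hL) ((Groth.L03.SurfAdj.hhEquiv k eK 1).toEquiv.subsingleton)).1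
    rw [(Groth.L03.SurfAdj.hhEquiv k eK 0).finrank_eq] at h
    rw [one_mul] at h
    omega
  | succ n ih =>
    obtain ⟨i, hi, hmax⟩ := (Finset.univ.filter fun l => e l ≠ 0).exists_max_image
      (fun l => degOn k (exc (hPc l) σ) L + e l) (by
        obtain ⟨l, -, hl⟩ := Finset.exists_ne_zero_of_sum_ne_zero (hn.trans_ne n.succ_ne_zero)
        exact ⟨l, Finset.mem_filter.2 ⟨Finset.mem_univ l, hl⟩⟩)
    obtain ⟨c, hc⟩ := Nat.exists_eq_succ_of_ne_zero (Finset.mem_filter.1 hi).2
    set e' := Function.update e i c with he'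
    have hsum' : ∑ l, e' l = n := by
      rw [he', Finset.sum_update_of_mem (Finset.mem_univ i)]
      have := Finset.add_sum_erase Finset.univ e (Finset.mem_univ i)
      rw [← Finset.sdiff_singleton_eq_erase] at this
      omega
    have hprod : ∏ l, exc (hPc l) σ ^ e l = (∏ l, exc (hPc l) σ ^ e' l) * exc (hPc i) σ := by
      rw [← Finset.mul_prod_erase Finset.univ (fun l => exc (hPc l) σ ^ e l) (Finset.mem_univ i),
        ← Finset.mul_prod_erase Finset.univ (fun l => exc (hPc l) σ ^ e' l) (Finset.mem_univ i),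
        Finset.prod_congr rfl (fun l hl => by rw [he', Function.update_of_ne (Finset.ne_of_mem_erase hl)] :
          ∀ l ∈ Finset.univ.erase i, exc (hPc l) σ ^ e' l = exc (hPc l) σ ^ e l),
        he', Function.update_self, hc, pow_succ]
      rw [mul_assoc, mul_comm (exc (hPc i) σ), ← mul_assoc]
    obtain ⟨hD, hDii⟩ := ii_prod_exc k hd hreg hP hPc hσ hσk e'
    have hDi := (Groth.Agent.L19.IdealInvertible.isEffCartier_iff _).2 hD
    obtain ⟨χ, w, hS⟩ := QuotSeq.exists_shortExact hDi (exc (hPc i) σ)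
    have hT := Groth.L16.FrameIso.shortExact_tensor_left (Groth.L21.RR.isFlat_of_isInvertible hL) _ hS
    let M := CohB1.tensorMod L (ClSub.idealMod (∏ l, exc (hPc l) σ ^ e' l))
    have hM : PicF.IsInvertible M := Groth.L18.GenLoc.isInvertible_tensor hL hDi
    have hdeg : degOn k (exc (hPc i) σ) M = degOn k (exc (hPc i) σ) L + c := by
      have h := Groth.L03.BlowPt.Rational.degOn_eq k hd' hreg'
        ((Groth.Agent.L19.IdealInvertible.isEffCartier_iff _).1 (nonempty_echart k hd hreg hP hPc hσ i).2) hL hD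
      rw [ii_comm, hDii i, sub_neg_eq_add, he', Function.update_self] at h
      exact_mod_cast h
    let eK : CohB1.tensorMod L (CohB1.tensorMod (ClSub.idealMod (∏ l, exc (hPc l) σ ^ e' l))
        (ClSub.quotMod (exc (hPc i) σ))) ≅ CohB1.tensorMod M (ClSub.quotMod (exc (hPc i) σ)) :=
      (tensorAssoc _ _ _).symm
    obtain ⟨hK0, hK1⟩ := h0_piece k hd hreg hP hPc hσ hσk hM i
    rw [hdeg] at hK0 hK1
    have hIH := ih e' hsum'
    have hrhs : ∑ l, ∑ m ∈ Finset.range (e l), (degOn k (exc (hPc l) σ) L + m + 1).toNat =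
        (degOn k (exc (hPc i) σ) L + c + 1).toNat +
          ∑ l, ∑ m ∈ Finset.range (e' l), (degOn k (exc (hPc l) σ) L + m + 1).toNat := by
      rw [← Finset.add_sum_erase Finset.univ _ (Finset.mem_univ i),
        ← Finset.add_sum_erase Finset.univ (fun l => ∑ m ∈ Finset.range (e' l), (degOn k (exc (hPc l) σ) L + m + 1).toNat)
          (Finset.mem_univ i),
        Finset.sum_congr rfl (fun l hl => by rw [he', Function.update_of_ne (Finset.ne_of_mem_erase hl)] :
          ∀ l ∈ Finset.univ.erase i, (∑ m ∈ Finset.range (e' l), (degOn k (exc (hPc l) σ) L + m + 1).toNat) =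
            ∑ m ∈ Finset.range (e l), (degOn k (exc (hPc l) σ) L + m + 1).toNat),
        he', Function.update_self, hc, Finset.sum_range_succ]
      omega
    rw [hrhs, hprod]
    by_cases hgood : -1 ≤ degOn k (exc (hPc i) σ) L + c
    · have h : Module.finrank k (Coh.HH X' (CohB1.tensorMod L (ClSub.quotMod
            ((∏ l, exc (hPc l) σ ^ e' l) * exc (hPc i) σ))) 0) =
          Module.finrank k (Coh.HH X' (CohB1.tensorMod L (CohB1.tensorMod (ClSub.idealMod (∏ l, exc (hPc l) σ ^ e' l))
            (ClSub.quotMod (exc (hPc i) σ)))) 0) +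
          Module.finrank k (Coh.HH X' (CohB1.tensorMod L (ClSub.quotMod (∏ l, exc (hPc l) σ ^ e' l))) 0) :=
        (Groth.L03.PlaneProj.seq_step k hT (Groth.L21.RR.isCoh_twistQuot (L := L)
        (I := (∏ l, exc (hPc l) σ ^ e' l) * exc (hPc i) σ) hL)
        (@Equiv.subsingleton _ _ (Groth.L03.SurfAdj.hhEquiv k eK 1).toEquiv (hK1 hgood))).1
      rw [(Groth.L03.SurfAdj.hhEquiv k eK 0).finrank_eq, hK0] at h
      exact h.trans (congrArg _ hIH)
    · have hzero : ∑ l, ∑ m ∈ Finset.range (e' l), (degOn k (exc (hPc l) σ) L + m + 1).toNat = 0 := by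
        refine Finset.sum_eq_zero fun l _ => Finset.sum_eq_zero fun m hm => ?_
        rw [Finset.mem_range] at hm
        by_cases hl : l = i
        · subst hl; rw [he', Function.update_self] at hm; omega
        · rw [he', Function.update_of_ne hl] at hm
          have h1 := hmax l (Finset.mem_filter.2 ⟨Finset.mem_univ l, by omega⟩)
          rw [hc] at h1
          push_cast at h1
          omega
      rw [hzero] at hIH ⊢
      rw [show (degOn k (exc (hPc i) σ) L + c + 1).toNat = 0 by omega] at hK0 ⊢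
      haveI hR : Subsingleton (Coh.HH X' (CohB1.tensorMod L (ClSub.quotMod (∏ l, exc (hPc l) σ ^ e' l))) 0) :=
        haveI := Groth.L03.BlowPt.Rational.finite_h k hd' hreg' hL (∏ l, exc (hPc l) σ ^ e' l) 0
        Module.finrank_zero_iff.1 hIH
      haveI hL0 : Subsingleton (Coh.HH X' (CohB1.tensorMod L (CohB1.tensorMod (ClSub.idealMod (∏ l, exc (hPc l) σ ^ e' l))
          (ClSub.quotMod (exc (hPc i) σ)))) 0) := by
        haveI := Groth.L03.BlowPt.Rational.finite_h k hd' hreg' hM (exc (hPc i) σ) 0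
        exact @Equiv.subsingleton _ _ (Groth.L03.SurfAdj.hhEquiv k eK 0).toEquiv (Module.finrank_zero_iff.1 hK0)
      haveI : Subsingleton (Coh.HH X' (CohB1.tensorMod L (ClSub.quotMod
          ((∏ l, exc (hPc l) σ ^ e' l) * exc (hPc i) σ))) 0) := by
        refine subsingleton_of_forall_eq 0 fun x => ?_
        obtain ⟨a, ha⟩ := (exact_hmap_hmap hT 0 x).1 (hR.elim _ _)
        rw [← ha, hL0.elim a 0]
        exact map_zero _
      simp [Module.finrank_zero_of_subsingleton]

end Groth.L03.BlowPt.MultiExc
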