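import Groth.Agent.L03.BlowPt.Mult
import Groth.Agent.L03.BlowAcyc.Global
import Groth.Agent.L13.PairBlow.Gen
import Groth.Agent.L13.PairBlow.Local
import Groth.Agent.L13.PointBlow.Twist
import Groth.Agent.L16.Exist.AlgClosed

/-!
Direct images of powers of the exceptional ideal of a blown up point.
-/

set_option autoImplicit false
set_option linter.style.haveILetI false
set_option linter.unusedSectionVars false
set_option backward.isDefEq.respectTransparency false

universe u

open CategoryTheory CategoryTheory.Limits AlgebraicGeometry TopologicalSpace Opposite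
open Groth.L11.BlowSmooth (sI)
open Groth.L13.BU (idealOf)
open Groth.L13.BlowP1 (exIdeal)
open Groth.L13.PointBlow (pre preι)

noncomputable section

namespace Groth.L03.BlowPt

/-- The comorphism onto the scheme theoretic image is injective. -/
theorem mono_unit_toImage {X Y : Scheme.{u}} (g : X ⟶ Y) [QuasiCompact g] :
    Mono (ClSub.unitToPush g.toImage) := by
  rw [Preadditive.mono_iff_cancel_zero]
  intro M a ha
  apply Scheme.Modules.hom_ext
  intro V
  apply AddCommGrpCat.ext
  intro m
  have h : g.toImage.app V (a.app V m) = 0 :=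
    ConcreteCategory.congr_hom (congrArg (fun q : M ⟶ _ => q.app V) ha) m
  exact (TopCat.Presheaf.app_injective_iff_stalkFunctor_map_injective (F := g.image.sheaf) g.toImage.c).1
    (fun x => g.stalkFunctor_toImage_injective x) V (h.trans (map_zero _).symm)

/-- The kernel of a comorphism is the ideal of the scheme theoretic image. -/
theorem nonempty_kernel_unit {X Y : Scheme.{u}} (g : X ⟶ Y) [QuasiCompact g] :
    Nonempty (kernel (ClSub.unitToPush g) ≅ ClSub.idealMod g.ker) := by
  haveI := mono_unit_toImage g
  haveI : (Coh.push g.imageι).IsRightAdjoint :=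
    (Scheme.Modules.pullbackPushforwardAdjunction g.imageι).isRightAdjoint
  haveI : Mono ((Coh.push g.imageι).map (ClSub.unitToPush g.toImage)) := inferInstance
  refine ⟨kernelIsoOfEq (Groth.L16.Exist.Adic.unitToPush_comp g.toImage g.imageι g g.toImage_imageι.symm).symm ≪≫
    kernelCompMono _ _⟩

variable {X Y : Scheme.{u}} (σ : Y ⟶ X)

set_option synthInstance.maxHeartbeats 100000 in
set_option maxHeartbeats 1000000 in
/-- With `σ_* O = O` ideals push forward to ideals. -/
theorem nonempty_push_idealMod [QuasiCompact σ] (hu : IsIso (ClSub.unitToPush σ)) (J : Y.IdealSheafData) :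
    Nonempty ((Scheme.Modules.pushforward σ).obj (ClSub.idealMod J) ≅ ClSub.idealMod (J.map σ)) := by
  haveI := hu
  haveI : (Coh.push σ).IsRightAdjoint := (Scheme.Modules.pullbackPushforwardAdjunction σ).isRightAdjoint
  haveI := Groth.L17.PushQCoh.additive_push σ
  haveI : (Coh.push σ).PreservesZeroMorphisms := inferInstance
  obtain ⟨e⟩ := nonempty_kernel_unit (J.subschemeι ≫ σ)
  refine ⟨PreservesKernel.iso (Coh.push σ) (ClSub.toSubscheme J) ≪≫
    (kernelIsIsoComp (ClSub.unitToPush σ) ((Coh.push σ).map (ClSub.toSubscheme J))).symm ≪≫ ?_ ≪≫ e⟩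
  exact (kernelCompMono _ ((Scheme.Modules.pushforwardComp J.subschemeι σ).hom.app _ ≫
      (Scheme.Modules.pushforwardCongr (rfl : J.subschemeι ≫ σ = J.subschemeι ≫ σ)).hom.app _)).symm ≪≫
    kernelIsoOfEq (by
      simpa only [Category.assoc] using Groth.L16.Exist.Adic.unitToPush_comp J.subschemeι σ _ rfl)

variable {x : X} {hx : IsClosed ({x} : Set X)} {σ}

/-- The powers of the exceptional ideal contract to the powers of the ideal of the point. -/
theorem map_exc_pow [QuasiCompact σ] (D : EChart hx σ) (r : ℕ) : (exc hx σ ^ r).map σ = ptI hx ^ r := by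
  refine le_antisymm (le_pow_of_comap_le D _ r (Scheme.IdealSheafData.comap_map_le _ _)) ?_
  rw [Scheme.IdealSheafData.le_map_iff_comap_le, Groth.L17.Thick.comap_pow σ]

/-- Powers of the exceptional ideal have no higher direct images. -/
theorem isZero_Rpush_exc_pow {I : X.IdealSheafData} [IsLocallyNoetherian X] [QuasiCompact σ] [QuasiSeparated σ]
    [HasInjectiveResolutions Y.Modules] (hb : BlowUp.IsBlowUp σ I) (hp : Groth.L13.PairBlow.LocallyPair I)
    (r i : ℕ) (hi : 0 < i) :
    IsZero ((Coh.Rpush σ i).obj (ClSub.idealMod (BlowUp.exceptional σ I ^ r))) := by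
  have hinv : PicF.IsInvertible (ClSub.idealMod (BlowUp.exceptional σ I)) :=
    (Groth.Agent.L19.IdealInvertible.isEffCartier_iff _).2 hb.1
  obtain ⟨hr, ⟨er⟩⟩ := Groth.L13.PointBlow.nonempty_idealMod_pow hinv r
  haveI := Groth.L21.Extend.isQCoh_of_isInvertible hr
  refine Groth.L13.PairBlow.isZero_Rpush_of_charts hb hp _ (fun U f hI q => ?_) i hi
  haveI : IsNoetherianRing Γ(X, U.1) := IsLocallyNoetherian.component_noetherian U
  have hbU := Groth.L13.PairBlow.isBlowUp_pre hb U f hI
  obtain ⟨g⟩ := Groth.L03.BlowAcyc.nonempty_idealMod_pre (σ := σ) U hI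
  set p := pullback.fst U.2.fromSpec σ
  let J := ClSub.idealMod (exIdeal f p)
  have hJ : PicF.IsInvertible J := (Groth.Agent.L19.IdealInvertible.isEffCartier_iff _).2 hbU.1
  have hgg : ∀ n : ℕ, Curv2.IsGloballyGenerated
      ((Scheme.Modules.pullback (exIdeal f p).subschemeι).obj (CohB1.tensorPow J n)) := fun n => by
    induction n with
    | zero => exact Groth.L13.PointBlow.gg_pullback _ (Groth.L13.PointBlow.gg_structure _)
    | succ n ih =>
      exact Groth.L18.Ample.isGloballyGenerated_of_iso
        ((Scheme.Modules.pullback _).mapIso (Groth.L00.Tensor.tensorComm J (CohB1.tensorPow J n)))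
        (Groth.L13.PairBlow.gg_pullback_idealTensor _ hbU ih)
  have hP : PicF.IsInvertible (CohB1.tensorPow J r) := Groth.L18.Ample.isInvertible_tensorPow hJ r
  haveI := Groth.L21.Extend.isQCoh_of_isInvertible hP
  refine Groth.L14.LocHilbLift.subsingleton_HH_of_iso
    ((Scheme.Modules.restrictFunctorIsoPullback (preι σ U)).app _ ≪≫ (Scheme.Modules.pullback _).mapIso er ≪≫
      Groth.L18.Ample.pullPow _ _ r ≪≫ Groth.L00.Tensor.tensorPowIso g r).symm (q + 1) ?_
  rcases q with _ | q
  · exact Groth.L13.PairBlow.subsingleton_H1 hbU (Groth.L16.Existence.isFinLocFree_of_isInvertible hP) (hgg r)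
  · exact Groth.L13.PairBlow.subsingleton_H_ge_two hbU _ _ (by omega)

end Groth.L03.BlowPt
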