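import Groth.Agent.L03.BlowPt.Except
import Groth.Agent.L03.BlowPt.Rules
import Groth.Agent.L13.BlowTwo.Regular
import Groth.Agent.L22.BlowUp

/-!
# Regularity and dimension of the blow-up of a regular point on a surface
-/

set_option autoImplicit false
set_option linter.style.haveILetI false
set_option backward.isDefEq.respectTransparency false
set_option linter.unusedSectionVars false

universe u

open CategoryTheory AlgebraicGeometry TopologicalSpace
open Groth.L11.BlowSmooth

noncomputable section

namespace Groth.L03.BlowPt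

variable {X X' : Scheme.{u}} {x : X} {hx : IsClosed ({x} : Set X)} {b : X' ⟶ X}

/-- The blow-up of a regular point is regular. -/
theorem regular_up [IsLocallyNoetherian X] (D : EChart hx b) (hb : BlowUp.IsBlowUp b (ptI hx))
    (hreg : ∀ y : X, IsRegularLocalRing (X.presheaf.stalk y)) (z : X') :
    IsRegularLocalRing (X'.presheaf.stalk z) := by
  by_cases hz : b z = x
  · have hmem : z ∈ ((exc hx b).support : Set X') := by
      rw [show (exc hx b).support = (ptI hx).support.preimage b.continuous from
        Scheme.IdealSheafData.support_comap _ _]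
      show b z ∈ ((ptI hx).support : Set X)
      simpa [ptI] using hz
    rw [← Scheme.IdealSheafData.range_subschemeι] at hmem
    obtain ⟨e, rfl⟩ := hmem
    obtain ⟨i, w, rfl⟩ := D.q_cover e
    haveI := D.C_open i
    have hq : (D.q i ≫ eι hx b) w = D.C i (Spec.map (CommRingCat.ofHom (ecMk D.f i)) w) := by
      rw [D.q_comp i, Scheme.Hom.comp_apply]
    rw [Scheme.Hom.comp_apply] at hq
    rw [hq]
    haveI : IsNoetherianRing Γ(X, D.U.1) := IsLocallyNoetherian.component_noetherian D.U
    let v := Spec.map (CommRingCat.ofHom (ecMk D.f i)) w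
    have hmem : sh D.f i (D.f i) ∈ v.asIdeal := by
      show ecMk D.f i (sh D.f i (D.f i)) ∈ w.asIdeal
      rw [show ecMk D.f i (sh D.f i (D.f i)) = 0 from
        Ideal.Quotient.eq_zero_iff_mem.2 (Ideal.mem_map_of_mem _ (Ideal.subset_span ⟨i, rfl⟩))]
      exact zero_mem _
    haveI := Groth.Agent.L13.BlowTwo.regular_chart D.f D.isMaximal D.qreg i v.asIdeal hmem
    exact IsRegularLocalRing.of_ringEquiv
      ((Spec.stalkIso _ v).commRingCatIsoToRingEquiv.symm.trans
        (asIso ((D.C i).stalkMap v)).commRingCatIsoToRingEquiv.symm)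
  · haveI := Groth.L22.Ideals.isIso_stalkMap hb z (fun h => hz (by
      have h' : b z ∈ ((ptI hx).support : Set X) := h
      simpa [ptI] using h'))
    haveI := hreg (b z)
    exact IsRegularLocalRing.of_ringEquiv (asIso (b.stalkMap z)).commRingCatIsoToRingEquiv

variable (k : Type u) [Field k] [X.Over (Spec (CommRingCat.of k))] [IsProper (X ↘ Spec (CommRingCat.of k))]
  [X'.Over (Spec (CommRingCat.of k))] [IsProper (X' ↘ Spec (CommRingCat.of k))] [IsIntegral X] [IsIntegral X']

include k in
/-- The blow-up of a point of a surface is a surface. -/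
theorem dim_up (hdim : topologicalKrullDim X = (2 : ℕ)) (hb : BlowUp.IsBlowUp b (ptI hx)) :
    topologicalKrullDim X' = (2 : ℕ) := by
  obtain ⟨m, hm, -, hopen⟩ := Groth.L22.SchemeDim.exists_dim_eq_trdeg k X
  obtain ⟨m', hm', -, hopen'⟩ := Groth.L22.SchemeDim.exists_dim_eq_trdeg k X'
  let W : X.Opens := (ptI hx).support.compl
  have hW : (W : Set X).Nonempty := by
    by_contra h
    rw [Set.not_nonempty_iff_eq_empty] at h
    refine ptI_ne_bot (hx := hx) hdim ?_
    exact (Scheme.IdealSheafData.support_eq_top_iff).1 (TopologicalSpace.Closeds.ext (Set.compl_empty_iff.1 h))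
  haveI := Groth.L22.Ideals.isIso_restrict_compl hb
  obtain ⟨y, hy⟩ := hW
  let h := Scheme.homeoOfIso (asIso (b ∣_ (ptI hx).support.compl))
  have hne : ((b ⁻¹ᵁ W : X'.Opens) : Set X').Nonempty := ⟨(h.symm ⟨y, hy⟩).1, (h.symm ⟨y, hy⟩).2⟩
  rw [hm', ← hopen' _ hne, ← hdim, hm, ← hopen W ⟨y, hy⟩]
  exact h.isHomeomorph.topologicalKrullDim_eq

end Groth.L03.BlowPt
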