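import Groth.Agent.L03.BlowPt.Contracted
import Groth.Agent.L03.BlowPt.ZeroPoint
import Groth.Agent.L18.AmpleAvoid
import Groth.Agent.L22.Nef.NumTriv

/-!
# Euler characteristics of pullbacks to a modification
-/

set_option autoImplicit false
set_option linter.style.haveILetI false
set_option backward.isDefEq.respectTransparency false
set_option linter.unusedSectionVars false

universe u

open CategoryTheory CategoryTheory.Limits AlgebraicGeometry TopologicalSpace
open Groth.L22.Inter Groth.L22.Nef Groth.L22.Big Groth.L03.Euler Groth.L03.SurfNum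
open Groth.L00.Tensor (tensorIso tensorUnitLeft)

noncomputable section

namespace Groth.L03.BlowPt

variable (k : Type u) [Field k] {X Y : Scheme.{u}} [X.Over (Spec (CommRingCat.of k))]
  [IsProper (X ↘ Spec (CommRingCat.of k))] [Y.Over (Spec (CommRingCat.of k))]
  [IsProper (Y ↘ Spec (CommRingCat.of k))] [IsIntegral X] [IsIntegral Y]

theorem euler_tensor_two {A B : X.Modules} : (Curv2.euler k X (CohB1.tensorMod A B) : ℚ) =
    Curv2.euler k X A + Curv2.euler k X B - Curv2.euler k X (Coh.structureModule X) + ii k A B := by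
  rw [ii_eq_sub, altT_one, altT_one, euler_iso (tensorUnitLeft B)]
  push_cast
  ring

variable (φ : Y ⟶ X) (hφ : φ ≫ (X ↘ Spec (CommRingCat.of k)) = Y ↘ Spec (CommRingCat.of k))
  (U : X.Opens) (hiso : IsIso (φ ∣_ U))
include hφ hiso

/-- Closed subschemes inside `U` are unchanged. -/
theorem euler_quot_comap (I : X.IdealSheafData) (hI : (I.support : Set X) ⊆ U) :
    Curv2.euler k Y (ClSub.quotMod (I.comap φ)) = Curv2.euler k X (ClSub.quotMod I) := by
  haveI := hiso
  letI : I.subscheme.Over (Spec (CommRingCat.of k)) := ⟨I.subschemeι ≫ (X ↘ Spec (CommRingCat.of k))⟩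
  letI : (I.comap φ).subscheme.Over (Spec (CommRingCat.of k)) :=
    ⟨(I.comap φ).subschemeι ≫ (Y ↘ Spec (CommRingCat.of k))⟩
  haveI : IsProper (I.subscheme ↘ Spec (CommRingCat.of k)) :=
    inferInstanceAs (IsProper (I.subschemeι ≫ (X ↘ Spec (CommRingCat.of k))))
  haveI : I.subscheme.IsSeparated :=
    ⟨by rw [← terminal.comp_from (I.subscheme ↘ Spec (CommRingCat.of k))]; infer_instance⟩
  let g := (I.comapIso φ).hom ≫ pullback.snd φ I.subschemeι
  have hrange : Set.range I.subschemeι ⊆ Set.range U.ι := by
    rw [Scheme.IdealSheafData.range_subschemeι, Scheme.Opens.range_ι]; exact hI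
  let i' := IsOpenImmersion.lift U.ι I.subschemeι hrange
  have hi' : i' ≫ U.ι = I.subschemeι := IsOpenImmersion.lift_fac _ _ _
  haveI : IsIso (pullback.snd φ I.subschemeι) := by
    have h1 := (IsPullback.of_hasPullback (φ ∣_ U) i').paste_horiz (isPullback_morphismRestrict φ U).flip
    rw [hi'] at h1
    rw [← h1.flip.flip.isoPullback_inv_snd]
    infer_instance
  have hg : g ≫ I.subschemeι = (I.comap φ).subschemeι ≫ φ := by
    rw [Category.assoc, ← pullback.condition, ← Category.assoc, Scheme.IdealSheafData.comapIso_hom_fst]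
  have hgk : g ≫ (I.subscheme ↘ Spec (CommRingCat.of k)) = (I.comap φ).subscheme ↘ Spec (CommRingCat.of k) := by
    show g ≫ I.subschemeι ≫ (X ↘ Spec (CommRingCat.of k)) = (I.comap φ).subschemeι ≫ (Y ↘ Spec (CommRingCat.of k))
    rw [reassoc_of% hg, hφ]
  rw [Groth.L03.SurfAdj.euler_subscheme k I, Groth.L03.SurfAdj.euler_subscheme k (I.comap φ)]
  have h := euler_push (k := k) g (Coh.structureModule (I.comap φ).subscheme)
    (Groth.L19.Conormal.isQCoh_structureModule _) hgk
  obtain ⟨e⟩ := nonempty_push_structure g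
  exact h.symm.trans (euler_iso e)

/-- On modules from below the difference of Euler characteristics is constant. -/
theorem euler_pullback_sub (hd : topologicalKrullDim X = (2 : ℕ)) (hdY : topologicalKrullDim Y = (2 : ℕ))
    (hU : ((U : Set X)ᶜ).Finite) {H : X.Modules} (hH : CohB1.IsAmple H) {L : X.Modules} (hL : PicF.IsInvertible L) :
    Curv2.euler k Y ((Scheme.Modules.pullback φ).obj L) - Curv2.euler k Y (Coh.structureModule Y) =
      Curv2.euler k X L - Curv2.euler k X (Coh.structureModule X) := by
  haveI := hiso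
  haveI := Groth.L21.RR.isNoetherian_of_proper (X := X) k
  haveI := Groth.L21.RR.isNoetherian_of_proper (X := Y) k
  haveI : X.IsSeparated := ⟨by rw [← terminal.comp_from (X ↘ Spec (CommRingCat.of k))]; infer_instance⟩
  haveI : IsProper φ := by
    haveI : IsProper (φ ≫ (X ↘ Spec (CommRingCat.of k))) := by rw [hφ]; infer_instance
    exact IsProper.of_comp φ (X ↘ Spec (CommRingCat.of k))
  have hne : (U : Set X).Nonempty := by
    by_contra h
    rw [Set.not_nonempty_iff_eq_empty] at h
    rw [h, Set.compl_empty] at hU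
    haveI : Finite X := Set.finite_univ_iff.1 hU
    haveI : JacobsonSpace X := LocallyOfFiniteType.jacobsonSpace (X ↘ Spec (CommRingCat.of k))
    have h2 := topologicalKrullDim_zero_of_discreteTopology X
    rw [hd] at h2
    norm_num at h2
  obtain ⟨u, hu⟩ := hne
  obtain ⟨⟨y₀, hy₀⟩, -⟩ := (Scheme.homeoOfIso (asIso (φ ∣_ U))).surjective ⟨u, hu⟩
  have hgenU : genericPoint Y ∈ φ ⁻¹ᵁ U := (genericPoint_specializes y₀).mem_open (φ ⁻¹ᵁ U).2 hy₀
  have hξ : φ (genericPoint Y) = genericPoint X := by
    have hgX : genericPoint X ∈ U := (genericPoint_specializes u).mem_open U.2 hu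
    obtain ⟨⟨z, hz⟩, hzg⟩ := (Scheme.homeoOfIso (asIso (φ ∣_ U))).surjective ⟨genericPoint X, hgX⟩
    have hz' : φ z = genericPoint X := (morphismRestrict_base_coe φ U ⟨z, hz⟩).symm.trans (congrArg Subtype.val hzg)
    have hs := (genericPoint_specializes z).map φ.continuous
    rw [hz'] at hs
    exact (hs.antisymm (genericPoint_specializes _)).eq
  haveI : IsIso (φ.stalkMap (genericPoint Y)) := by
    haveI : IsIso ((φ ∣_ U).stalkMap ⟨genericPoint Y, hgenU⟩) := inferInstance
    exact (MorphismProperty.arrow_mk_iso_iff (MorphismProperty.isomorphisms _)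
      (morphismRestrictStalkMap φ U ⟨genericPoint Y, hgenU⟩)).1 this
  have hpp : ∀ {A B : X.Modules}, PicF.IsInvertible A → PicF.IsInvertible B →
      ii k ((Scheme.Modules.pullback φ).obj A) ((Scheme.Modules.pullback φ).obj B) = ii k A B := by
    intro A B hA hB
    have h := altT_pullback k φ hφ hξ hdY (L := ![A, B]) fun i => by fin_cases i <;> assumption
    rw [residueDegree_eq_one_of_isIso, Nat.cast_one, one_mul, ii_vec] at h
    refine Eq.trans ?_ h
    rw [← ii_vec]
    exact congrArg (fun F => altT k F (Coh.structureModule Y)) (funext fun i => by fin_cases i <;> rfl)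
  let δ : X.Modules → ℚ := fun A => ((Curv2.euler k Y ((Scheme.Modules.pullback φ).obj A) : ℚ) -
    Curv2.euler k Y (Coh.structureModule Y)) - ((Curv2.euler k X A : ℚ) - Curv2.euler k X (Coh.structureModule X))
  have hiso' : ∀ {A B : X.Modules}, Nonempty (A ≅ B) → δ A = δ B := fun ⟨e⟩ => by
    simp only [δ, euler_iso e, euler_iso ((Scheme.Modules.pullback φ).mapIso e)]
  have hadd : ∀ {A B : X.Modules}, PicF.IsInvertible A → PicF.IsInvertible B →
      δ (CohB1.tensorMod A B) = δ A + δ B := by
    intro A B hA hB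
    have e := (Groth.L29.DC.PullTensor.pullTensor φ A B).symm
    simp only [δ]
    rw [euler_iso e, euler_tensor_two k, euler_tensor_two k, hpp hA hB]
    ring
  have hone : δ (Coh.structureModule X) = 0 := by
    simp only [δ, euler_iso (Groth.L29.LocFree.pullbackUnitIso φ), sub_self]
  have hpow : ∀ {A : X.Modules}, PicF.IsInvertible A → ∀ n : ℕ, δ (CohB1.tensorPow A n) = n * δ A := by
    intro A hA n
    induction n with
    | zero => rw [Nat.cast_zero, zero_mul]; exact hone
    | succ n ih =>
      rw [Nat.cast_succ, show CohB1.tensorPow A (n + 1) = CohB1.tensorMod (CohB1.tensorPow A n) A from rfl,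
        hadd (Groth.L18.Ample.isInvertible_tensorPow hA n) hA, ih]
      ring
  have hample : ∀ {A : X.Modules}, CohB1.IsAmple A → δ A = 0 := by
    intro A hA
    obtain ⟨n, s, hEs, -, -⟩ := Groth.L18.Ample.exists_pow_genLocus_of_isAmple hA _
      (hU.union (Set.finite_singleton (genericPoint X))) ⊤ (fun z _ => trivial)
    have hN : PicF.IsInvertible (CohB1.tensorPow A (n + 1)) := Groth.L18.Ample.isInvertible_tensorPow hA.1 _
    have hηs : genericPoint X ∈ CohB1.genLocus _ s := hEs (Or.inr rfl)
    let I := PicF2.zeroScheme (CohB1.tensorPow A (n + 1)) s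
    have hIU : (I.support : Set X) ⊆ U := fun z hz => by
      by_contra h
      exact (Groth.L22.ZeroScheme.support_zeroScheme hN s).le hz (hEs (Or.inl h))
    have hIe : BlowUp.IsEffCartierIdeal I := Groth.L03.SurfAmple.isEffCartierIdeal_zeroScheme hN s hηs
    have hIi := (Groth.Agent.L19.IdealInvertible.isEffCartier_iff _).2 hIe
    have hη : φ (genericPoint Y) ∉ I.support := by
      rw [hξ]; exact Groth.L03.SurfAmple.genericPoint_mem_of_isEffCartier hIe
    obtain ⟨hIc, ⟨e⟩⟩ := nonempty_pullback_idealMod φ hIe hη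
    have hδI : δ (ClSub.idealMod I) = 0 := by
      have q1 := Groth.L03.SurfAdj.euler_quotMod k I hIi
      have q2 := Groth.L03.SurfAdj.euler_quotMod k (I.comap φ) ((Groth.Agent.L19.IdealInvertible.isEffCartier_iff _).2 hIc)
      have q3 := euler_quot_comap k φ hφ U hiso I hIU
      simp only [δ, euler_iso e]
      have q1' : (Curv2.euler k X (Coh.structureModule X) : ℚ) = (Curv2.euler k X (ClSub.idealMod I) : ℚ) +
          Curv2.euler k X (ClSub.quotMod I) := by exact_mod_cast q1
      have q2' : (Curv2.euler k Y (Coh.structureModule Y) : ℚ) = (Curv2.euler k Y (ClSub.idealMod (I.comap φ)) : ℚ) +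
          Curv2.euler k X (ClSub.quotMod I) := by rw [← q3]; exact_mod_cast q2
      linarith
    have h := hadd hIi hN
    rw [hiso' (Groth.L03.SurfAmple.nonempty_tensor_zeroScheme hN s hηs), hone, hδI, zero_add, hpow hA.1] at h
    exact (mul_eq_zero.1 h.symm).resolve_left (Nat.cast_ne_zero.2 n.succ_ne_zero)
  obtain ⟨n, hB⟩ := exists_ample_twist (k := k) hH hL
  have hHn := Groth.L18.Ample.isInvertible_tensorPow hH.1 n
  have h := hample hB
  rw [hadd hH.1 (Groth.L18.GenLoc.isInvertible_tensor hL hHn), hadd hL hHn, hpow hH.1, hample hH] at h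
  have h' : ((Curv2.euler k Y ((Scheme.Modules.pullback φ).obj L) - Curv2.euler k Y (Coh.structureModule Y) : ℤ) : ℚ) =
      ((Curv2.euler k X L - Curv2.euler k X (Coh.structureModule X) : ℤ) : ℚ) := by
    simp only [δ, zero_add, mul_zero, add_zero] at h
    push_cast
    linarith
  exact_mod_cast h'

end Groth.L03.BlowPt
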