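import Groth.Agent.L03.BlowPt.Except
import Groth.Agent.L03.BlowPt.Frames
import Groth.Agent.L11.BlowProj.Main
import Groth.Agent.L18.AmplePull

/-!
# The two parameters as sections of the conormal line bundle of the exceptional curve
-/

set_option autoImplicit false
set_option linter.style.haveILetI false
set_option backward.isDefEq.respectTransparency false
set_option backward.isDefEq.respectTransparency.types false

universe u

open CategoryTheory AlgebraicGeometry TopologicalSpace Opposite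
open Groth.L11.BlowSmooth Groth.L13.BU
open Groth.L18.Frame (rs ro rs_rs rs_self rs_smul ro_ro IsFrame pull pull_rs pull_smul)
open Groth.Agent.L19.IdealInvertible (io io_rs io_smul)
open Groth.L18.GenLoc (secOf secOf_homOfSection)

noncomputable section

namespace Groth.L03.BlowPt

variable {X X' : Scheme.{u}} {x : X} {hx : IsClosed ({x} : Set X)} {b : X' ⟶ X}

/-- The conormal line bundle of the exceptional curve, as a pullback. -/
abbrev eL (hx : IsClosed ({x} : Set X)) (b : X' ⟶ X) : (exc hx b).subscheme.Modules :=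
  (Scheme.Modules.pullback (eι hx b)).obj (ClSub.idealMod (exc hx b))

theorem appLE_top_top {Y Z : Scheme.{u}} (f : Y ⟶ Z) (e : (⊤ : Y.Opens) ≤ f ⁻¹ᵁ ⊤) :
    f.appLE ⊤ ⊤ e = f.appTop := Scheme.Hom.appLE_eq_app (f := f) (U := (⊤ : Z.Opens))

theorem appLE_fromSpec {U : X.Opens} (hU : IsAffineOpen U) (e : ⊤ ≤ hU.fromSpec ⁻¹ᵁ U) :
    hU.fromSpec.appLE U ⊤ e = (Scheme.ΓSpecIso Γ(X, U)).inv := by
  rw [Scheme.Hom.appLE, hU.fromSpec_app_self, Category.assoc, ← Functor.map_comp]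
  simp

theorem appLE_SpecMap_fromSpec {U : X.Opens} (hU : IsAffineOpen U) {B : Type u} [CommRing B] (φ : Γ(X, U) →+* B)
    (g : Spec (CommRingCat.of B) ⟶ X) (hg : g = Spec.map (CommRingCat.ofHom φ) ≫ hU.fromSpec)
    (e : ⊤ ≤ g ⁻¹ᵁ U) :
    g.appLE U ⊤ e = CommRingCat.ofHom φ ≫ (Scheme.ΓSpecIso (CommRingCat.of B)).inv := by
  subst hg
  rw [← Scheme.Hom.appLE_comp_appLE (Spec.map (CommRingCat.ofHom φ)) hU.fromSpec U ⊤ ⊤
    hU.fromSpec_preimage_self.ge le_top, appLE_fromSpec hU, appLE_top_top]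
  exact (Scheme.ΓSpecIso_inv_naturality (CommRingCat.ofHom φ)).symm

theorem appLE_SpecMap_comp {A B : Type u} [CommRing A] [CommRing B] (φ : A →+* B)
    (j : Spec (CommRingCat.of A) ⟶ X) (g : Spec (CommRingCat.of B) ⟶ X)
    (hg : g = Spec.map (CommRingCat.ofHom φ) ≫ j) {W : X.Opens} (h' : ⊤ ≤ j ⁻¹ᵁ W) (e : ⊤ ≤ g ⁻¹ᵁ W)
    (c : Γ(X, W)) (r : A) (hc : j.appLE W ⊤ h' c = (Scheme.ΓSpecIso (CommRingCat.of A)).inv r) :
    g.appLE W ⊤ e c = (Scheme.ΓSpecIso (CommRingCat.of B)).inv (φ r) := by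
  subst hg
  rw [← Scheme.Hom.appLE_comp_appLE (Spec.map (CommRingCat.ofHom φ)) j W ⊤ ⊤ h' le_top, CommRingCat.comp_apply, hc,
    appLE_top_top]
  exact congrArg (fun ψ => ψ.hom r) (Scheme.ΓSpecIso_inv_naturality (CommRingCat.ofHom φ)).symm

/-- The algebra of a chart of a principalised ideal, transported along a ring isomorphism. -/
theorem chart_transport {A B R G : Type u} [CommRing A] [CommRing B] [CommRing R] [CommRing G]
    (φ : A →+* G) (Ψ : G →+* R) (hΨ : Function.Bijective Ψ) (ρ : B →+* R) (hρ : Function.Bijective ρ)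
    (σ : A →+* B) (hcomm : ∀ a, Ψ (φ a) = ρ (σ a)) (t : A) (ht : σ t ∈ nonZeroDivisors B)
    {ι : Type*} (f : ι → A) (frac : ι → B) (hfrac : ∀ l, σ (f l) = σ t * frac l) (i : ι) (hi : f i = t) :
    φ t ∈ nonZeroDivisors G ∧ Ideal.span (φ '' Set.range f) = Ideal.span {φ t} ∧
      ∀ l (c : G), Ψ c = ρ (frac l) → φ (f l) = c * φ t := by
  have key : ∀ l (c : G), Ψ c = ρ (frac l) → φ (f l) = c * φ t := fun l c hc => hΨ.1 (by
    rw [map_mul, hcomm, hcomm, hc, ← map_mul, hfrac, mul_comm])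
  refine ⟨?_, ?_, key⟩
  · rw [mem_nonZeroDivisors_iff_right] at ht ⊢
    intro a ha
    obtain ⟨a', ha'⟩ := hρ.2 (Ψ a)
    have h1 : a' * σ t = 0 := hρ.1 (by rw [map_mul, ha', ← hcomm, ← map_mul, ha, map_zero, map_zero])
    exact hΨ.1 (by rw [← ha', ht a' h1, map_zero, map_zero])
  · refine le_antisymm (Ideal.span_le.2 ?_) (Ideal.span_mono (Set.singleton_subset_iff.2 ⟨t, ⟨i, hi⟩, rfl⟩))
    rintro _ ⟨_, ⟨l, rfl⟩, rfl⟩
    obtain ⟨c, hc⟩ := hΨ.2 (ρ (frac l))
    exact Ideal.mem_span_singleton'.2 ⟨c, (key l c hc).symm⟩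

/-- Coefficients of pulled back sections. -/
theorem coeff_pull {Y Z : Scheme.{u}} (g : Y ⟶ Z) (M : Z.Modules) {U W : Z.Opens} (hW : W ≤ U)
    (hV : (⊤ : Y.Opens) ≤ g ⁻¹ᵁ U) (m : Γ(M, U)) (μ : Γ(M, W)) (c : Γ(Z, W)) (h : rs M hW m = c • μ) :
    (g.app W c) • pull g M W μ = rs ((Scheme.Modules.pullback g).obj M) le_top
      (secOf (Groth.L16.homOfSection ((Scheme.Modules.pullback g).obj M)
        (rs ((Scheme.Modules.pullback g).obj M) hV (pull g M U m)))) := by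
  rw [secOf_homOfSection, rs_rs, ← pull_smul, ← h, ← pull_rs g M hW m]

namespace EChart

attribute [local instance] EChart.C_open EChart.q_open

variable (D : EChart hx b)

theorem appLE_chart (i : Fin 2) (h : (D.C i).opensRange ≤ b ⁻¹ᵁ D.U.1)
    (h' : (⊤ : (Spec (CommRingCat.of (SC D.f i))).Opens) ≤ D.C i ⁻¹ᵁ (D.C i).opensRange) (a : Γ(X, D.U.1)) :
    (D.C i).appLE (D.C i).opensRange ⊤ h' (b.appLE D.U.1 (D.C i).opensRange h a) =
      (Scheme.ΓSpecIso (CommRingCat.of (SC D.f i))).inv (sh D.f i a) := by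
  rw [← CommRingCat.comp_apply, Scheme.Hom.appLE_comp_appLE,
    appLE_SpecMap_fromSpec D.U.2 (sh D.f i) _ (D.C_comp i)]
  rfl

theorem appLE_q (i : Fin 2) (h' : (⊤ : (Spec (CommRingCat.of (SC D.f i))).Opens) ≤ D.C i ⁻¹ᵁ (D.C i).opensRange)
    (h'' : (⊤ : (Spec (CommRingCat.of (EC D.f i))).Opens) ≤ D.q i ⁻¹ᵁ (eι hx b ⁻¹ᵁ (D.C i).opensRange))
    (c : Γ(X', (D.C i).opensRange)) (r : SC D.f i)
    (hc : (D.C i).appLE (D.C i).opensRange ⊤ h' c = (Scheme.ΓSpecIso (CommRingCat.of (SC D.f i))).inv r) :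
    (D.q i).appLE (eι hx b ⁻¹ᵁ (D.C i).opensRange) ⊤ h'' ((eι hx b).app (D.C i).opensRange c) =
      (Scheme.ΓSpecIso (CommRingCat.of (EC D.f i))).inv (ecMk D.f i r) := by
  rw [Scheme.Hom.app_eq_appLE, ← CommRingCat.comp_apply, Scheme.Hom.appLE_comp_appLE]
  exact appLE_SpecMap_comp (ecMk D.f i) (D.C i) _ (D.q_comp i) h' _ c r hc

theorem preimage_opensRange (i : Fin 2) :
    haveI := D.C_open i; haveI := D.q_open i
    eι hx b ⁻¹ᵁ (D.C i).opensRange = (D.q i).opensRange := by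
  haveI := D.C_open i; haveI := D.q_open i
  refine TopologicalSpace.Opens.ext (Set.ext fun z => ⟨fun hz => D.q_range i z hz, ?_⟩)
  rintro ⟨w, rfl⟩
  show eι hx b (D.q i w) ∈ Set.range (D.C i)
  rw [← Scheme.Hom.comp_apply, D.q_comp i, Scheme.Hom.comp_apply]
  exact Set.mem_range_self _

/-- The coefficient of the `j`-th parameter in the `i`-th chart. -/
def coef (j i : Fin 2) : EC D.f i := if i = j then 1 else crdT D.f i

theorem ecMk_sfr (j i : Fin 2) : ecMk D.f i (sfr D.f i j) = D.coef j i := by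
  unfold coef
  split_ifs with h
  · subst h
    have e : sfr D.f i i = 1 := by
      have := ev_X_self D.f i
      rwa [ev, MvPolynomial.eval₂Hom_X'] at this
    rw [e, map_one]
  · rw [eq_oth i j fun e => h e.symm]

theorem opensRange_le (i : Fin 2) : (D.C i).opensRange ≤ b ⁻¹ᵁ D.U.1 := by
  rintro _ ⟨w, rfl⟩
  show b (D.C i w) ∈ D.U.1
  rw [← Scheme.Hom.comp_apply, D.C_comp i, Scheme.Hom.comp_apply]
  exact D.U.2.range_fromSpec.le ⟨_, rfl⟩

theorem top_le_preimage (i : Fin 2) :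
    (⊤ : (Spec (CommRingCat.of (SC D.f i))).Opens) ≤ D.C i ⁻¹ᵁ (D.C i).opensRange := fun w _ => ⟨w, rfl⟩

theorem chart_ring (i : Fin 2) :
    (b.appLE D.U.1 (D.C i).opensRange (D.opensRange_le i)).hom (D.f i) ∈ nonZeroDivisors Γ(X', (D.C i).opensRange) ∧
      (exc hx b).ideal ⟨(D.C i).opensRange, isAffineOpen_opensRange (D.C i)⟩ =
        Ideal.span {(b.appLE D.U.1 (D.C i).opensRange (D.opensRange_le i)).hom (D.f i)} ∧
      ∀ j, ∃ c : Γ(X', (D.C i).opensRange),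
        (b.appLE D.U.1 (D.C i).opensRange (D.opensRange_le i)).hom (D.f j) =
          c * (b.appLE D.U.1 (D.C i).opensRange (D.opensRange_le i)).hom (D.f i) ∧
        (D.C i).appLE (D.C i).opensRange ⊤ (D.top_le_preimage i) c =
          (Scheme.ΓSpecIso (CommRingCat.of (SC D.f i))).inv (sfr D.f i j) := by
  have hbij := Groth.L11.BlowProj.appLE_bijective_of_range (D.C i) (D.C i).opensRange rfl (D.top_le_preimage i)
  have hρ : Function.Bijective (Scheme.ΓSpecIso (CommRingCat.of (SC D.f i))).inv.hom :=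
    (Scheme.ΓSpecIso (CommRingCat.of (SC D.f i))).symm.commRingCatIsoToRingEquiv.bijective
  obtain ⟨hg, hspan, hkey⟩ := chart_transport _ _ hbij _ hρ (sh D.f i)
    (fun a => D.appLE_chart i (D.opensRange_le i) (D.top_le_preimage i) a) (D.f i)
    (chartHom_nonZeroDivisor (sI D.f) (D.f i) (mem_pow_one D.f i)) D.f (sfr D.f i)
    (fun l => chartHom_eq (sI D.f) (D.f i) (mem_pow_one D.f i) (D.f l) (mem_pow_one D.f l)) i rfl
  refine ⟨hg, ?_, fun j => ?_⟩
  · show ((ptI hx).comap b).ideal _ = _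
    rw [Groth.L22.Ideals.comap_ideal b (ptI hx) D.U _ (D.opensRange_le i), D.ideal_eq]
    exact (Ideal.map_span _ _).trans hspan
  · obtain ⟨c, hc⟩ := hbij.2 ((Scheme.ΓSpecIso (CommRingCat.of (SC D.f i))).inv.hom (sfr D.f i j))
    exact ⟨c, hkey j c hc, hc⟩

theorem chart_frame (hE : PicF.IsInvertible (ClSub.idealMod (exc hx b))) (j i : Fin 2)
    (m : Γ(ClSub.idealMod (exc hx b), b ⁻¹ᵁ D.U.1))
    (hm : (io (exc hx b) _ m : Γ(X', b ⁻¹ᵁ D.U.1)) = b.app D.U.1 (D.f j)) :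
    ∃ (μ : Γ(ClSub.idealMod (exc hx b), (D.C i).opensRange)) (c : Γ(X', (D.C i).opensRange)),
      IsFrame (ClSub.idealMod (exc hx b)) (D.C i).opensRange μ ∧
      rs (ClSub.idealMod (exc hx b)) (D.opensRange_le i) m = c • μ ∧
      (D.C i).appLE (D.C i).opensRange ⊤ (D.top_le_preimage i) c =
        (Scheme.ΓSpecIso (CommRingCat.of (SC D.f i))).inv (sfr D.f i j) := by
  obtain ⟨hg, hgI, hc⟩ := D.chart_ring i
  obtain ⟨c, hcφ, hc⟩ := hc j
  obtain ⟨μ, hμ⟩ := (Groth.L18.IdealModule.mem_ideal_iff (exc hx b) (isAffineOpen_opensRange (D.C i)) _).1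
    (hgI ▸ Ideal.mem_span_singleton_self _)
  refine ⟨μ, c, isFrame_of_span (exc hx b) hE (isAffineOpen_opensRange (D.C i)) _ hg hgI μ hμ,
    eq_smul_of_io (exc hx b) c _ μ ?_, hc⟩
  rw [io_rs, hm]
  refine Eq.trans ?_ (hcφ.trans (congrArg (c * ·) hμ.symm))
  rfl

/-- A parameter gives a section of the conormal bundle, with its coefficients in the charts. -/
theorem exists_section (hE : PicF.IsInvertible (ClSub.idealMod (exc hx b))) (j : Fin 2) :
    ∃ s : Coh.structureModule (exc hx b).subscheme ⟶ eL hx b, ∀ i, ∃ (W : (exc hx b).subscheme.Opens)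
      (_ : IsAffineOpen W) (_ : Set.range (D.q i) = W) (h : (⊤ : (Spec (CommRingCat.of (EC D.f i))).Opens) ≤ D.q i ⁻¹ᵁ W)
      (e : Γ(eL hx b, W)) (c : Γ((exc hx b).subscheme, W)), IsFrame (eL hx b) W e ∧
      c • e = rs (eL hx b) le_top (secOf s) ∧
      (D.q i).appLE W ⊤ h c = (Scheme.ΓSpecIso (CommRingCat.of (EC D.f i))).inv (D.coef j i) := by
  have hV : (⊤ : (exc hx b).subscheme.Opens) ≤ eι hx b ⁻¹ᵁ (b ⁻¹ᵁ D.U.1) := fun z _ => by
    show b (eι hx b z) ∈ D.U.1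
    rw [eι_apply]; exact D.mem
  obtain ⟨m, hm⟩ : ∃ m : Γ(ClSub.idealMod (exc hx b), b ⁻¹ᵁ D.U.1),
      (io (exc hx b) _ m : Γ(X', b ⁻¹ᵁ D.U.1)) = b.app D.U.1 (D.f j) := by
    refine ((Groth.L18.IdealModule.exact_sections (exc hx b) _).2 _).1 ?_
    have hle : (ptI hx) ≤ (eι hx b ≫ b).ker := by
      rw [← Scheme.IdealSheafData.map_ker, Scheme.IdealSheafData.le_map_iff_comap_le,
        Scheme.IdealSheafData.ker_subschemeι]
    have h0 := hle D.U (D.ideal_eq.ge (Ideal.subset_span ⟨j, rfl⟩ : D.f j ∈ sI D.f))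
    have h1 := Scheme.Hom.ideal_ker_le _ D.U h0
    rw [RingHom.mem_ker, Scheme.Hom.comp_app] at h1
    exact h1
  refine ⟨Groth.L16.homOfSection (eL hx b) (rs (eL hx b) hV (pull (eι hx b) _ _ m)), fun i => ?_⟩
  obtain ⟨μ, c, hfr, hmW, hc⟩ := D.chart_frame hE j i m hm
  have hW : IsAffineOpen (D.C i).opensRange := isAffineOpen_opensRange (D.C i)
  have hle : (⊤ : (Spec (CommRingCat.of (EC D.f i))).Opens) ≤ D.q i ⁻¹ᵁ (eι hx b ⁻¹ᵁ (D.C i).opensRange) :=
    fun w _ => (D.preimage_opensRange i).ge ⟨w, rfl⟩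
  refine ⟨eι hx b ⁻¹ᵁ (D.C i).opensRange, hW.preimage _, ?_, hle, pull (eι hx b) _ _ μ,
    (eι hx b).app (D.C i).opensRange c, hfr.pullback (eι hx b) _, ?_, ?_⟩
  · rw [D.preimage_opensRange i]
    rfl
  · exact coeff_pull (eι hx b) (ClSub.idealMod (exc hx b)) (D.opensRange_le i) hV m μ c hmW
  · exact (D.appLE_q i (D.top_le_preimage i) hle c _ hc).trans
      (congrArg (fun r => (Scheme.ΓSpecIso (CommRingCat.of (EC D.f i))).inv.hom r) (D.ecMk_sfr j i))

end EChart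

end Groth.L03.BlowPt
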