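import Groth.Agent.L03.BlowPt.Numeric
import Groth.Agent.L03.BlowPt.CanNum
import Groth.Agent.L03.BlowPt.Pair
import Groth.Agent.L22.Nef.Bridge

/-!
# Nefness of a pullback minus a multiple of the exceptional curve
-/

set_option autoImplicit false
set_option linter.style.haveILetI false
set_option backward.isDefEq.respectTransparency false
set_option linter.unusedSectionVars false
set_option maxHeartbeats 800000

universe u

open CategoryTheory CategoryTheory.Limits AlgebraicGeometry TopologicalSpace
open Groth.L22.Inter Groth.L22.Nef Groth.L22.Big Groth.L03.Euler Groth.L03.SurfNum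

noncomputable section

namespace Groth.L03.BlowPt.SeshadriSurf

open Groth.L03.BlowPt

/-- The order of vanishing at a closed point may be read in the local ring. -/
theorem le_pow_iff_stalk {X : Scheme.{u}} {x : X} (hx : IsClosed ({x} : Set X)) (C : X.IdealSheafData) (n : ℕ) :
    C ≤ ptI hx ^ n ↔ ∀ (V : X.affineOpens) (hxV : x ∈ (V : X.Opens)),
      (C.ideal V).map (X.presheaf.germ V x hxV).hom ≤ (IsLocalRing.maximalIdeal (X.presheaf.stalk x)) ^ n := by
  have key : ∀ (V : X.affineOpens) (hxV : x ∈ (V : X.Opens)),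
      ((ptI hx ^ n).ideal V).map (X.presheaf.germ V x hxV).hom = (IsLocalRing.maximalIdeal (X.presheaf.stalk x)) ^ n ∧
      ∀ J : Ideal Γ(X, V.1), J.map (X.presheaf.germ V x hxV).hom ≤ (IsLocalRing.maximalIdeal (X.presheaf.stalk x)) ^ n →
        J ≤ (ptI hx ^ n).ideal V := by
    intro V hxV
    letI : Algebra Γ(X, V.1) (X.presheaf.stalk x) := X.presheaf.algebra_section_stalk ⟨x, hxV⟩
    haveI : IsLocalization.AtPrime (X.presheaf.stalk x) (V.2.primeIdealOf ⟨x, hxV⟩).asIdeal :=
      V.2.isLocalization_stalk ⟨x, hxV⟩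
    haveI hmax := V.2.primeIdealOf_isMaximal_of_isClosed ⟨x, hxV⟩ hx
    set p := (V.2.primeIdealOf ⟨x, hxV⟩).asIdeal with hp
    have e : (ptI hx ^ n).ideal V = p ^ n := by
      rw [Scheme.IdealSheafData.ideal_pow, Pi.pow_apply, ideal_ptI hx V hxV]
    have e' : (p ^ n).map (algebraMap Γ(X, V.1) (X.presheaf.stalk x)) = (IsLocalRing.maximalIdeal _) ^ n := by
      rw [Ideal.map_pow, IsLocalization.AtPrime.map_eq_maximalIdeal p (X.presheaf.stalk x)]
    refine ⟨e ▸ e', fun J hJ => ?_⟩
    rw [e]
    rcases Nat.eq_zero_or_pos n with h | h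
    · rw [h, pow_zero, Ideal.one_eq_top]; exact le_top
    have hprim : (p ^ n).IsPrimary := Ideal.isPrimary_of_isMaximal_radical (by
      rw [Ideal.radical_pow _ h.ne', hmax.isPrime.radical]; exact hmax)
    have hdis : Disjoint (p.primeCompl : Set Γ(X, V.1)) (p ^ n : Ideal Γ(X, V.1)) := by
      rw [Set.disjoint_left]
      exact fun a ha ha' => ha (Ideal.pow_le_self h.ne' ha')
    refine le_of_le_of_eq (Ideal.map_le_iff_le_comap.1 (le_of_le_of_eq hJ e'.symm)) ?_
    exact IsLocalization.under_map_of_isPrimary_disjoint p.primeCompl (X.presheaf.stalk x) hprim hdis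
  refine ⟨fun h V hxV => (Ideal.map_mono (h V)).trans (key V hxV).1.le, fun h V => ?_⟩
  by_cases hxV : x ∈ V.1
  · exact (key V hxV).2 _ (h V hxV)
  · rw [ptI_pow_ideal_eq_top n V hxV]; exact le_top

variable {k : Type u} [Field k] [IsAlgClosed k] {X X' : Scheme.{u}} {x : X} {hx : IsClosed ({x} : Set X)} {b : X' ⟶ X}
  [X.Over (Spec (CommRingCat.of k))] [IsProper (X ↘ Spec (CommRingCat.of k))]
  [X'.Over (Spec (CommRingCat.of k))] [IsProper (X' ↘ Spec (CommRingCat.of k))] [IsIntegral X] [IsIntegral X']

variable (hbo : b ≫ (X ↘ Spec (CommRingCat.of k)) = X' ↘ Spec (CommRingCat.of k))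
  (hdim : topologicalKrullDim X = 2) (hreg : ∀ y : X, IsRegularLocalRing (X.presheaf.stalk y))
  (hb : BlowUp.IsBlowUp b (ptI hx))

include hbo hdim hreg hb

/-- Intersections with a curve upstairs away from the exceptional one. -/
theorem exists_curve_mult {y : X'} (hy : topologicalKrullDim (closure ({y} : Set X')) = (1 : ℕ)) (hyx : b y ≠ x) :
    topologicalKrullDim (closure ({b y} : Set X)) = (1 : ℕ) ∧
      ∃ m : ℕ, (pt (b y) ≤ ptI hx ^ m ∧ ¬ pt (b y) ≤ ptI hx ^ (m + 1)) ∧
        ∀ B : X'.Modules, PicF.IsInvertible B → ii k (ClSub.idealMod (pt y)) B =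
        ii k ((Scheme.Modules.pullback b).obj (ClSub.idealMod (pt (b y)))) B -
          m * ii k (ClSub.idealMod (exc hx b)) B := by
  classical
  have hd : topologicalKrullDim X = (2 : ℕ) := hdim.trans Nat.cast_ofNat.symm
  haveI := Groth.L21.RR.isNoetherian_of_proper (X := X) k
  obtain ⟨D⟩ := exists_echart hb (hreg x) (ringKrullDim_stalk_closed k hd hx)
  have hreg' := regular_up D hb hreg
  have hd' := dim_up k hd hb
  obtain ⟨a, c, ha, hc, hac⟩ := dim_closure_add k hd' y
  have ha1 : a = 1 := by exact_mod_cast ha.symm.trans hy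
  obtain ⟨a', c', ha', hc', hac'⟩ := dim_closure_add k hd (b y)
  haveI := Groth.L22.Ideals.isIso_stalkMap hb y (fun h => hyx (by
    have h' : b y ∈ ((ptI hx).support : Set X) := h
    simpa [ptI] using h'))
  have hcc : c = c' := by
    have := ringKrullDim_eq_of_ringEquiv (asIso (b.stalkMap y)).commRingCatIsoToRingEquiv
    rw [hc, hc'] at this
    exact_mod_cast this.symm
  have hξ : topologicalKrullDim (closure ({b y} : Set X)) = (1 : ℕ) := by
    rw [ha', show a' = 1 by omega]
  refine ⟨hξ, ?_⟩
  haveI := (curve_of_dim hξ).1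
  haveI := (curve_of_dim hy).1
  have hCd := (curve_of_dim hξ).2.1
  have hC'd := (curve_of_dim hy).2.1
  set C := pt (b y)
  set C' := pt y
  have hgen : b (C'.subschemeι (genericPoint C'.subscheme)) = C.subschemeι (genericPoint C.subscheme) := by
    rw [(curve_of_dim hy).2.2, (curve_of_dim hξ).2.2]
  have hex : ∃ n, ¬ C ≤ ptI hx ^ n := by
    by_contra hall
    push Not at hall
    haveI : IsNoetherianRing Γ(X, D.U.1) := IsLocallyNoetherian.component_noetherian D.U
    haveI : Nonempty D.U.1 := ⟨⟨x, D.mem⟩⟩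
    have hbot : C.ideal D.U = ⊥ := by
      rw [eq_bot_iff, ← Ideal.iInf_pow_eq_bot_of_isDomain (Groth.L11.BlowSmooth.sI D.f) D.isMaximal.ne_top]
      refine le_iInf fun n => ?_
      have h := hall n D.U
      rwa [Scheme.IdealSheafData.ideal_pow, Pi.pow_apply, D.ideal_eq] at h
    have hmem : genericPoint X ∈ (C.support : Set X) := by
      have hgU : genericPoint X ∈ D.U.1 :=
        (genericPoint_specializes x).mem_open D.U.1.2 D.mem
      rw [Groth.L22.CartierDecomp.mem_support_iff hgU, hbot]
      exact bot_le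
    exact Groth.L03.SurfAmple.genericPoint_mem_of_isEffCartier
      ((Groth.Agent.L19.IdealInvertible.isEffCartier_iff C).1 (inv_curve (k := k) hd hreg hξ)) hmem
  have h0 : Nat.find hex ≠ 0 := fun h => by
    have := Nat.find_spec hex
    rw [h, pow_zero, Scheme.IdealSheafData.one_eq_top] at this
    exact this le_top
  obtain ⟨m, hm⟩ := Nat.exists_eq_succ_of_ne_zero h0
  have hle : C ≤ ptI hx ^ m := by
    by_contra h
    have := Nat.find_min' hex h
    omega
  have hnle : ¬ C ≤ ptI hx ^ (m + 1) := by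
    have := Nat.find_spec hex
    rwa [hm] at this
  refine ⟨m, ⟨hle, hnle⟩, (strict_num k hbo hdim hreg (hd'.trans Nat.cast_ofNat) hb
    ((Groth.Agent.L19.IdealInvertible.isEffCartier_iff C).1 (inv_curve (k := k) hd hreg hξ))
    ((Groth.Agent.L19.IdealInvertible.isEffCartier_iff C').1 (inv_curve (k := k) hd' hreg' hy)) m
    (comap_eq_strict k hdim hreg hb hCd hC'd hgen m hle hnle)).2.2⟩


/-- `b^*L - εE` has non-negative degree on all curves iff `ε·mult_x C ≤ deg_C L` for the curves through `x`. -/
theorem nef_iff {L : X.Modules} (hL : PicF.IsInvertible L)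
    (hnef : ∀ y : X, topologicalKrullDim (closure ({y} : Set X)) = (1 : ℕ) → ii k (ClSub.idealMod (pt y)) L ≤ 0)
    (ε : ℝ) (hε : 0 ≤ ε) :
    (∀ y : X', topologicalKrullDim (closure ({y} : Set X')) = (1 : ℕ) →
      (0 : ℝ) ≤ ((-ii k (ClSub.idealMod (pt y)) ((Scheme.Modules.pullback b).obj L) : ℚ) : ℝ) +
        ε * ((-ii k (ClSub.idealMod (pt y)) (ClSub.idealMod (exc hx b)) : ℚ) : ℝ)) ↔
    (∀ ξ : X, topologicalKrullDim (closure ({ξ} : Set X)) = (1 : ℕ) → x ∈ closure ({ξ} : Set X) → ∀ n : ℕ,
      pt ξ ≤ ptI hx ^ n → ε * (n : ℝ) ≤ ((-ii k (ClSub.idealMod (pt ξ)) L : ℚ) : ℝ)) := by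
  have hd : topologicalKrullDim X = (2 : ℕ) := hdim.trans Nat.cast_ofNat.symm
  haveI := Groth.L21.RR.isNoetherian_of_proper (X := X) k
  haveI := Groth.L21.RR.isNoetherian_of_proper (X := X') k
  obtain ⟨D⟩ := exists_echart hb (hreg x) (ringKrullDim_stalk_closed k hd hx)
  have hd' := dim_up k hd hb
  obtain ⟨hI, hpp, horth, hII⟩ := rules k hbo hd (hreg x) hd' hb
  rw [ptDeg_eq_one] at hII
  push_cast at hII
  haveI := D.isIntegral
  set η := eι hx b (genericPoint (exc hx b).subscheme)
  have hEpt : exc hx b = pt η := eq_pt (exc hx b)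
  have hLp := Groth.L18.Ample.isInvertible_pullback b hL
  -- the numbers on the curves away from the exceptional one
  have hout : ∀ y : X', topologicalKrullDim (closure ({y} : Set X')) = (1 : ℕ) → b y ≠ x →
      topologicalKrullDim (closure ({b y} : Set X)) = (1 : ℕ) ∧ ∃ m : ℕ,
        (pt (b y) ≤ ptI hx ^ m ∧ ¬ pt (b y) ≤ ptI hx ^ (m + 1)) ∧
        ii k (ClSub.idealMod (pt y)) ((Scheme.Modules.pullback b).obj L) = ii k (ClSub.idealMod (pt (b y))) L ∧
        ii k (ClSub.idealMod (pt y)) (ClSub.idealMod (exc hx b)) = m := by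
    intro y hy hyx
    obtain ⟨hξ, m, hm, hf⟩ := exists_curve_mult hbo hdim hreg hb hy hyx
    have hCi := inv_curve (k := k) hd hreg hξ
    refine ⟨hξ, m, hm, ?_, ?_⟩
    · rw [hf _ hLp, hpp hCi hL, horth hL, mul_zero, sub_zero]
    · rw [hf _ hI, ii_comm, horth hCi, hII]
      ring
  constructor
  · intro h ξ hξ _ n hn
    have hξx : ξ ≠ x := fun h => by
      subst h
      rw [hx.closure_eq] at hξ
      have := topologicalKrullDim_zero_of_discreteTopology ({ξ} : Set X)
      rw [hξ] at this
      norm_num at this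
    have hns : ξ ∉ (ptI hx).support := fun h => hξx (by
      have h' : ξ ∈ ((ptI hx).support : Set X) := h
      simpa [ptI] using h')
    haveI := Groth.L22.Ideals.isIso_restrict_compl hb
    obtain ⟨⟨y, hyW⟩, hyξ⟩ : ∃ z, (b ∣_ (ptI hx).support.compl) z = (⟨ξ, hns⟩ : (ptI hx).support.compl) :=
      (Scheme.homeoOfIso (asIso (b ∣_ (ptI hx).support.compl))).surjective _
    have hby : b y = ξ := (morphismRestrict_base_coe b _ ⟨y, hyW⟩).symm.trans (congrArg Subtype.val hyξ)
    subst hby
    haveI := Groth.L22.Ideals.isIso_stalkMap hb y hns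
    obtain ⟨a, c, ha, hc, hac⟩ := dim_closure_add k hd' y
    obtain ⟨a', c', ha', hc', hac'⟩ := dim_closure_add k hd (b y)
    have hcc : c = c' := by
      have := ringKrullDim_eq_of_ringEquiv (asIso (b.stalkMap y)).commRingCatIsoToRingEquiv
      rw [hc, hc'] at this
      exact_mod_cast this.symm
    have ha'1 : a' = 1 := by exact_mod_cast ha'.symm.trans hξ
    have hy : topologicalKrullDim (closure ({y} : Set X')) = (1 : ℕ) := by
      rw [ha, show a = 1 by omega]
    obtain ⟨-, m, ⟨-, hm2⟩, h1, h2⟩ := hout y hy hξx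
    have hnm : n ≤ m := by
      by_contra hlt
      exact hm2 (hn.trans (fun V => by
        rw [Scheme.IdealSheafData.ideal_pow, Scheme.IdealSheafData.ideal_pow, Pi.pow_apply, Pi.pow_apply]
        exact Ideal.pow_le_pow_right (by omega)))
    have hy' := h y hy
    rw [h1, h2] at hy'
    push_cast at hy' ⊢
    nlinarith [mul_le_mul_of_nonneg_left (show (n : ℝ) ≤ m by exact_mod_cast hnm) hε]
  · intro h y hy
    by_cases hyx : b y = x
    · have hyη : pt y = exc hx b := by
        have hys : y ∈ ((exc hx b).support : Set X') := by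
          rw [show (exc hx b).support = (ptI hx).support.preimage b.continuous from
            Scheme.IdealSheafData.support_comap _ _]
          show b y ∈ ((ptI hx).support : Set X)
          simpa [ptI] using hyx
        by_contra hne
        have h2 := Groth.L22.CartierDecomp.two_le_dim hb.1 hys fun z hz h => hne (by
          rw [hEpt, h.trans (hz.eq (isGenericPoint_ι (exc hx b)))])
        obtain ⟨a, c, ha, hc, hac⟩ := dim_closure_add k hd' y
        have : a = 1 := by exact_mod_cast ha.symm.trans hy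
        rw [hc, show c = 1 by omega] at h2
        norm_num at h2
      rw [hyη, horth hL, hII]
      push_cast
      linarith
    · obtain ⟨hξ, m, ⟨hm1, hm2⟩, h1, h2⟩ := hout y hy hyx
      rw [h1, h2]
      push_cast
      by_cases hxc : x ∈ closure ({b y} : Set X)
      · have := h _ hξ hxc m hm1
        push_cast at this
        linarith
      · have hm0 : m = 0 := by
          by_contra hm0
          have h3 := Scheme.IdealSheafData.support_antitone hm1
          have h4 : x ∈ ((ptI hx ^ m).support : Set X) := by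
            rw [Scheme.IdealSheafData.support_pow _ _ hm0]
            simp [ptI]
          have h5 : x ∈ ((pt (b y)).support : Set X) := h3 h4
          rw [Groth.L18.support_vanishingIdeal] at h5
          exact hxc h5
        have hge : (0 : ℝ) ≤ ((-ii k (ClSub.idealMod (pt (b y))) L : ℚ) : ℝ) := by
          exact_mod_cast neg_nonneg.2 (hnef _ hξ)
        rw [hm0]
        push_cast at hge ⊢
        linarith

end Groth.L03.BlowPt.SeshadriSurf
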