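import Groth.Agent.L03.BlowPt.Mult
import Groth.Agent.L03.BlowPt.RegularUp
import Groth.Agent.L03.BlowPt.CanNum
import Groth.Agent.L03.SurfNum.Curves
import Groth.Agent.L17.DevissageMono

/-!
# The strict transform of a curve in the blow-up of a point
-/

set_option autoImplicit false
set_option linter.style.haveILetI false
set_option backward.isDefEq.respectTransparency false
set_option linter.unusedSectionVars false

universe u

open CategoryTheory AlgebraicGeometry TopologicalSpace IsLocalRing
open Groth.L22 Groth.L22.CartierDecomp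

noncomputable section

namespace Groth.L03.BlowPt

variable {X X' : Scheme.{u}}

/-- Maximal points of effective Cartier divisors have local rings of dimension at most one. -/
theorem dim_stalk_le_one_of_maximal [IsLocallyNoetherian X] {R : X.IdealSheafData}
    (hR : BlowUp.IsEffCartierIdeal R) {z : X} (hz : z ∈ (R.support : Set X))
    (hmax : ∀ y ∈ (R.support : Set X), y ⤳ z → y = z) : ringKrullDim (X.presheaf.stalk z) ≤ 1 := by
  obtain ⟨U, hzU, g, -, hg⟩ := hR z
  haveI : IsNoetherianRing Γ(X, U.1) := IsLocallyNoetherian.component_noetherian U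
  have h := LocalDim.primeIdealOf_mem_minimalPrimes_ideal U hzU hz hmax
  rw [hg] at h
  rw [LocalDim.dim_stalk_eq_height U.2 hzU]
  have := Ideal.height_le_one_of_isPrincipal_of_mem_minimalPrimes (Ideal.span {g}) _ h
  exact_mod_cast this

theorem isGenericPoint_ι (C : X.IdealSheafData) [IsIntegral C.subscheme] :
    IsGenericPoint (C.subschemeι (genericPoint C.subscheme)) (C.support : Set X) := by
  have h := (genericPoint_spec C.subscheme).image C.subschemeι.continuous
  rwa [Set.image_univ, C.range_subschemeι, C.support.isClosed.closure_eq] at h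

theorem support_pow_subset (I : X.IdealSheafData) : ∀ n : ℕ, ((I ^ n).support : Set X) ⊆ (I.support : Set X)
  | 0 => by simp [Scheme.IdealSheafData.one_eq_top]
  | n + 1 => by
    rw [pow_succ, Scheme.IdealSheafData.support_mul]
    exact Set.union_subset (support_pow_subset I n) subset_rfl

/-- Ideals extended to the stalk. -/
def stalkIdeal (C : X.IdealSheafData) (U : X.affineOpens) {z : X} (hz : z ∈ U.1) : Ideal (X.presheaf.stalk z) :=
  (C.ideal U).map (X.presheaf.germ U.1 z hz).hom

theorem stalkIdeal_generic (C : X.IdealSheafData) [IsIntegral C.subscheme] {z : X}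
    (hz : IsGenericPoint z (C.support : Set X)) (U : X.affineOpens) (hzU : z ∈ U.1) :
    stalkIdeal C U hzU = maximalIdeal _ := by
  letI : Algebra Γ(X, U.1) (X.presheaf.stalk z) := X.presheaf.algebra_section_stalk ⟨z, hzU⟩
  haveI : IsLocalization.AtPrime (X.presheaf.stalk z) (U.2.primeIdealOf ⟨z, hzU⟩).asIdeal :=
    U.2.isLocalization_stalk ⟨z, hzU⟩
  rw [stalkIdeal, ← primeIdealOf_generic hz U hzU]
  exact IsLocalization.AtPrime.map_eq_maximalIdeal (U.2.primeIdealOf ⟨z, hzU⟩).asIdeal (X.presheaf.stalk z)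

theorem stalkIdeal_le (C : X.IdealSheafData) (U : X.affineOpens) {z : X} (hzU : z ∈ U.1)
    (hz : z ∈ (C.support : Set X)) : stalkIdeal C U hzU ≤ maximalIdeal _ := by
  letI : Algebra Γ(X, U.1) (X.presheaf.stalk z) := X.presheaf.algebra_section_stalk ⟨z, hzU⟩
  haveI : IsLocalization.AtPrime (X.presheaf.stalk z) (U.2.primeIdealOf ⟨z, hzU⟩).asIdeal :=
    U.2.isLocalization_stalk ⟨z, hzU⟩
  refine (Ideal.map_mono ((mem_support_iff hzU).1 hz)).trans (le_of_eq ?_)
  exact IsLocalization.AtPrime.map_eq_maximalIdeal (U.2.primeIdealOf ⟨z, hzU⟩).asIdeal (X.presheaf.stalk z)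

variable {x : X} {hx : IsClosed ({x} : Set X)} {b : X' ⟶ X}
variable (k : Type u) [Field k] [X.Over (Spec (CommRingCat.of k))] [IsProper (X ↘ Spec (CommRingCat.of k))]
  [X'.Over (Spec (CommRingCat.of k))] [IsProper (X' ↘ Spec (CommRingCat.of k))] [IsIntegral X] [IsIntegral X']

include k in
/-- The pullback of a curve is its strict transform plus its multiplicity times the exceptional curve. -/
theorem comap_eq_strict (hdim : topologicalKrullDim X = 2) (hreg : ∀ y : X, IsRegularLocalRing (X.presheaf.stalk y))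
    (hb : BlowUp.IsBlowUp b (ptI hx))
    {C : X.IdealSheafData} [IsIntegral C.subscheme] (hC : topologicalKrullDim (C.support : Set X) = 1)
    {C' : X'.IdealSheafData} [IsIntegral C'.subscheme] (hC' : topologicalKrullDim (C'.support : Set X') = 1)
    (hgen : b (C'.subschemeι (genericPoint C'.subscheme)) = C.subschemeι (genericPoint C.subscheme))
    (m : ℕ) (hm : C ≤ ptI hx ^ m) (hm' : ¬ C ≤ ptI hx ^ (m + 1)) :
    C.comap b = C' * exc hx b ^ m := by
  have hd : topologicalKrullDim X = (2 : ℕ) := hdim.trans Nat.cast_ofNat.symm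
  haveI := Groth.L21.RR.isNoetherian_of_proper (X := X) k
  haveI := Groth.L21.RR.isNoetherian_of_proper (X := X') k
  obtain ⟨D⟩ := exists_echart hb (hreg x) (ringKrullDim_stalk_closed k hd hx)
  have hreg' := regular_up D hb hreg
  have hd' := dim_up k hd hb
  haveI := D.isIntegral
  have hCe := (Groth.Agent.L19.IdealInvertible.isEffCartier_iff C).1
    (Groth.L03.SurfNum.isInvertible_idealMod k hd hreg C hC)
  have hC'e := (Groth.Agent.L19.IdealInvertible.isEffCartier_iff C').1
    (Groth.L03.SurfNum.isInvertible_idealMod k hd' hreg' C' hC')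
  have hξ := isGenericPoint_ι C
  have hξ' := isGenericPoint_ι C'
  set ξ := C.subschemeι (genericPoint C.subscheme)
  set ξ' := C'.subschemeι (genericPoint C'.subscheme)
  have hmemE : ∀ z : X', z ∈ ((exc hx b).support : Set X') ↔ b z = x := fun z => by
    rw [show (exc hx b).support = (ptI hx).support.preimage b.continuous from
      Scheme.IdealSheafData.support_comap _ _]
    show b z ∈ ((ptI hx).support : Set X) ↔ _
    simp [ptI]
  have hξx : ξ ≠ x := fun h => by
    have h1 : (C.support : Set X) = {x} := by rw [← hξ.def, h, hx.closure_eq]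
    rw [h1] at hC
    have := topologicalKrullDim_zero_of_discreteTopology ({x} : Set X)
    rw [hC] at this
    norm_num at this
  have hη : b (genericPoint X') ∉ C.support := by
    obtain ⟨_, he, -⟩ := Groth.L16.Blow.isIntegral_and_birational hb (ptI_ne_bot (hx := hx) hd)
    rw [he]
    exact Groth.L03.SurfAmple.genericPoint_mem_of_isEffCartier hCe
  obtain ⟨hJ, -⟩ := nonempty_pullback_idealMod b hCe hη
  have hle : C.comap b ≤ exc hx b ^ m :=
    ((Scheme.IdealSheafData.map_gc b).monotone_l hm).trans (Groth.L17.Thick.comap_pow b _ m).le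
  have hEm : BlowUp.IsEffCartierIdeal (exc hx b ^ m) := isEffCartier_pow hb.1 m
  have hfac := mul_colon hEm hle
  set Dd := colon (C.comap b) (exc hx b ^ m)
  have hDe : BlowUp.IsEffCartierIdeal Dd := Groth.L22.Ideals.isEffCartier_left_of_mul (J := exc hx b ^ m)
    (by rw [mul_comm, hfac]; exact hJ)
  have hnot : ¬ Dd ≤ exc hx b := fun h => hm' (le_pow_of_comap_le D C (m + 1) (by
    rw [← hfac, pow_succ]
    intro U
    rw [Scheme.IdealSheafData.ideal_mul, Scheme.IdealSheafData.ideal_mul]
    exact Ideal.mul_mono_right (h U)))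
  have hξE : ξ' ∉ ((exc hx b).support : Set X') := fun h => hξx (hgen ▸ (hmemE _).1 h)
  have hξJ : ξ' ∈ ((C.comap b).support : Set X') := by
    rw [Scheme.IdealSheafData.support_comap]
    show b ξ' ∈ (C.support : Set X)
    rw [hgen]; exact hξ.mem
  have hsuppEm := support_pow_subset (exc hx b) m
  have hξD : ξ' ∈ (Dd.support : Set X') := by
    rw [← hfac, Scheme.IdealSheafData.support_mul] at hξJ
    exact hξJ.resolve_left fun h => hξE (hsuppEm h)
  have hfac' := mul_colon hC'e (le_of_generic_mem hξ' hξD)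
  set R := colon Dd C'
  have hRe : BlowUp.IsEffCartierIdeal R := Groth.L22.Ideals.isEffCartier_left_of_mul (J := C')
    (by rw [mul_comm, hfac']; exact hDe)
  suffices hR : R = ⊤ by
    rw [← hfac, ← hfac', hR, ← Scheme.IdealSheafData.one_eq_top, mul_one, mul_comm]
  rw [← Scheme.IdealSheafData.support_eq_bot_iff]
  refine TopologicalSpace.Closeds.ext (Set.eq_empty_of_forall_notMem fun z hz => ?_)
  obtain ⟨y, hyR, -, hymax⟩ := exists_maximal_of_mem R.support.isClosed hz
  have hydim := dim_stalk_le_one_of_maximal hRe hyR hymax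
  by_cases hyx : b y = x
  · by_cases hg : IsGenericPoint y ((exc hx b).support : Set X')
    · exact hnot ((hfac' ▸ (Groth.L17.DevissageMono.mul_le C' R) : Dd ≤ R).trans (le_of_generic_mem hg hyR))
    · have h2 := two_le_dim hb.1 ((hmemE y).2 hyx) fun η hη h => hg (h ▸ hη)
      exact absurd (h2.trans hydim) (by norm_num)
  have hns : b y ∉ (ptI hx).support := fun h => hyx (by
    have h' : b y ∈ ((ptI hx).support : Set X) := h
    simpa [ptI] using h')
  haveI := Groth.L22.Ideals.isIso_stalkMap hb y hns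
  have hyD : y ∈ (Dd.support : Set X') := by
    rw [← hfac', Scheme.IdealSheafData.support_mul]; exact Or.inr hyR
  have hyJ : y ∈ ((C.comap b).support : Set X') := by
    rw [← hfac, Scheme.IdealSheafData.support_mul]; exact Or.inr hyD
  have hyC : b y ∈ (C.support : Set X) := by
    rw [Scheme.IdealSheafData.support_comap] at hyJ; exact hyJ
  have hbyξ : b y = ξ := by
    by_contra hne
    have h2 := two_le_dim hCe hyC fun η hη h => hne (h.trans (hη.eq hξ))
    rw [ringKrullDim_eq_of_ringEquiv (asIso (b.stalkMap y)).commRingCatIsoToRingEquiv] at h2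
    exact absurd (h2.trans hydim) (by norm_num)
  have hyξ' : y = ξ' := by
    haveI := Groth.L22.Ideals.isIso_restrict_compl hb
    have hns' : b ξ' ∉ (ptI hx).support := fun h => hξE ((hmemE _).2 (by
      have h' : b ξ' ∈ ((ptI hx).support : Set X) := h
      simpa [ptI] using h'))
    have hinj := (b ∣_ (ptI hx).support.compl).isOpenEmbedding.injective (a₁ := ⟨y, hns⟩) (a₂ := ⟨ξ', hns'⟩)
      (Subtype.ext (by rw [morphismRestrict_base_coe, morphismRestrict_base_coe]; exact hbyξ.trans hgen.symm))
    exact congrArg Subtype.val hinj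
  subst hyξ'
  -- at the generic point of the strict transform the pullback is reduced
  obtain ⟨_, ⟨U, hU, rfl⟩, hξU, -⟩ := X.isBasis_affineOpens.exists_subset_of_mem_open (Set.mem_univ ξ) isOpen_univ
  obtain ⟨_, ⟨V, hV, rfl⟩, hyV, hVle⟩ := X'.isBasis_affineOpens.exists_subset_of_mem_open
    (show ξ' ∈ b ⁻¹ᵁ U from show b ξ' ∈ U from hgen ▸ hξU) (b ⁻¹ᵁ U).2
  have hbU : b ξ' ∈ U := hgen ▸ hξU
  have key : stalkIdeal (C.comap b) ⟨V, hV⟩ hyV = maximalIdeal _ := by
    have h1 : stalkIdeal C ⟨U, hU⟩ hbU = maximalIdeal _ :=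
      stalkIdeal_generic C (hgen.symm ▸ hξ) ⟨U, hU⟩ hbU
    rw [stalkIdeal, Groth.L22.Ideals.comap_ideal b C ⟨U, hU⟩ ⟨V, hV⟩ hVle, Ideal.map_map]
    have hcomp : (X'.presheaf.germ V ξ' hyV).hom.comp (b.appLE U V hVle).hom =
        (b.stalkMap ξ').hom.comp (X.presheaf.germ U (b ξ') hbU).hom := by
      rw [← CommRingCat.hom_comp, ← CommRingCat.hom_comp, Scheme.Hom.germ_stalkMap, Scheme.Hom.appLE,
        Category.assoc, X'.presheaf.germ_res]
    rw [hcomp, ← Ideal.map_map]
    refine (congrArg (Ideal.map (b.stalkMap ξ').hom) h1).trans ?_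
    have hbij := ConcreteCategory.bijective_of_isIso (b.stalkMap ξ')
    exact IsLocalRing.eq_maximalIdeal
      ((Ideal.isMaximal_map_iff_of_bijective (f := (b.stalkMap ξ').hom) hbij).2 inferInstance)
  have hsq : maximalIdeal (X'.presheaf.stalk ξ') ≤ maximalIdeal _ * maximalIdeal _ := by
    conv_lhs => rw [← key, ← hfac, ← hfac']
    rw [stalkIdeal, Scheme.IdealSheafData.ideal_mul, Pi.mul_apply, Scheme.IdealSheafData.ideal_mul, Pi.mul_apply,
      Ideal.map_mul, Ideal.map_mul]
    exact Ideal.mul_le_right.trans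
      (Ideal.mul_mono (stalkIdeal_le C' ⟨V, hV⟩ hyV hξ'.mem) (stalkIdeal_le R ⟨V, hV⟩ hyV hyR))
  have hbot : maximalIdeal (X'.presheaf.stalk ξ') = ⊥ :=
    Submodule.eq_bot_of_le_smul_of_le_jacobson_bot _ _ (IsNoetherian.noetherian _) (by rwa [smul_eq_mul])
      (maximalIdeal_le_jacobson _)
  have hfield : IsField (X'.presheaf.stalk ξ') := IsLocalRing.isField_iff_maximalIdeal_eq.2 hbot
  have h1 := dim_generic_eq_one hC'e hξ'
  rw [ringKrullDim_eq_zero_of_isField hfield] at h1
  norm_num at h1

end Groth.L03.BlowPt
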