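import Groth.Agent.L11.BlowSmooth.Alg
import Groth.Agent.L22.Ideal

/-!
# Laurent splitting for two charts
-/

set_option autoImplicit false
set_option backward.isDefEq.respectTransparency false
set_option backward.isDefEq.respectTransparency.types false

universe u

open Groth.L11.BlowSmooth Groth.L13.BU

namespace Groth.L03.BlowPt

/-- In a ring where the two fractions are inverse, monomials split. -/
theorem exists_monomial_split {B₀ B₁ R : Type*} [CommRing B₀] [CommRing B₁] [CommRing R] (r₀ : B₀ →+* R)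
    (r₁ : B₁ →+* R) (T₀ : B₀) (T₁ : B₁) (hts : r₀ T₀ * r₁ T₁ = 1) (a₀ : B₀) (a₁ : B₁) (ha : r₀ a₀ = r₁ a₁)
    (i n : ℕ) : ∃ a c, r₀ a₀ * r₀ T₀ ^ i * r₁ T₁ ^ n = r₀ a + r₁ c := by
  rcases le_total n i with h | h
  · obtain ⟨d, rfl⟩ := Nat.exists_eq_add_of_le h
    refine ⟨a₀ * T₀ ^ d, 0, ?_⟩
    simp only [map_mul, map_pow, map_zero, add_zero]
    rw [pow_add, mul_comm (_ ^ n) (_ ^ d), mul_assoc, mul_assoc, ← mul_pow, hts, one_pow, mul_one]
  · obtain ⟨d, rfl⟩ := Nat.exists_eq_add_of_le h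
    refine ⟨0, a₁ * T₁ ^ d, ?_⟩
    simp only [map_mul, map_pow, map_zero, zero_add]
    rw [pow_add, ← ha, mul_assoc, ← mul_assoc (_ ^ i), ← mul_pow, hts, one_pow, one_mul]

/-- A chart is generated over the base by its fraction, so its twisted elements split. -/
theorem exists_split {A : Type u} [CommRing A] (f : Fin 2 → A) {B₀ B₁ R : Type*} [CommRing B₀] [CommRing B₁]
    [CommRing R] (ρ : B₀ →+* SC f 0) (hρ : Function.Bijective ρ) (φ₀ : A →+* B₀) (φ₁ : A →+* B₁)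
    (hφ : ∀ a, ρ (φ₀ a) = sh f 0 a) (T₀ : B₀) (hT₀ : ρ T₀ = sfr f 0 1) (T₁ : B₁) (r₀ : B₀ →+* R) (r₁ : B₁ →+* R)
    (hts : r₀ T₀ * r₁ T₁ = 1) (hrφ : ∀ a, r₀ (φ₀ a) = r₁ (φ₁ a)) (x : B₀) (n : ℕ) :
    ∃ a c, r₀ x * r₁ T₁ ^ n = r₀ a + r₁ c := by
  obtain ⟨m, v, hv, hvc⟩ := frac_surjective (sI f) (f 0) (mem_pow_one f 0) (ρ x)
  obtain ⟨Q, hQ⟩ := frac_mem_range_ev f 0 m v hv
  rw [← hQ] at hvc
  clear hQ hv v m
  induction Q using MvPolynomial.induction_on generalizing x n with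
  | C a =>
    have h : x = φ₀ a := hρ.1 (by rw [hφ, ← hvc, ev, MvPolynomial.eval₂Hom_C])
    subst h
    obtain ⟨b, c, h⟩ := exists_monomial_split r₀ r₁ T₀ T₁ hts (φ₀ a) (φ₁ a) (hrφ a) 0 n
    exact ⟨b, c, by simpa using h⟩
  | add Q Q' hQ hQ' =>
    obtain ⟨a, ha⟩ := hρ.2 (ev f 0 Q)
    obtain ⟨a', ha'⟩ := hρ.2 (ev f 0 Q')
    have h : x = a + a' := hρ.1 (by rw [map_add, ha, ha', ← map_add, hvc])
    subst h
    obtain ⟨b, c, h⟩ := hQ a n ha.symm
    obtain ⟨b', c', h'⟩ := hQ' a' n ha'.symm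
    refine ⟨b + b', c + c', ?_⟩
    simp only [map_add, add_mul, h, h']
    abel
  | mul_X Q j hQ =>
    obtain ⟨a, ha⟩ := hρ.2 (ev f 0 Q)
    fin_cases j
    · have h : x = a := hρ.1 (by
        rw [← hvc, ha, map_mul]
        erw [ev_X_self f 0]
        exact mul_one (ev f 0 Q))
      subst h
      exact hQ x n ha.symm
    · have h : x = a * T₀ := hρ.1 (by
        rw [← hvc, map_mul, map_mul, ha, hT₀]
        congr 1
        simp [ev])
      subst h
      cases n with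
      | zero => exact ⟨a * T₀, 0, by simp⟩
      | succ n =>
        obtain ⟨b, c, h⟩ := hQ a n ha.symm
        refine ⟨b, c, ?_⟩
        rw [← h, map_mul, pow_succ', mul_assoc, ← mul_assoc (r₀ T₀), hts, one_mul]

/-- Regular elements are reflected by bijective homomorphisms. -/
theorem mem_nonZeroDivisors_of_bijective {B R : Type*} [CommRing B] [CommRing R] (ρ : B →+* R)
    (hρ : Function.Bijective ρ) {x : B} {r : R} (hx : ρ x = r) (hr : r ∈ nonZeroDivisors R) :
    x ∈ nonZeroDivisors B := by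
  rw [mem_nonZeroDivisors_iff_right] at hr ⊢
  intro a ha
  exact hρ.1 (by rw [map_zero]; exact hr _ (by rw [← hx, ← map_mul, ha, map_zero]))

/-- Two fractions of opposite sense are inverse. -/
theorem mul_eq_one_of_fractions {R : Type*} [CommRing R] {x y s t : R} (hx : x ∈ nonZeroDivisors R)
    (hy : y = x * t) (hx' : x = y * s) : t * s = 1 :=
  (mul_cancel_left_mem_nonZeroDivisors hx).1 (by rw [mul_one, ← mul_assoc, ← hy, ← hx'])

end Groth.L03.BlowPt
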