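import Groth.Agent.L03.BlowPt.Sections
import Groth.Agent.L03.BlowPt.MVSurj
import Groth.Agent.L03.BlowPt.TwoGenAlg
import Groth.Agent.L22.Inter.PushProper

/-!
# Blow-ups of two-generated ideals are acyclic over the base
-/

set_option autoImplicit false
set_option linter.style.haveILetI false
set_option backward.isDefEq.respectTransparency false
set_option backward.isDefEq.respectTransparency.types false

universe u

open CategoryTheory CategoryTheory.Limits AlgebraicGeometry TopologicalSpace Opposite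
open Groth.L11.BlowSmooth Groth.L13.BU
open Groth.L18.Frame (ro ro_ro ro_mul)

noncomputable section

namespace Groth.L03.BlowPt

variable {X X' : Scheme.{u}} {b : X' ⟶ X} {J : X.IdealSheafData}

/-- Restricting a structure map of an affine piece. -/
theorem ro_appLE {U : X.Opens} {V W : X'.Opens} (hle : V ≤ b ⁻¹ᵁ U) (h : W ≤ V) (a : Γ(X, U)) :
    ro h (b.appLE U V hle a) = b.appLE U W (h.trans hle) a := by
  show (b.appLE U V hle ≫ X'.presheaf.map (homOfLE h).op) a = _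
  rw [Scheme.Hom.appLE_map]

/-- Points where a function on a chart is a unit. -/
theorem mem_basicOpen_chart {R : Type u} [CommRing R] (C : Spec (CommRingCat.of R) ⟶ X') [IsOpenImmersion C]
    {V : X'.Opens} (htop : ⊤ ≤ C ⁻¹ᵁ V) (T : Γ(X', V)) (r : R)
    (hT : (Scheme.ΓSpecIso (CommRingCat.of R)).hom (C.appLE V ⊤ htop T) = r) (w : Spec (CommRingCat.of R))
    (hw : C w ∈ X'.basicOpen T) : r ∉ w.asIdeal := by
  have hw' : w ∈ C ⁻¹ᵁ X'.basicOpen T := hw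
  rw [Scheme.preimage_basicOpen] at hw'
  have h2 : w ∈ (Spec (CommRingCat.of R)).basicOpen (C.appLE V ⊤ htop T) := by
    rw [Scheme.Hom.appLE, CommRingCat.comp_apply, Scheme.basicOpen_res]
    exact ⟨trivial, hw'⟩
  rw [← Iso.hom_inv_id_apply (Scheme.ΓSpecIso (CommRingCat.of R)) (C.appLE V ⊤ htop T), hT,
    basicOpen_eq_of_affine] at h2
  exact h2

/-- The sections of a chart are the chart ring, compatibly with the base. -/
theorem exists_chart_sections {U : X.affineOpens} {R : Type u} [CommRing R] (σ : Γ(X, U.1) →+* R)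
    (C : Spec (CommRingCat.of R) ⟶ X') [IsOpenImmersion C]
    (hC : C ≫ b = Spec.map (CommRingCat.ofHom σ) ≫ U.2.fromSpec) (hle : C.opensRange ≤ b ⁻¹ᵁ U.1) :
    ∃ ρ : Γ(X', C.opensRange) →+* R, Function.Bijective ρ ∧ (∀ a, ρ (b.appLE U.1 C.opensRange hle a) = σ a) ∧
      ∀ (T : Γ(X', C.opensRange)) (w : Spec (CommRingCat.of R)), C w ∈ X'.basicOpen T → ρ T ∉ w.asIdeal := by
  have htop : ⊤ ≤ C ⁻¹ᵁ C.opensRange := fun w _ => ⟨w, rfl⟩
  let ι := Scheme.ΓSpecIso (CommRingCat.of R)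
  refine ⟨ι.hom.hom.comp (C.appLE C.opensRange ⊤ htop).hom,
    (ConcreteCategory.bijective_of_isIso ι.hom).comp
      (Groth.L11.BlowProj.appLE_bijective_of_range C C.opensRange rfl htop), fun a => ?_,
    fun T w hw => mem_basicOpen_chart C htop T _ rfl w hw⟩
  show ι.hom (C.appLE C.opensRange ⊤ htop (b.appLE U.1 C.opensRange hle a)) = _
  rw [← CommRingCat.comp_apply (b.appLE U.1 C.opensRange hle), Scheme.Hom.appLE_comp_appLE,
    appLE_SpecMap_fromSpec U.2 σ _ hC]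
  exact Iso.inv_hom_id_apply ι _

/-- Over an affine open where the ideal has two generators the blow-up is two affine charts, and
functions on the overlap are sums. -/
theorem exists_two_cover (hb : BlowUp.IsBlowUp b J) (U : X.affineOpens) (f : Fin 2 → Γ(X, U.1))
    (hf : J.ideal U = sI f) :
    ∃ V₀ V₁ : X'.Opens, IsAffineOpen V₀ ∧ IsAffineOpen V₁ ∧ IsAffineOpen (V₀ ⊓ V₁) ∧ V₀ ⊔ V₁ = b ⁻¹ᵁ U.1 ∧
      ∀ w : Γ(X', V₀ ⊓ V₁), ∃ (a : Γ(X', V₀)) (c : Γ(X', V₁)),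
        w = ro (inf_le_left : V₀ ⊓ V₁ ≤ V₀) a + ro (inf_le_right : V₀ ⊓ V₁ ≤ V₁) c := by
  obtain ⟨C, hCo, hCb, hCc⟩ := Groth.L11.BlowProj.exists_charts hb U f hf
  haveI := hCo 0
  haveI := hCo 1
  have hle : ∀ i, haveI := hCo i; (C i).opensRange ≤ b ⁻¹ᵁ U.1 := by
    rintro i _ ⟨w, rfl⟩
    show b (C i w) ∈ U.1
    rw [← Scheme.Hom.comp_apply, hCb i, Scheme.Hom.comp_apply]
    exact U.2.range_fromSpec.le ⟨_, rfl⟩
  let V₀ := (C 0).opensRange
  let V₁ := (C 1).opensRange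
  have hV₀ : IsAffineOpen V₀ := isAffineOpen_opensRange (C 0)
  have hV₁ : IsAffineOpen V₁ := isAffineOpen_opensRange (C 1)
  obtain ⟨ρ₀, hρ₀, hφ₀, hbo₀⟩ := exists_chart_sections (sh f 0) (C 0) (hCb 0) (hle 0)
  obtain ⟨ρ₁, hρ₁, hφ₁, -⟩ := exists_chart_sections (sh f 1) (C 1) (hCb 1) (hle 1)
  obtain ⟨T₀, hT₀⟩ := hρ₀.2 (sfr f 0 1)
  obtain ⟨T₁, hT₁⟩ := hρ₁.2 (sfr f 1 0)
  have e0 : b.appLE U.1 V₀ (hle 0) (f 1) = b.appLE U.1 V₀ (hle 0) (f 0) * T₀ := hρ₀.1 (by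
    rw [map_mul, hφ₀, hφ₀, hT₀]; exact chartHom_eq (sI f) (f 0) (mem_pow_one f 0) _ (mem_pow_one f _))
  have e1 : b.appLE U.1 V₁ (hle 1) (f 0) = b.appLE U.1 V₁ (hle 1) (f 1) * T₁ := hρ₁.1 (by
    rw [map_mul, hφ₁, hφ₁, hT₁]; exact chartHom_eq (sI f) (f 1) (mem_pow_one f 1) _ (mem_pow_one f _))
  have hnzd : b.appLE U.1 V₀ (hle 0) (f 0) ∈ nonZeroDivisors Γ(X', V₀) :=
    mem_nonZeroDivisors_of_bijective ρ₀ hρ₀ (hφ₀ (f 0)) (chartHom_nonZeroDivisor (sI f) (f 0) (mem_pow_one f 0))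
  have hunit : ∀ (W : X'.affineOpens) (h0 : W.1 ≤ V₀) (h1 : W.1 ≤ V₁), ro h0 T₀ * ro h1 T₁ = 1 := by
    intro W h0 h1
    have hm := Groth.L22.Ideals.map_mem_nonZeroDivisors (U := ⟨V₀, hV₀⟩) (V := W) h0 hnzd
    have f0 := congrArg (ro h0) e0
    have f1 := congrArg (ro h1) e1
    rw [ro_mul, ro_appLE, ro_appLE] at f0 f1
    exact mul_eq_one_of_fractions (Eq.mp (congrArg (· ∈ nonZeroDivisors Γ(X', W.1)) (ro_appLE (hle 0) h0 (f 0))) hm)
      f0 f1
  have hW : V₀ ⊓ V₁ = X'.basicOpen T₀ := by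
    refine le_antisymm (fun z hz => ?_) (fun z hz => ⟨X'.basicOpen_le _ hz, ?_⟩)
    · obtain ⟨W, hWa, hzW, hWle⟩ := exists_isAffineOpen_mem_and_subset (x := z) (U := V₀ ⊓ V₁) hz
      have h0 : W ≤ V₀ := fun y hy => (hWle hy).1
      have h1 : W ≤ V₁ := fun y hy => (hWle hy).2
      have hu : IsUnit (ro h0 T₀) := IsUnit.of_mul_eq_one _ (hunit ⟨W, hWa⟩ h0 h1)
      have h := (X'.basicOpen_of_isUnit hu).ge hzW
      rw [Scheme.basicOpen_res] at h
      exact h.2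
    · obtain ⟨w, rfl⟩ := X'.basicOpen_le _ hz
      refine Groth.L11.BlowProj.mem_range_chart hb f U.2.fromSpec 0 1 (C 0) (hCb 0) (C 1) (hCb 1) w ?_
      rw [← hT₀]
      exact hbo₀ T₀ w hz
  have hWa : IsAffineOpen (V₀ ⊓ V₁) := hW ▸ hV₀.basicOpen T₀
  refine ⟨V₀, V₁, hV₀, hV₁, hWa, ?_, fun w => ?_⟩
  · refine le_antisymm (sup_le (hle 0) (hle 1)) fun z hz => ?_
    obtain ⟨i, hi⟩ := hCc z hz
    fin_cases i
    · exact Opens.mem_sup.2 (Or.inl hi)
    · exact Opens.mem_sup.2 (Or.inr hi)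
  let r₀ := (X'.presheaf.map (homOfLE (inf_le_left : V₀ ⊓ V₁ ≤ V₀)).op).hom
  let r₁ := (X'.presheaf.map (homOfLE (inf_le_right : V₀ ⊓ V₁ ≤ V₁)).op).hom
  have hts : r₀ T₀ * r₁ T₁ = 1 := hunit ⟨_, hWa⟩ inf_le_left inf_le_right
  letI : Algebra Γ(X', V₀) Γ(X', V₀ ⊓ V₁) := r₀.toAlgebra
  haveI : IsLocalization.Away T₀ Γ(X', V₀ ⊓ V₁) :=
    hV₀.isLocalization_of_eq_basicOpen T₀ (homOfLE inf_le_left) hW
  obtain ⟨n, c, hc⟩ := IsLocalization.Away.surj T₀ w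
  have hc' : w * r₀ T₀ ^ n = r₀ c := hc
  obtain ⟨a, a', ha⟩ := exists_split f ρ₀ hρ₀ (b.appLE U.1 V₀ (hle 0)).hom (b.appLE U.1 V₁ (hle 1)).hom hφ₀
    T₀ hT₀ T₁ r₀ r₁ hts (fun a => (ro_appLE (hle 0) inf_le_left a).trans (ro_appLE (hle 1) inf_le_right a).symm) c n
  refine ⟨a, a', Eq.trans ?_ ha⟩
  rw [← hc', mul_assoc, ← mul_pow, hts, one_pow, mul_one]

open Groth.L17 in
/-- The higher direct images of the structure sheaf vanish. -/
theorem isZero_Rpush_of_two_gen [QuasiCompact b] [QuasiSeparated b] [HasInjectiveResolutions X'.Modules]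
    (hb : BlowUp.IsBlowUp b J)
    (hgen : ∀ y : X, ∃ (U : X.affineOpens) (f : Fin 2 → Γ(X, U.1)), y ∈ U.1 ∧ J.ideal U = sI f) (q : ℕ) :
    IsZero ((Coh.Rpush b (q + 1)).obj (Coh.structureModule X')) := by
  haveI : Coh.IsQCoh (Coh.structureModule X') := Groth.L19.Conormal.isQCoh_structureModule _
  set R := (Coh.Rpush b (q + 1)).obj (Coh.structureModule X')
  have hsec : ∀ (U : X.affineOpens) (f : Fin 2 → Γ(X, U.1)), J.ideal U = sI f → Subsingleton Γ(R, U.1) := by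
    intro U f hf
    obtain ⟨V₀, V₁, h0, h1, h01, hsup, hsum⟩ := exists_two_cover hb U f hf
    have key : ∀ x : HU (X := X'.toTopCat) (V₀ ⊔ V₁) (Coh.toAb (Coh.structureModule X')) (q + 1), x = 0 := by
      intro x
      cases q with
      | zero =>
        refine hu_sup_vanish_of_surjective (fun z => ?_) (fun z => hu_affine_eq_zero _ h0 0 z)
          (fun z => hu_affine_eq_zero _ h1 0 z) x
        obtain ⟨a, c, hac⟩ := hsum (hu₀ _ _ z)
        refine ⟨(hu₀ _ _).symm a, (hu₀ _ _).symm c, (hu₀ _ _).injective ?_⟩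
        rw [map_add, hu₀_res, hu₀_res, AddEquiv.apply_symm_apply, AddEquiv.apply_symm_apply]
        exact hac
      | succ q =>
        exact hu_sup_vanish (fun z => hu_affine_eq_zero _ h01 q z) (fun z => hu_affine_eq_zero _ h0 (q + 1) z)
          (fun z => hu_affine_eq_zero _ h1 (q + 1) z) x
    have h2 : Subsingleton (HU (X := X'.toTopCat) (b ⁻¹ᵁ U.1) (Coh.toAb (Coh.structureModule X')) (q + 1)) :=
      hsup ▸ subsingleton_of_forall_eq 0 key
    exact @Equiv.subsingleton _ _ (Groth.L17.CohSections.equiv b U.2 _ (q + 1)).toEquiv.symm h2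
  rw [IsZero.iff_id_eq_zero]
  refine Scheme.Modules.hom_ext _ _ fun V => ConcreteCategory.hom_ext _ _ fun s => ?_
  choose U f hyU hf using hgen
  choose W hW hyW hWle using fun y : V =>
    exists_isAffineOpen_mem_and_subset (x := y.1) (U := V ⊓ (U y.1).1) ⟨y.2, hyU y.1⟩
  refine TopCat.Sheaf.eq_of_locally_eq' ⟨R.presheaf, R.isSheaf⟩ W V (fun y => homOfLE fun z hz => (hWle y hz).1)
    (fun z hz => Opens.mem_iSup.2 ⟨⟨z, hz⟩, hyW ⟨z, hz⟩⟩) _ _ fun y => ?_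
  have hWU : W y ≤ (U y.1).1 := fun z hz => (hWle y hz).2
  haveI := hsec ⟨W y, hW y⟩ (fun l => ro hWU (f y.1 l)) (by
    rw [← J.map_ideal (U := ⟨W y, hW y⟩) (V := U y.1) hWU, hf y.1, Ideal.map_span, ← Set.range_comp]
    rfl)
  exact Subsingleton.elim (α := Γ(R, W y)) _ _

end Groth.L03.BlowPt
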